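import Mathlib
import Cfsg.Prelude.Def_GeometricClasses
import Cfsg.Agent.Lib.Helper99.AschDefs
import Cfsg.Agent.Lib.Helper23.AschSpDefs

/-!
# Project ASCHSP (helper23), kit of helper10: the Mathlib bilinear form attached to a frozen symplectic form,
orthogonal complements, invariance under isometries.  Used by ASCHSP-[C1] and ASCHSP-[C2B-ODD].
-/

set_option autoImplicit false
set_option linter.unusedSectionVars false

namespace Cfsg.Agent.Lib.Helper10.AschSpKit

open Cfsg Cfsg.Geo Cfsg.Agent.Lib.Helper23.AschSp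
open scoped MatrixGroups Matrix

variable {ι : Type} [Fintype ι] [DecidableEq ι] {F : Type*} [Field F]
  {f : (ι → F) → (ι → F) → F}

/-- the Mathlib bilinear form of a frozen bilinear form -/
noncomputable def toB (hf : IsBilinearForm f) : LinearMap.BilinForm F (ι → F) :=
  LinearMap.mk₂ F f hf.add_left (fun c m n => by rw [smul_eq_mul]; exact hf.smul_left c m n)
    hf.add_right (fun c m n => by rw [smul_eq_mul]; exact hf.smul_right c m n)

theorem toB_apply (hf : IsBilinearForm f) (u v : ι → F) : toB hf u v = f u v := rfl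

theorem toB_isRefl (hs : IsSymplecticForm f) : (toB hs.bilinear).IsRefl := by
  intro x y hxy
  rw [toB_apply] at hxy ⊢
  rw [hs.skew, hxy, neg_zero]

theorem toB_nondegenerate (hs : IsSymplecticForm f) : (toB hs.bilinear).Nondegenerate := by
  constructor
  · intro x hx
    by_contra hne
    obtain ⟨y, hy⟩ := (hs.nondegenerate x hne).2
    exact hy (hx y)
  · intro y hy
    by_contra hne
    obtain ⟨x, hx⟩ := (hs.nondegenerate y hne).1
    exact hx (hy x)

/-- the orthogonal complement `{v | ∀ w ∈ W, f w v = 0}` -/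
noncomputable def orth (hf : IsBilinearForm f) (W : Submodule F (ι → F)) : Submodule F (ι → F) :=
  (toB hf).orthogonal W

theorem mem_orth (hf : IsBilinearForm f) (W : Submodule F (ι → F)) (v : ι → F) :
    v ∈ orth hf W ↔ ∀ w ∈ W, f w v = 0 := by
  unfold orth
  rw [LinearMap.BilinForm.mem_orthogonal_iff]
  rfl

theorem finrank_orth (hs : IsSymplecticForm f) (W : Submodule F (ι → F)) :
    Module.finrank F W + Module.finrank F (orth hs.bilinear W) = Fintype.card ι := by
  have h1 := LinearMap.BilinForm.finrank_orthogonal (toB_nondegenerate hs) W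
  have h2 : Module.finrank F W ≤ Module.finrank F (ι → F) := Submodule.finrank_le W
  have h3 : Module.finrank F (ι → F) = Fintype.card ι := Module.finrank_fintype_fun_eq_card F
  unfold orth
  omega

theorem orth_orth (hs : IsSymplecticForm f) (W : Submodule F (ι → F)) :
    orth hs.bilinear (orth hs.bilinear W) = W :=
  LinearMap.BilinForm.orthogonal_orthogonal (toB_nondegenerate hs) (toB_isRefl hs) W

/-- a totally singular subspace has at most half the dimension -/
theorem two_mul_finrank_le_of_totallySingular (hs : IsSymplecticForm f) (W : Submodule F (ι → F))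
    (hW : IsTotallySingularFor f W) : 2 * Module.finrank F W ≤ Fintype.card ι := by
  have h1 : W ≤ orth hs.bilinear W := by
    intro v hv
    rw [mem_orth]
    intro w hw
    exact hW w hw v hv
  have h2 := Submodule.finrank_mono h1
  have h3 := finrank_orth hs W
  omega

/-- `g (g⁻¹ w) = w` -/
theorem mulVec_inv_mulVec (g : GL ι F) (w : ι → F) :
    (g : Matrix ι ι F) *ᵥ (((g⁻¹ : GL ι F) : Matrix ι ι F) *ᵥ w) = w := by
  rw [Matrix.mulVec_mulVec, ← Units.val_mul, mul_inv_cancel, Units.val_one, Matrix.one_mulVec]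

theorem inv_mulVec_mulVec (g : GL ι F) (w : ι → F) :
    ((g⁻¹ : GL ι F) : Matrix ι ι F) *ᵥ ((g : Matrix ι ι F) *ᵥ w) = w := by
  rw [Matrix.mulVec_mulVec, ← Units.val_mul, inv_mul_cancel, Units.val_one, Matrix.one_mulVec]

/-- a subgroup leaving a subspace invariant lies in its stabiliser -/
theorem le_subspaceStabilizer (H : Subgroup (GL ι F)) (W : Submodule F (ι → F))
    (key : ∀ g ∈ H, ∀ v ∈ W, (g : Matrix ι ι F) *ᵥ v ∈ W) :
    H ≤ subspaceStabilizer W := by
  intro g hg
  show g ∈ stabilizing (glToMat ι F) (W : Set (ι → F))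
  intro v
  constructor
  · intro hv
    exact key g hg v hv
  · intro hv
    have h4 := key g⁻¹ (H.inv_mem hg) _ hv
    have h5 : ((g⁻¹ : GL ι F) : Matrix ι ι F) *ᵥ ((glToMat ι F) g *ᵥ v) = v :=
      inv_mulVec_mulVec g v
    rw [h5] at h4
    exact h4

/-- invariance of a subspace in the `map ≤` form gives the pointwise form -/
theorem mulVec_mem_of_map_le (H : Subgroup (GL ι F)) (W : Submodule F (ι → F))
    (hW : ∀ s ∈ matrixSet H, W.map (Matrix.toLin' s) ≤ W) :
    ∀ g ∈ H, ∀ v ∈ W, (g : Matrix ι ι F) *ᵥ v ∈ W := by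
  intro g hg v hv
  have h1 := hW (g : Matrix ι ι F) ⟨g, hg, rfl⟩
  have h2 : Matrix.toLin' (g : Matrix ι ι F) v ∈ W.map (Matrix.toLin' (g : Matrix ι ι F)) :=
    Submodule.mem_map_of_mem hv
  have h3 := h1 h2
  simpa [Matrix.toLin'_apply] using h3

/-- the orthogonal complement of an invariant subspace is invariant under isometries -/
theorem orth_invariant (hf : IsBilinearForm f) (H : Subgroup (GL ι F)) (hH : H ≤ isoGL f)
    (W : Submodule F (ι → F)) (key : ∀ g ∈ H, ∀ v ∈ W, (g : Matrix ι ι F) *ᵥ v ∈ W) :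
    ∀ g ∈ H, ∀ v ∈ orth hf W, (g : Matrix ι ι F) *ᵥ v ∈ orth hf W := by
  intro g hg v hv
  rw [mem_orth] at hv ⊢
  intro w hw
  have h1 := mulVec_inv_mulVec g w
  have h2 : f ((g : Matrix ι ι F) *ᵥ (((g⁻¹ : GL ι F) : Matrix ι ι F) *ᵥ w))
      ((g : Matrix ι ι F) *ᵥ v) = f (((g⁻¹ : GL ι F) : Matrix ι ι F) *ᵥ w) v :=
    (mem_isoGL.1 (hH hg)) _ _
  rw [h1] at h2
  rw [h2]
  exact hv _ (key g⁻¹ (H.inv_mem hg) w hw)

/-- `W` is non-degenerate for `f` iff it meets its orthogonal complement trivially -/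
theorem isNondegenerateOn_of_inf_orth_eq_bot (hs : IsSymplecticForm f) (W : Submodule F (ι → F))
    (h : W ⊓ orth hs.bilinear W = ⊥) : IsNondegenerateOn f W := by
  intro w hw hw0
  have hnot : w ∉ orth hs.bilinear W := by
    intro hwp
    have : w ∈ W ⊓ orth hs.bilinear W := ⟨hw, hwp⟩
    rw [h] at this
    exact hw0 ((Submodule.mem_bot F).1 this)
  rw [mem_orth] at hnot
  push Not at hnot
  obtain ⟨x, hx, hxw⟩ := hnot
  refine ⟨⟨x, hx, hxw⟩, ⟨x, hx, ?_⟩⟩
  rw [hs.skew]
  exact neg_ne_zero.2 hxw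

end Cfsg.Agent.Lib.Helper10.AschSpKit
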