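import Mathlib
import Cfsg.Prelude.Def_GeometricClasses
import Cfsg.Agent.Lib.Helper99.AschDefs
import Cfsg.Agent.Lib.Helper23.AschSpDefs
import Cfsg.Agent.Lib.Helper10.AschSpKit

/-!
# Project ASCHSP (helper23), module [C1] (helper10): a reducible group of isometries of a symplectic form lies in the
stabiliser of a totally singular subspace, of a non-degenerate subspace of dimension `< m`, or of a pair of
orthogonal non-degenerate subspaces of dimension `m`.
-/

set_option autoImplicit false
set_option linter.unusedSectionVars false

namespace Cfsg.Agent.Lib.Helper10.AschSpC1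

open Cfsg Cfsg.Geo Cfsg.Agent.Lib.Helper23.AschSp Cfsg.Agent.Lib.Helper10.AschSpKit
open scoped MatrixGroups Matrix

variable {ι : Type} [Fintype ι] [DecidableEq ι] {F : Type*} [Field F]

/-- a subspace invariant under a group is mapped onto itself by every member -/
theorem map_eq_of_invariant (H : Subgroup (GL ι F)) (W : Submodule F (ι → F))
    (key : ∀ g ∈ H, ∀ v ∈ W, (g : Matrix ι ι F) *ᵥ v ∈ W) (g : GL ι F) (hg : g ∈ H) :
    W.map (Matrix.toLin' (g : Matrix ι ι F)) = W := by
  apply le_antisymm
  · rintro x ⟨v, hv, rfl⟩
    rw [Matrix.toLin'_apply]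
    exact key g hg v hv
  · intro w hw
    refine ⟨((g⁻¹ : GL ι F) : Matrix ι ι F) *ᵥ w, key g⁻¹ (H.inv_mem hg) w hw, ?_⟩
    rw [Matrix.toLin'_apply]
    exact mulVec_inv_mulVec g w

theorem iSup_fin_two_eq (D : Fin 2 → Submodule F (ι → F)) : iSup D = D 0 ⊔ D 1 := by
  apply le_antisymm
  · apply iSup_le
    intro i
    fin_cases i
    · exact le_sup_left
    · exact le_sup_right
  · exact sup_le (le_iSup D 0) (le_iSup D 1)

end Cfsg.Agent.Lib.Helper10.AschSpC1

namespace Cfsg.Agent.Lib.Helper23.AschSp

open Cfsg Cfsg.Geo Cfsg.Agent.Lib.Helper99.Asch Cfsg.Agent.Lib.Helper10.AschSpKit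
  Cfsg.Agent.Lib.Helper10.AschSpC1
open scoped MatrixGroups Matrix Kronecker

variable {n m : ℕ} {F : Type*} [Field F] [Fintype F] {f : (Fin n → F) → (Fin n → F) → F}

/-- ASCHSP-[C1] -/
theorem sgeo_of_not_irreducible (hf : IsSymplecticForm f) (hnm : n = 2 * m)
    (H : Subgroup (GL (Fin n) F)) (hH : H ≤ isoGL f)
    (h : ¬ ActsIrreducibly (matrixSet H)) : SGeo m f H := by
  classical
  unfold ActsIrreducibly at h
  push Not at h
  obtain ⟨W, hW, hbot, htop⟩ := h
  have key := mulVec_mem_of_map_le H W hW
  have keyp := orth_invariant hf.bilinear H hH W key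
  have hfr : Module.finrank F W + Module.finrank F (orth hf.bilinear W) = n := by
    have := finrank_orth hf W
    simpa using this
  by_cases hR : W ⊓ orth hf.bilinear W = ⊥
  · -- `W` is non-degenerate
    have hndW := isNondegenerateOn_of_inf_orth_eq_bot hf W hR
    have hR' : orth hf.bilinear W ⊓ orth hf.bilinear (orth hf.bilinear W) = ⊥ := by
      rw [orth_orth hf, inf_comm]
      exact hR
    have hndWp := isNondegenerateOn_of_inf_orth_eq_bot hf (orth hf.bilinear W) hR'
    have hWpos : 0 < Module.finrank F W := by
      rw [Module.finrank_pos_iff_exists_ne_zero]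
      obtain ⟨x, hx, hx0⟩ := (Submodule.ne_bot_iff _).1 hbot
      exact ⟨⟨x, hx⟩, fun h => hx0 (congrArg Subtype.val h)⟩
    have hWlt : Module.finrank F W < n := by
      by_contra hcon
      apply htop
      apply Submodule.eq_top_of_finrank_eq
      rw [Module.finrank_fintype_fun_eq_card, Fintype.card_fin]
      have := Submodule.finrank_le W
      rw [Module.finrank_fintype_fun_eq_card, Fintype.card_fin] at this
      omega
    rcases lt_trichotomy (Module.finrank F W) m with hlt | heq | hgt
    · exact SGeo.of_c1n (M := subspaceStabilizer W ⊓ isoGL f) ⟨W, hbot, hndW, hlt, rfl⟩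
        (le_inf (le_subspaceStabilizer H W key) hH)
    · -- the pair `W`, `W⊥`
      have heq' : Module.finrank F (orth hf.bilinear W) = m := by omega
      have hdisj : Disjoint W (orth hf.bilinear W) := disjoint_iff.2 hR
      have hsup : W ⊔ orth hf.bilinear W = ⊤ := by
        apply Submodule.eq_top_of_finrank_eq
        rw [Module.finrank_fintype_fun_eq_card, Fintype.card_fin]
        have h1 := Submodule.finrank_sup_add_finrank_inf_eq W (orth hf.bilinear W)
        rw [hR, finrank_bot] at h1
        omega
      let D : Fin 2 → Submodule F (Fin n → F) := ![W, orth hf.bilinear W]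
      have hD0 : D 0 = W := rfl
      have hD1 : D 1 = orth hf.bilinear W := rfl
      have hdec : IsNondegenerateMDecomposition f m D := by
        refine ⟨⟨le_refl 2, by omega, ?_, ?_, ?_⟩, ?_, ?_⟩
        · intro i
          fin_cases i
          · exact heq
          · exact heq'
        · rw [iSupIndep_pair (i := (0 : Fin 2)) (j := 1) (by decide)
            (by intro k; fin_cases k <;> simp)]
          exact hdisj
        · rw [iSup_fin_two_eq, hD0, hD1]
          exact hsup
        · intro i
          fin_cases i
          · exact hndW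
          · exact hndWp
        · intro i j hij
          fin_cases i <;> fin_cases j
          · exact absurd rfl hij
          · intro u hu v hv
            exact (mem_orth hf.bilinear W v).1 hv u hu
          · intro u hu v hv
            rw [hf.skew]
            rw [(mem_orth hf.bilinear W u).1 hu v hv, neg_zero]
          · exact absurd rfl hij
      refine SGeo.of_c2n (M := decompositionStabilizer D ⊓ isoGL f) ⟨2, m, D, hdec, rfl⟩ ?_
      intro g hg
      refine ⟨⟨1, ?_⟩, hH hg⟩
      intro i
      fin_cases i
      · exact map_eq_of_invariant H W key g hg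
      · exact map_eq_of_invariant H (orth hf.bilinear W) keyp g hg
    · -- `W⊥` has dimension `< m`
      have hlt : Module.finrank F (orth hf.bilinear W) < m := by omega
      have hne : orth hf.bilinear W ≠ ⊥ := by
        intro h0
        rw [h0, finrank_bot] at hfr
        omega
      exact SGeo.of_c1n (M := subspaceStabilizer (orth hf.bilinear W) ⊓ isoGL f)
        ⟨orth hf.bilinear W, hne, hndWp, hlt, rfl⟩
        (le_inf (le_subspaceStabilizer H _ keyp) hH)
  · -- the radical of `W` is totally singular
    refine SGeo.of_c1s (M := subspaceStabilizer (W ⊓ orth hf.bilinear W) ⊓ isoGL f)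
      ⟨W ⊓ orth hf.bilinear W, hR, ?_, rfl⟩ (le_inf (le_subspaceStabilizer H _ ?_) hH)
    · intro u hu v hv
      exact (mem_orth hf.bilinear W v).1 hv.2 u hu.1
    · intro g hg v hv
      exact ⟨key g hg v hv.1, keyp g hg v hv.2⟩

end Cfsg.Agent.Lib.Helper23.AschSp
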