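import Mathlib
import Cfsg.Prelude.Def_GeometricClasses
import Cfsg.Agent.Lib.Helper99.AschDefs
import Cfsg.Agent.Lib.Helper23.AschSpDefs
import Cfsg.Agent.Lib.Helper10.AschSpKit

/-!
# Project ASCHSP (helper23), module [C2B-ODD] (helper10): a pair of complementary totally singular subspaces permuted by
`H`, `|F|` odd, gives the fourth disjunct of the symplectic class predicate.
-/

set_option autoImplicit false

namespace Cfsg.Agent.Lib.Helper23.AschSp

open Cfsg Cfsg.Geo Cfsg.Agent.Lib.Helper99.Asch Cfsg.Agent.Lib.Helper10.AschSpKit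
open scoped MatrixGroups Matrix Kronecker

variable {n m : ℕ} {F : Type*} [Field F] [Fintype F] {f : (Fin n → F) → (Fin n → F) → F}

/-- ASCHSP-[C2B-ODD] -/
theorem sgeo_of_singular_pair_odd (hf : IsSymplecticForm f) (hnm : n = 2 * m) (hodd : Odd (Fintype.card F))
    (H : Subgroup (GL (Fin n) F)) (hH : H ≤ isoGL f)
    (D : Fin 2 → Submodule F (Fin n → F)) (hne : ∀ i, D i ≠ ⊥) (hind : iSupIndep D) (htop : iSup D = ⊤)
    (hperm : ∀ h ∈ H, ∃ σ : Equiv.Perm (Fin 2), ∀ i,
      (D i).map (Matrix.toLin' (h : Matrix (Fin n) (Fin n) F)) = D (σ i))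
    (hsing : ∀ i, IsTotallySingularFor f (D i)) : SGeo m f H := by
  classical
  have hle : ∀ i, 2 * Module.finrank F (D i) ≤ n := by
    intro i
    have := two_mul_finrank_le_of_totallySingular hf (D i) (hsing i)
    simpa using this
  have hdisj : Disjoint (D 0) (D 1) := hind.pairwiseDisjoint (by decide)
  have hsup : D 0 ⊔ D 1 = ⊤ := by
    rw [← htop]
    apply le_antisymm
    · exact sup_le (le_iSup D 0) (le_iSup D 1)
    · apply iSup_le
      intro i
      fin_cases i
      · exact le_sup_left
      · exact le_sup_right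
  have hsum : Module.finrank F (D 0) + Module.finrank F (D 1) = n := by
    have h1 := Submodule.finrank_sup_add_finrank_inf_eq (D 0) (D 1)
    rw [hsup, hdisj.eq_bot, finrank_bot, finrank_top, Module.finrank_fintype_fun_eq_card,
      Fintype.card_fin] at h1
    omega
  have h0 := hle 0
  have h1 := hle 1
  have hfr : ∀ i, Module.finrank F (D i) = m := by
    intro i
    fin_cases i
    · show Module.finrank F (D 0) = m
      omega
    · show Module.finrank F (D 1) = m
      omega
  have hpos : 0 < m := by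
    have h2 : 0 < Module.finrank F (D 0) := by
      rw [Module.finrank_pos_iff_exists_ne_zero]
      obtain ⟨x, hx, hx0⟩ := (Submodule.ne_bot_iff _).1 (hne 0)
      exact ⟨⟨x, hx⟩, fun h => hx0 (congrArg Subtype.val h)⟩
    rw [hfr 0] at h2
    exact h2
  refine SGeo.of_c2s (M := decompositionStabilizer D ⊓ isoGL f)
    ⟨D, hodd, ⟨le_refl 2, hpos, hfr, hind, htop⟩, hsing, rfl⟩ ?_
  intro h hh
  exact ⟨hperm h hh, hH hh⟩

end Cfsg.Agent.Lib.Helper23.AschSp
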