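import Mathlib
import Cfsg.Prelude.Def_OddOrderLocal
import Cfsg.Agent.Lib.Helper4.PFInterface
import Cfsg.Agent.Lib.Helper23.BGFourteenB
import Cfsg.Agent.Lib.Helper34.FittingSigma
import Cfsg.Agent.Lib.Helper54.Coprime
import Cfsg.Agent.Lib.Helper26.BGTypesA

/-!
# Bender–Glauberman Theorem II (tame embedding), sigma-language core (helper10)

For a maximal subgroup `M = K U M_σ` of a minimal simple group of odd order the set
`sA M U` is the set of non-identity elements of `U M_σ` centralizing a non-identity element of `M_σ`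
(`A(M)` of B&G section 16 / Peterfalvi section 8).  From the literal rows S1350, S1374, S1375,
S1378, S1432, S1436 we derive the sigma-language form of Theorem II.
-/

set_option autoImplicit false
set_option linter.unusedVariables false

namespace Cfsg.Agent.Lib.Helper10.BGTame

open Cfsg Cfsg.Agent.Lib.Helper4.PF

universe u

variable {G : Type u} [Group G]

/-- literal body of the frozen statement S1432 (B&G Lemma 14.3) -/
def H1432 (G : Type u) [Group G] : Prop :=
  ∀ (M : Subgroup G) (hM : IsCoatom M) (x : G) (hx : x ∈ Cfsg.sigmaCore M) (hx1 : x ≠ 1) (x' : G)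
    (hx' : x' ∈ M ⊓ Subgroup.centralizer ({x} : Set G)) (hx'1 : x' ≠ 1)
    (hσ : ∀ p : ℕ, p.Prime → p ∣ orderOf x' → p ∉ Cfsg.sigma M),
    ((∀ p : ℕ, p.Prime → p ∣ orderOf x' → p ∈ Cfsg.kappa M) ∧ Subgroup.centralizer ({x} : Set G) ≤ M) ∨
      ((∀ p : ℕ, p.Prime → p ∣ orderOf x' → p ∈ Cfsg.tau2 M) ∧
        (∃ L : Subgroup G, IsCoatom L ∧ ∀ p : ℕ, p.Prime → p ∣ orderOf x' → p ∈ Cfsg.sigma L) ∧
        (Subgroup.centralizer ({x'} : Set G) ≤ M ∧ ∀ L : Subgroup G, IsCoatom L → Subgroup.centralizer ({x'} : Set G) ≤ L → L = M))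

/-- literal body of the frozen statement S1436 (B&G Corollary 14.5?) -/
def H1436 (G : Type u) [Group G] : Prop :=
  ∀ (M : Subgroup G) (hM : IsCoatom M) (x : G) (hx : x ∈ Cfsg.sigmaCore M) (hx1 : x ≠ 1)
    (hxM : ¬ Subgroup.centralizer ({x} : Set G) ≤ M)
    (N : Subgroup G) (hN : IsCoatom N) (hxN : Subgroup.centralizer ({x} : Set G) ≤ N),
    ((∃ p ∈ Cfsg.sigma N, p ∣ Nat.card M) → Cfsg.kappa M = ∅ ∧ Cfsg.tau2 M = ∅) ∧
      ∀ (y : G) (N' : Subgroup G) (g : G), y ∈ Cfsg.sigmaCore M → y ≠ 1 → ¬ Subgroup.centralizer ({y} : Set G) ≤ M → IsCoatom N' → Subgroup.centralizer ({y} : Set G) ≤ N' →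
        N'.map (MulAut.conj g).toMonoidHom = N → ∃ m ∈ M, N'.map (MulAut.conj m).toMonoidHom = N

/-- `A(M)` in sigma-language: the non-identity elements of `U M_σ` centralizing a non-identity
element of `M_σ`. -/
def sA (M U : Subgroup G) : Set G :=
  {a | a ∈ U ⊔ sigmaCore M ∧ a ≠ 1 ∧ ∃ y ∈ sigmaCore M, y ≠ 1 ∧ a * y = y * a}

theorem sA_subset {M K U : Subgroup G} (hKU : IsSigmaDecomposition M K U) :
    sA M U ⊆ (M : Set G) := by
  intro a ha
  exact (sup_le hKU.compl.1 (Cfsg.Agent.Lib.Helper23.sigmaCore_le_self_h23 M)) ha.1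

/-- `|U M_σ| = |M_σ| |U|`. -/
theorem card_sup_sigmaCore [Finite G] {M K U : Subgroup G} (hKU : IsSigmaDecomposition M K U) :
    Nat.card ↥(U ⊔ sigmaCore M) = Nat.card (sigmaCore M) * Nat.card U := by
  have hUM : U ≤ M := hKU.compl.1
  have h1 : U ≤ Subgroup.normalizer ((sigmaCore M : Subgroup G) : Set G) :=
    hUM.trans (Cfsg.Agent.Lib.Helper26.BGTypes.le_normalizer_sigmaCore M)
  have h2 : sigmaCore M ⊓ U = ⊥ := by
    rw [eq_bot_iff]
    intro z hz
    have : z ∈ U ⊓ (K ⊔ sigmaCore M) := ⟨hz.2, Subgroup.mem_sup_right hz.1⟩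
    rwa [hKU.compl.2.2.1] at this
  rw [sup_comm]
  exact Cfsg.Agent.Lib.Helper54.card_sup_of_le_normalizer h1 h2

/-- no prime of `κ(M)` divides `|U M_σ|`. -/
theorem not_dvd_card_sup_of_mem_kappa [Finite G] {M K U : Subgroup G}
    (hHall : IsPiHallOf (sigma M) (sigmaCore M) M) (hKU : IsSigmaDecomposition M K U)
    {p : ℕ} (hp : p ∈ kappa M) : ¬ p ∣ Nat.card ↥(U ⊔ sigmaCore M) := by
  intro hdvd
  rw [card_sup_sigmaCore hKU] at hdvd
  have hpp : p.Prime := hp.1
  apply hKU.hall.2.2 p hpp hp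
  have hcard := Cfsg.Agent.Lib.Helper23.card_eq_of_sigmaDecomposition hHall hKU
  have h3 : Nat.card K * K.relIndex M = Nat.card M :=
    Cfsg.Agent.Lib.Helper54.card_mul_relIndex hKU.hall.1
  have h4 : K.relIndex M = Nat.card (sigmaCore M) * Nat.card U := by
    apply Nat.eq_of_mul_eq_mul_left (Nat.card_pos (α := K))
    rw [h3, hcard]; ring
  rw [h4]; exact hdvd

end Cfsg.Agent.Lib.Helper10.BGTame
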