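import Mathlib
import Cfsg.Agent.Lib.Helper10.BGTameA
import Cfsg.Agent.Lib.Helper34.TildeEquiv

/-!
# B&G Theorem II, sigma-language core, part B (helper10): fusion and `D ⊆ M_σ`
-/

set_option autoImplicit false
set_option linter.unusedVariables false

namespace Cfsg.Agent.Lib.Helper10.BGTame

open Cfsg Cfsg.Agent.Lib.Helper4.PF

universe u

variable {G : Type u} [Group G]

theorem mem_map_conj {g x : G} {A : Subgroup G} :
    x ∈ A.map (MulAut.conj g).toMonoidHom ↔ g⁻¹ * x * g ∈ A := by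
  constructor
  · rintro ⟨a, ha, rfl⟩
    have : g⁻¹ * ((MulAut.conj g).toMonoidHom a) * g = a := by
      simp [MulAut.conj_apply, mul_assoc]
    rw [this]; exact ha
  · intro h
    refine ⟨g⁻¹ * x * g, h, ?_⟩
    simp [MulAut.conj_apply, mul_assoc]

/-- a maximal subgroup of a simple group is self-normalizing (conjugation form) -/
theorem mem_of_map_conj_eq [Finite G] [IsSimpleGroup G] {M : Subgroup G} (hM : IsCoatom M) (hM1 : M ≠ ⊥)
    {c : G} (h : M.map (MulAut.conj c).toMonoidHom = M) : c ∈ M := by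
  have hc : c ∈ Subgroup.normalizer (M : Set G) := by
    rw [Subgroup.mem_normalizer_iff]
    intro z
    constructor
    · intro hz
      have : c * z * c⁻¹ ∈ M.map (MulAut.conj c).toMonoidHom := by
        rw [mem_map_conj]
        have : c⁻¹ * (c * z * c⁻¹) * c = z := by group
        rw [this]; exact hz
      rwa [h] at this
    · intro hz
      rw [← h, mem_map_conj] at hz
      have : c⁻¹ * (c * z * c⁻¹) * c = z := by group
      rwa [this] at hz
  exact Cfsg.Agent.Lib.Helper34.normalizer_le_of_le_normalizer hM hM1 le_rfl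
    Subgroup.le_normalizer hc

theorem centralizer_conj_le_map {g z : G} {M : Subgroup G}
    (h : Subgroup.centralizer ({z} : Set G) ≤ M) :
    Subgroup.centralizer ({g * z * g⁻¹} : Set G) ≤ M.map (MulAut.conj g).toMonoidHom := by
  intro c hc
  rw [mem_map_conj]
  apply h
  rw [Subgroup.mem_centralizer_singleton_iff] at hc ⊢
  have h1 : g⁻¹ * (c * (g * z * g⁻¹)) * g = g⁻¹ * ((g * z * g⁻¹) * c) * g := by rw [hc]
  calc g⁻¹ * c * g * z = g⁻¹ * (c * (g * z * g⁻¹)) * g := by group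
    _ = g⁻¹ * ((g * z * g⁻¹) * c) * g := h1
    _ = z * (g⁻¹ * c * g) := by group

/-- **Fusion in `M_σ`** (from the last clause of S1374): if `x ∈ M_σ^#` and `g x g⁻¹ ∈ M` then
`g x g⁻¹ = m x m⁻¹` for some `m ∈ M`. -/
theorem fusion_sigmaCore [Finite G] (hG : IsMinSimpleOddOrder G) (h74 : Stmt1374 G)
    {M : Subgroup G} (hM : IsCoatom M) {x : G} (hx : x ∈ sigmaCore M) (hx1 : x ≠ 1) {g : G}
    (hg : g * x * g⁻¹ ∈ M) : ∃ m ∈ M, m * x * m⁻¹ = g * x * g⁻¹ := by
  have hs : IsSimpleGroup G := hG.2.1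
  have hxM : x ∈ M := Cfsg.Agent.Lib.Helper23.sigmaCore_le_self_h23 M hx
  have hM1 : M ≠ ⊥ := by
    intro h; rw [h, Subgroup.mem_bot] at hxM; exact hx1 hxM
  obtain ⟨-, R, -, hcompl, huniq⟩ := h74 M hM x hx hx1
  have hx' : x ∈ M.map (MulAut.conj g⁻¹).toMonoidHom := by
    rw [mem_map_conj]; simpa using hg
  obtain ⟨r, ⟨hrR, hr⟩, -⟩ := huniq g⁻¹ hx'
  have hrc : r ∈ Subgroup.centralizer ({x} : Set G) := hcompl.2.1 hrR
  rw [Subgroup.mem_centralizer_singleton_iff] at hrc
  have hgr : M.map (MulAut.conj (g * r)).toMonoidHom = M := by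
    ext z
    rw [mem_map_conj]
    constructor
    · intro hz
      have h1 : r * ((g * r)⁻¹ * z * (g * r)) * r⁻¹ ∈ M.map (MulAut.conj r).toMonoidHom := by
        rw [mem_map_conj]
        have : r⁻¹ * (r * ((g * r)⁻¹ * z * (g * r)) * r⁻¹) * r = (g * r)⁻¹ * z * (g * r) := by group
        rw [this]; exact hz
      rw [hr, mem_map_conj] at h1
      have : g⁻¹⁻¹ * (r * ((g * r)⁻¹ * z * (g * r)) * r⁻¹) * g⁻¹ = z := by group
      rwa [this] at h1
    · intro hz
      have h1 : g⁻¹ * z * g ∈ M.map (MulAut.conj g⁻¹).toMonoidHom := by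
        rw [mem_map_conj]
        have : g⁻¹⁻¹ * (g⁻¹ * z * g) * g⁻¹ = z := by group
        rw [this]; exact hz
      rw [← hr, mem_map_conj] at h1
      have : r⁻¹ * (g⁻¹ * z * g) * r = (g * r)⁻¹ * z * (g * r) := by group
      rwa [this] at h1
  refine ⟨g * r, mem_of_map_conj_eq hM hM1 hgr, ?_⟩
  calc g * r * x * (g * r)⁻¹ = g * (r * x) * r⁻¹ * g⁻¹ := by group
    _ = g * (x * r) * r⁻¹ * g⁻¹ := by rw [hrc]
    _ = g * x * g⁻¹ := by group

/-- an element of `sA M U` has all its powers in `U M_σ`, commuting with the same `y` -/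
theorem pow_mem_sup_of_mem_sA {M U : Subgroup G} {a : G} (ha : a ∈ sA M U) (k : ℕ) :
    a ^ k ∈ U ⊔ sigmaCore M := Subgroup.pow_mem _ ha.1 k

/-- **The `τ₂` alternative**: a power of prime order `p ∉ σ(M)` of an element of `sA M U` is a
`τ₂(M)`-element whose centralizer lies in `M` and in no other maximal subgroup. -/
theorem tau2_power [Finite G] (h50 : Stmt1350 G) (h32 : H1432 G)
    {M K U : Subgroup G} (hM : IsCoatom M) (hKU : IsSigmaDecomposition M K U)
    {b : G} (hb : b ∈ sA M U) {k p : ℕ} (hp : p.Prime) (ho : orderOf (b ^ k) = p)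
    (hpσ : p ∉ sigma M) :
    p ∈ tau2 M ∧ Subgroup.centralizer ({b ^ k} : Set G) ≤ M ∧
      ∀ L : Subgroup G, IsCoatom L → Subgroup.centralizer ({b ^ k} : Set G) ≤ L → L = M := by
  have hHall := (h50 M hM).1
  obtain ⟨hbU, hb1, y, hy, hy1, hby⟩ := hb
  have hbM : b ∈ M := sA_subset hKU ⟨hbU, hb1, y, hy, hy1, hby⟩
  have hx'1 : b ^ k ≠ 1 := by
    intro h
    rw [h, orderOf_one] at ho
    exact hp.one_lt.ne ho
  have hx'c : b ^ k ∈ Subgroup.centralizer ({y} : Set G) := by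
    rw [Subgroup.mem_centralizer_singleton_iff]
    exact (Commute.pow_left (show Commute b y from hby) k).eq
  have hσ : ∀ q : ℕ, q.Prime → q ∣ orderOf (b ^ k) → q ∉ sigma M := by
    intro q hq hqd
    rw [ho] at hqd
    rw [(Nat.prime_dvd_prime_iff_eq hq hp).mp hqd]; exact hpσ
  rcases h32 M hM y hy hy1 (b ^ k) ⟨M.pow_mem hbM k, hx'c⟩ hx'1 hσ with ⟨hκ, -⟩ | ⟨hτ, -, hc, hu⟩
  · exfalso
    have hpk : p ∈ kappa M := hκ p hp (by rw [ho])
    apply not_dvd_card_sup_of_mem_kappa hHall hKU hpk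
    rw [← ho]
    exact Subgroup.orderOf_dvd_natCard _ (Subgroup.pow_mem _ hbU k)
  · exact ⟨hτ p hp (by rw [ho]), hc, hu⟩

/-- **Dichotomy**: an element of `sA M U` lies in `M_σ`, or has a power of prime order outside
`σ(M)`. -/
theorem mem_sigmaCore_or_exists_power [Finite G] (h50 : Stmt1350 G)
    {M K U : Subgroup G} (hM : IsCoatom M) (hKU : IsSigmaDecomposition M K U)
    {a : G} (ha : a ∈ sA M U) :
    a ∈ sigmaCore M ∨ ∃ k p : ℕ, p.Prime ∧ orderOf (a ^ k) = p ∧ p ∉ sigma M := by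
  have hHall := (h50 M hM).1
  have haM : a ∈ M := sA_subset hKU ha
  by_cases h : ∀ p : ℕ, p.Prime → p ∣ orderOf a → p ∈ sigma M
  · left
    have hle : Subgroup.zpowers a ≤ sigmaCore M := by
      apply Cfsg.Agent.Lib.Helper23.le_sigmaCore_of_forall_prime_mem M hHall
        (by rw [Subgroup.zpowers_le]; exact haM)
      intro r hr hrd
      rw [Nat.card_zpowers] at hrd
      exact h r hr hrd
    exact hle (Subgroup.mem_zpowers a)
  · right
    push Not at h
    obtain ⟨p, hp, hpd, hpσ⟩ := h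
    refine ⟨orderOf a / p, p, hp, ?_, hpσ⟩
    exact orderOf_pow_orderOf_div (orderOf_pos a).ne' hpd

/-- **`D ⊆ M_σ`**: an element of `sA M U` whose centralizer is not contained in `M` lies in `M_σ`. -/
theorem mem_sigmaCore_of_not_le [Finite G] (h50 : Stmt1350 G) (h32 : H1432 G)
    {M K U : Subgroup G} (hM : IsCoatom M) (hKU : IsSigmaDecomposition M K U)
    {a : G} (ha : a ∈ sA M U) (hC : ¬ Subgroup.centralizer ({a} : Set G) ≤ M) :
    a ∈ sigmaCore M := by
  rcases mem_sigmaCore_or_exists_power h50 hM hKU ha with h | ⟨k, p, hp, ho, hpσ⟩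
  · exact h
  · exfalso
    obtain ⟨-, hc, -⟩ := tau2_power h50 h32 hM hKU ha hp ho hpσ
    apply hC
    refine le_trans ?_ hc
    intro c hc'
    rw [Subgroup.mem_centralizer_singleton_iff] at hc' ⊢
    exact (Commute.pow_right (show Commute c a from hc') k).eq

/-- **Fusion in `sA M U`**. -/
theorem fusion_sA [Finite G] (hG : IsMinSimpleOddOrder G) (h50 : Stmt1350 G) (h74 : Stmt1374 G)
    (h32 : H1432 G) {M K U : Subgroup G} (hM : IsCoatom M) (hKU : IsSigmaDecomposition M K U)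
    {a : G} (ha : a ∈ sA M U) {g : G} (hg : g * a * g⁻¹ ∈ sA M U) :
    ∃ m ∈ M, m * a * m⁻¹ = g * a * g⁻¹ := by
  have hs : IsSimpleGroup G := hG.2.1
  have haM : a ∈ M := sA_subset hKU ha
  have hM1 : M ≠ ⊥ := by
    intro h; rw [h, Subgroup.mem_bot] at haM; exact ha.2.1 haM
  rcases mem_sigmaCore_or_exists_power h50 hM hKU ha with h | ⟨k, p, hp, ho, hpσ⟩
  · exact fusion_sigmaCore hG h74 hM h ha.2.1 (sA_subset hKU hg)
  · obtain ⟨-, hc, -⟩ := tau2_power h50 h32 hM hKU ha hp ho hpσ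
    have hpow : (g * a * g⁻¹) ^ k = g * a ^ k * g⁻¹ := conj_pow
    have ho' : orderOf ((g * a * g⁻¹) ^ k) = p := by
      rw [hpow, ← ho]
      rw [← MulAut.conj_apply]
      exact MulEquiv.orderOf_eq _ _
    obtain ⟨-, -, hu'⟩ := tau2_power h50 h32 hM hKU hg hp ho' hpσ
    have hL : M.map (MulAut.conj g).toMonoidHom = M := by
      apply hu' _ (Cfsg.Agent.Lib.Helper34.TildeEquiv.isCoatom_map_conj hM g)
      rw [hpow]
      exact centralizer_conj_le_map hc
    exact ⟨g, mem_of_map_conj_eq hM hM1 hL, rfl⟩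

end Cfsg.Agent.Lib.Helper10.BGTame
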