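import Mathlib
import Cfsg.Agent.Lib.Helper10.BGTameB

/-!
# B&G Theorem II, sigma-language core, part C (helper10): the supporting subgroup `L`
-/

set_option autoImplicit false
set_option linter.unusedVariables false

namespace Cfsg.Agent.Lib.Helper10.BGTame

open Cfsg Cfsg.Agent.Lib.Helper4.PF

universe u

variable {G : Type u} [Group G]

theorem IsComplIn.swap {A B M : Subgroup G} (h : IsComplIn A B M) : IsComplIn B A M := by
  obtain ⟨hA, hB, hAB, hM⟩ := h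
  refine ⟨hB, hA, by rw [inf_comm]; exact hAB, ?_⟩
  intro m hm
  obtain ⟨a, ha, b, hb, hab⟩ := hM m⁻¹ (M.inv_mem hm)
  refine ⟨b⁻¹, B.inv_mem hb, a⁻¹, A.inv_mem ha, ?_⟩
  rw [← mul_inv_rev, ← hab, inv_inv]

/-- every prime divisor of the order of an element of `M_σ` lies in `σ(M)` -/
theorem prime_mem_sigma_of_mem_sigmaCore [Finite G] {M : Subgroup G} {x : G}
    (hx : x ∈ sigmaCore M) {q : ℕ} (hq : q.Prime) (hqd : q ∣ orderOf x) : q ∈ sigma M :=
  Cfsg.Agent.Lib.Helper26.BGTypes.sigmaCore_isPi M q hq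
    (hqd.trans (Subgroup.orderOf_dvd_natCard _ hx))

/-- **The supporting subgroup** (σ-language form of Theorem II(b),(c)), from S1375. -/
theorem support_structure [Finite G] (hG : IsMinSimpleOddOrder G) (h50 : Stmt1350 G)
    (h51 : Stmt1351 G) (h52 : Stmt1352 G) (h75 : Stmt1375 G)
    {M : Subgroup G} (hM : IsCoatom M) {x : G} (hx : x ∈ sigmaCore M) (hx1 : x ≠ 1)
    (hxM : ¬ Subgroup.centralizer ({x} : Set G) ≤ M)
    {L : Subgroup G} (hL : IsCoatom L) (hxL : Subgroup.centralizer ({x} : Set G) ≤ L) :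
    (∀ L' : Subgroup G, IsCoatom L' → Subgroup.centralizer ({x} : Set G) ≤ L' → L' = L) ∧
    sigmaCore L = fittingHallOf L ∧
    IsComplIn (sigmaCore L) (M ⊓ L) L ∧
    Subgroup.centralizer ({x} : Set G) ≤ Subgroup.normalizer
      ((sigmaCore L ⊓ Subgroup.centralizer ({x} : Set G) : Subgroup G) : Set G) ∧
    IsComplIn (sigmaCore L ⊓ Subgroup.centralizer ({x} : Set G))
      (M ⊓ Subgroup.centralizer ({x} : Set G)) (Subgroup.centralizer ({x} : Set G)) ∧
    (∀ K' U' : Subgroup G, IsSigmaDecomposition L K' U' →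
      U' ≠ ⊥ ∧ x ∈ sigmaA L U' ∧ x ∉ sigmaCore L) ∧
    x ∉ sigmaCore L ∧
    (∀ g : G, L ≠ M.map (MulAut.conj g).toMonoidHom) := by
  obtain ⟨N, ⟨hN, hxN⟩, huniq, hNF, hnorm, hc1, hc2, hdec⟩ := h75 M hM x hx hx1 hxM
  have hLN : L = N := huniq L hL hxL
  subst hLN
  have hxnot : x ∉ sigmaCore L := by
    obtain ⟨⟨K', hK'⟩, hcyc⟩ := h51 L hL
    obtain ⟨⟨U', hU'⟩, -⟩ := h52 L hL K' (hcyc K' hK') hK'
    exact (hdec K' U' hU').2.2
  refine ⟨huniq, hNF, IsComplIn.swap hc2, hnorm, IsComplIn.swap hc1, hdec, hxnot, ?_⟩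
  intro g hg
  apply hxnot
  have hHallL := (h50 L hL).1
  have hxL' : x ∈ L := hxL (by
    rw [Subgroup.mem_centralizer_singleton_iff])
  have hle : Subgroup.zpowers x ≤ sigmaCore L := by
    apply Cfsg.Agent.Lib.Helper23.le_sigmaCore_of_forall_prime_mem L hHallL
      (by rw [Subgroup.zpowers_le]; exact hxL')
    intro r hr hrd
    rw [Nat.card_zpowers] at hrd
    have : r ∈ sigma M := prime_mem_sigma_of_mem_sigmaCore hx hr hrd
    rw [hg, Cfsg.Agent.Lib.Helper34.TildeEquiv.sigma_map_conj]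
    exact this
  exact hle (Subgroup.mem_zpowers x)

/-- a prime dividing both `|L_σ|` and `|M|` forces `κ(M) = τ₂(M) = ∅` and lies outside `σ(M)` -/
theorem prime_facts [Finite G] (h78 : Stmt1378 G) (h36 : H1436 G)
    {M : Subgroup G} (hM : IsCoatom M) {x : G} (hx : x ∈ sigmaCore M) (hx1 : x ≠ 1)
    (hxM : ¬ Subgroup.centralizer ({x} : Set G) ≤ M)
    {L : Subgroup G} (hL : IsCoatom L) (hxL : Subgroup.centralizer ({x} : Set G) ≤ L)
    (hnc : ∀ g : G, L ≠ M.map (MulAut.conj g).toMonoidHom)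
    {p : ℕ} (hp : p.Prime) (hpL : p ∣ Nat.card (sigmaCore L)) (hpM : p ∣ Nat.card M) :
    kappa M = ∅ ∧ tau2 M = ∅ ∧ p ∉ sigma M := by
  have hpσL : p ∈ sigma L := Cfsg.Agent.Lib.Helper26.BGTypes.sigmaCore_isPi L p hp hpL
  obtain ⟨hκ, hτ⟩ := (h36 M hM x hx hx1 hxM L hL hxL).1 ⟨p, hpσL, hpM⟩
  refine ⟨hκ, hτ, fun hpσM => ?_⟩
  obtain ⟨g, hg⟩ := h78.2 M L hM hL ⟨p, hpσM, hpσL⟩
  exact hnc g hg

/-- **Coprimality** (Theorem II(c)(ii)): `|L_σ|` is prime to `|C_M(y)|` for `y ∈ sA M U`. -/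
theorem coprime_card_centralizer [Finite G] (h50 : Stmt1350 G) (h78 : Stmt1378 G)
    (h32 : H1432 G) (h36 : H1436 G)
    {M K U : Subgroup G} (hM : IsCoatom M) (hKU : IsSigmaDecomposition M K U)
    {x : G} (hx : x ∈ sigmaCore M) (hx1 : x ≠ 1)
    (hxM : ¬ Subgroup.centralizer ({x} : Set G) ≤ M)
    {L : Subgroup G} (hL : IsCoatom L) (hxL : Subgroup.centralizer ({x} : Set G) ≤ L)
    (hnc : ∀ g : G, L ≠ M.map (MulAut.conj g).toMonoidHom)
    {y : G} (hy : y ∈ sA M U) :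
    (Nat.card (sigmaCore L)).Coprime (Nat.card ↥(M ⊓ Subgroup.centralizer ({y} : Set G))) := by
  apply Cfsg.Agent.Lib.Helper26.BGTypes.coprime_of_forall_prime
  intro p hp hpL hpC
  have hpM : p ∣ Nat.card M := hpC.trans (Subgroup.card_dvd_of_le inf_le_left)
  obtain ⟨hκ, hτ, hpσ⟩ := prime_facts h78 h36 hM hx hx1 hxM hL hxL hnc hp hpL hpM
  -- `y ∈ M_σ`
  have hyσ : y ∈ sigmaCore M := by
    rcases mem_sigmaCore_or_exists_power h50 hM hKU hy with h | ⟨k, q, hq, ho, hqσ⟩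
    · exact h
    · exfalso
      have := (tau2_power h50 h32 hM hKU hy hq ho hqσ).1
      rw [hτ] at this
      exact this
  have : Fact p.Prime := ⟨hp⟩
  obtain ⟨z, hz⟩ := exists_prime_orderOf_dvd_card' (G := ↥(M ⊓ Subgroup.centralizer ({y} : Set G))) p hpC
  have hzo : orderOf (z : G) = p := by rw [Subgroup.orderOf_coe]; exact hz
  have hz1 : (z : G) ≠ 1 := by
    intro h
    rw [h, orderOf_one] at hzo
    exact hp.one_lt.ne hzo
  have hσ : ∀ q : ℕ, q.Prime → q ∣ orderOf (z : G) → q ∉ sigma M := by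
    intro q hq hqd
    rw [hzo] at hqd
    rw [(Nat.prime_dvd_prime_iff_eq hq hp).mp hqd]; exact hpσ
  rcases h32 M hM y hyσ hy.2.1 (z : G) z.2 hz1 hσ with ⟨h1, -⟩ | ⟨h1, -⟩
  · have := h1 p hp (by rw [hzo])
    rw [hκ] at this
    exact this
  · have := h1 p hp (by rw [hzo])
    rw [hτ] at this
    exact this

end Cfsg.Agent.Lib.Helper10.BGTame
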