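import Mathlib
import Cfsg.Prelude.Def_OddOrderLocal
import Cfsg.Agent.S0034
import Cfsg.Agent.S0035
import Cfsg.Agent.S0042
import Cfsg.Agent.S1474
import Cfsg.Agent.Lib.Helper4.PFTypes
import Cfsg.Agent.Lib.Helper54.CNGroup
import Cfsg.Agent.Lib.Helper26.PFEightB

/-!
# A Frobenius complement in `M` makes `M` a Frobenius group with kernel `M_F` (helper10)

Used for the last clause of B&G Theorem II: S1376 only provides *some* Frobenius complement of `M`;
by Frobenius (S0035) and Thompson (S0042) the Frobenius kernel is then the largest normal nilpotent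
Hall subgroup `M_F`.
-/

set_option autoImplicit false
set_option linter.unusedVariables false

namespace Cfsg.Agent.Lib.Helper10.BGTame

open Cfsg
open scoped Pointwise

universe u

theorem mem_conj_smul {X : Type u} [Group X] {g x : X} {A : Subgroup X} :
    x ∈ MulAut.conj g • A ↔ g⁻¹ * x * g ∈ A := by
  rw [Subgroup.mem_pointwise_smul_iff_inv_smul_mem]
  simp [MulAut.smul_def]

/-- centralizers of non-identity kernel elements lie in the kernel (set form) -/
theorem centralizer_kernel {X : Type u} [Group X] (E : Subgroup X)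
    (hE : IsFrobeniusComplement E) {x c : X} (hx : x ∈ frobeniusKernel E) (hx1 : x ≠ 1)
    (hc : c * x = x * c) : c ∈ frobeniusKernel E := by
  by_contra hck
  have hxk : ∀ g : X, x ∉ MulAut.conj g • E := by
    rcases hx with h | h
    · exact absurd h hx1
    · exact h
  have hc' : c ≠ 1 ∧ ∃ g : X, c ∈ MulAut.conj g • E := by
    constructor
    · intro h; exact hck (Or.inl h)
    · by_contra h
      push Not at h
      exact hck (Or.inr h)
  obtain ⟨hc1, g, hg⟩ := hc'
  rw [mem_conj_smul] at hg
  set e := g⁻¹ * c * g with he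
  have he1 : e ≠ 1 := by
    intro h
    apply hc1
    have : c = g * e * g⁻¹ := by rw [he]; group
    rw [this, h]; group
  set h := g⁻¹ * x * g with hh
  have hconj : h * e * h⁻¹ = e := by
    rw [hh, he]
    have : g⁻¹ * x * g * (g⁻¹ * c * g) * (g⁻¹ * x * g)⁻¹ = g⁻¹ * (x * c * x⁻¹) * g := by group
    rw [this]
    have : x * c * x⁻¹ = c := by rw [← hc]; group
    rw [this]
  by_cases hhE : h ∈ E
  · apply hxk g
    rw [mem_conj_smul]
    exact hhE
  · have hbot := hE.2.2 h hhE
    have : e ∈ E ⊓ MulAut.conj h • E := by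
      refine ⟨hg, ?_⟩
      show e ∈ MulAut.conj h • E
      rw [mem_conj_smul]
      have : h⁻¹ * e * h = e := by
        calc h⁻¹ * e * h = h⁻¹ * (h * e * h⁻¹) * h := by rw [hconj]
          _ = e := by group
      rw [this]; exact hg
    rw [hbot, Subgroup.mem_bot] at this
    exact he1 this

/-- the Frobenius kernel is `X_F`, the largest normal nilpotent Hall subgroup -/
theorem fittingHall_eq_kernel {X : Type u} [Group X] [Finite X] (E : Subgroup X)
    (hE : IsFrobeniusComplement E) : (fittingHall X : Set X) = frobeniusKernel E := by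
  obtain ⟨N, hNset, hNnorm, hNcompl⟩ := Cfsg.Agent.S0035.result E hE
  obtain ⟨N', hN'set, -, hN'nil⟩ := Cfsg.Agent.S0042.result E hE
  have hNN' : N' = N := SetLike.coe_injective (by rw [hNset, hN'set])
  subst hNN'
  obtain ⟨hcardK, hmod⟩ := Cfsg.Agent.S0034.result E hE
  have hcardN : Nat.card ↥N' = E.index := by
    rw [← hcardK, ← hNset]; rfl
  have hmul : Nat.card ↥N' * Nat.card ↥E = Nat.card X := hNcompl.card_mul_card
  have hidx : N'.index = Nat.card ↥E := by
    have h1 := N'.card_mul_index
    rw [← hmul] at h1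
    exact Nat.eq_of_mul_eq_mul_left Nat.card_pos h1
  have hcop : (Nat.card ↥N').Coprime (Nat.card ↥E) := by
    rw [hcardN, Nat.coprime_comm, Nat.Coprime, Nat.gcd_rec, hmod, ← Nat.gcd_rec,
      Nat.gcd_one_right]
  have hNle : N' ≤ fittingHall X := by
    apply le_sSup
    refine ⟨hNnorm, hN'nil, ?_⟩
    rw [hidx]; exact hcop
  have hFnil : Group.IsNilpotent ↥(fittingHall X) := Cfsg.Agent.S1474.fittingHall_isNilpotent
  -- `N ≠ ⊥`
  have hN1 : ∃ n0 ∈ N', n0 ≠ 1 := by
    by_contra h
    push Not at h
    have hbot : N' = ⊥ := by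
      rw [eq_bot_iff]; intro z hz; rw [Subgroup.mem_bot]; exact h z hz
    apply hE.2.1
    rw [← Subgroup.index_eq_one, ← hcardN, hbot, Subgroup.card_bot]
  obtain ⟨n0, hn0, hn01⟩ := hN1
  have hdisj : N' ⊓ E = ⊥ := hNcompl.disjoint.eq_bot
  have hFle : fittingHall X ≤ N' := by
    intro f hf
    obtain ⟨⟨⟨n, hn⟩, ⟨e, he⟩⟩, hne⟩ := hNcompl.existsUnique f |>.exists
    simp only at hne
    have heF : e ∈ fittingHall X := by
      have : e = n⁻¹ * f := by rw [← hne]; group
      rw [this]
      exact (fittingHall X).mul_mem ((fittingHall X).inv_mem (hNle hn)) hf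
    have he1 : e = 1 := by
      by_contra he1
      have hord : (orderOf e).Coprime (orderOf n0) := by
        apply Nat.Coprime.coprime_dvd_left (Subgroup.orderOf_dvd_natCard _ he)
        apply Nat.Coprime.coprime_dvd_right (Subgroup.orderOf_dvd_natCard _ hn0)
        exact hcop.symm
      have hcomm : e * n0 = n0 * e :=
        Cfsg.Agent.Lib.Helper54.commute_of_coprime_of_mem_nilpotent hFnil heF (hNle hn0) hord
      have hn0E : n0 ∉ E := by
        intro h
        have : n0 ∈ N' ⊓ E := ⟨hn0, h⟩
        rw [hdisj, Subgroup.mem_bot] at this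
        exact hn01 this
      have hbot := hE.2.2 n0 hn0E
      have : e ∈ E ⊓ MulAut.conj n0 • E := by
        refine ⟨he, ?_⟩
        show e ∈ MulAut.conj n0 • E
        rw [mem_conj_smul]
        have : n0⁻¹ * e * n0 = e := by
          calc n0⁻¹ * e * n0 = n0⁻¹ * (e * n0) := by group
            _ = n0⁻¹ * (n0 * e) := by rw [hcomm]
            _ = e := by group
        rw [this]; exact he
      rw [hbot, Subgroup.mem_bot] at this
      exact he1 this
    rw [← hne, he1, mul_one]; exact hn
  have : fittingHall X = N' := le_antisymm hFle hNle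
  rw [this, hNset]

/-- **`M` is a Frobenius group with kernel `M_F`** as soon as it has a Frobenius complement. -/
theorem isFrobWithFittingHall_of_complement {G : Type u} [Group G] [Finite G] (M : Subgroup G)
    (E : Subgroup ↥M) (hE : IsFrobeniusComplement E) :
    Cfsg.Agent.Lib.Helper4.PF.IsFrobWithFittingHall M := by
  intro x hx hx1 c hc
  have hxM : x ∈ M := Cfsg.Agent.Lib.Helper26.PFEight.fittingHallOf_le M hx
  have hcM : c ∈ M := hc.1
  have hcx : c * x = x * c := by
    have h2 : c ∈ Subgroup.centralizer ({x} : Set G) := hc.2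
    rw [Subgroup.mem_centralizer_singleton_iff] at h2
    exact h2
  have hset := fittingHall_eq_kernel E hE
  have hx' : (⟨x, hxM⟩ : ↥M) ∈ frobeniusKernel E := by
    rw [← hset]
    exact Cfsg.Agent.Lib.Helper26.PFEight.mem_fittingHall_of_coe_mem M ⟨x, hxM⟩ hx
  have hx'1 : (⟨x, hxM⟩ : ↥M) ≠ 1 := by
    intro h; apply hx1; exact congrArg Subtype.val h
  have hc' : (⟨c, hcM⟩ : ↥M) ∈ frobeniusKernel E :=
    centralizer_kernel E hE hx' hx'1 (Subtype.ext hcx)
  rw [← hset] at hc'
  exact ⟨⟨c, hcM⟩, hc', rfl⟩

end Cfsg.Agent.Lib.Helper10.BGTame
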