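import Mathlib
import Cfsg.Agent.Lib.Helper10.BGTameA
import Cfsg.Agent.Lib.Helper4.PFTypes
import Cfsg.Agent.Lib.Helper26.PFBookA

/-!
# B&G Theorem II: the dictionary between the type language and the sigma language (helper10)

`typeCore M = M_σ`, `litA M = sA M U`, from the literal rows S1355, S1357, S1365, S1381-S1383 and the
`types` field of `BookBGData`.
-/

set_option autoImplicit false
set_option linter.unusedVariables false

namespace Cfsg.Agent.Lib.Helper10.BGTame

open Cfsg Cfsg.Agent.Lib.Helper4.PF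

universe u

variable {G : Type u} [Group G]

/-- the dictionary for a maximal subgroup with a standard factorisation -/
structure Dict (M K U : Subgroup G) : Prop where
  core_eq : typeCore M = sigmaCore M
  litA_eq : litA M = sA M U
  typeP_ne : IsOfTypeP M → K ≠ ⊥
  not345 : U ≠ ⊥ → ¬ (IsOfTypeIII M ∨ IsOfTypeIV M ∨ IsOfTypeV M)
  commutator_eq : IsOfTypeP M → ⁅M, M⁆ = U ⊔ sigmaCore M
  fitting_eq : ¬ (IsOfTypeIII M ∨ IsOfTypeIV M) → fittingHallOf M = sigmaCore M

theorem dict_of [Finite G] (h55 : Stmt1355 G) (h57 : Stmt1357 G) (h65 : Stmt1365 G)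
    (h81 : Stmt1381 G) (h82 : Stmt1382 G) (h83 : Stmt1383 G)
    (types : ∀ M : Subgroup G, IsCoatom M → LitTypeI M ∨ IsTypeIItoV M)
    {M K U : Subgroup G} (hM : IsCoatom M) (hKU : IsSigmaDecomposition M K U) : Dict M K U := by
  have hσM : sigmaCore M ≤ M := Cfsg.Agent.Lib.Helper23.sigmaCore_le_self_h23 M
  have hUM : U ≤ M := hKU.compl.1
  obtain ⟨-, hFσ, hσM', hM'lt, -⟩ := h55 M hM
  -- `K = ⊥` gives `M = U M_σ`
  have hMeq : K = ⊥ → M = U ⊔ sigmaCore M := by
    intro hK
    apply le_antisymm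
    · intro m hm
      obtain ⟨a, ha, b, hb, rfl⟩ := hKU.compl.2.2.2 m hm
      rw [hK, bot_sup_eq] at hb
      exact Subgroup.mul_mem _ (Subgroup.mem_sup_left ha) (Subgroup.mem_sup_right hb)
    · exact sup_le hUM hσM
  have hFeq : ¬ (IsOfTypeIII M ∨ IsOfTypeIV M) → fittingHallOf M = sigmaCore M := by
    intro h34
    by_contra hne
    obtain ⟨hU, -, -⟩ := h57 M hM K U hKU hne
    by_cases hK : K = ⊥
    · have h1 : M ≤ sigmaCore M := by
        have h0 := hMeq hK
        rw [hU, bot_sup_eq] at h0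
        exact le_of_eq h0
      exact absurd (lt_of_le_of_lt (h1.trans hσM') hM'lt) (lt_irrefl M)
    · exact h34 ((h82 M hM K U hKU).mpr ⟨hK, hU, hne⟩)
  have hP_of_K : K ≠ ⊥ → IsOfTypeP M := by
    intro hK
    apply Cfsg.Agent.Lib.Helper26.PFBook.isOfTypeP_of_typeIItoV
    by_cases hU : U = ⊥
    · by_cases hne : fittingHallOf M = sigmaCore M
      · exact Or.inr (Or.inr (Or.inr ((h83 M hM K U hKU).mpr ⟨hK, hU, hne⟩)))
      · rcases (h82 M hM K U hKU).mpr ⟨hK, hU, hne⟩ with h | h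
        · exact Or.inr (Or.inl h)
        · exact Or.inr (Or.inr (Or.inl h))
    · exact Or.inl ((h81 M hM K U hKU).mpr ⟨hK, hU⟩)
  have hK_of_P : IsOfTypeP M → K ≠ ⊥ := by
    intro hP
    rcases types M hM with hI | hII | hIII | hIV | hV
    · exact absurd hP (Cfsg.Agent.Lib.Helper26.PFBook.not_isOfTypeP_of_typeF hI.1)
    · exact ((h81 M hM K U hKU).mp hII).1
    · exact ((h82 M hM K U hKU).mp (Or.inl hIII)).1
    · exact ((h82 M hM K U hKU).mp (Or.inr hIV)).1
    · exact ((h83 M hM K U hKU).mp hV).1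
  have hcore : typeCore M = sigmaCore M := by
    unfold typeCore
    split_ifs with h
    · obtain ⟨hK, hU, -⟩ := (h82 M hM K U hKU).mp h
      rw [(h65 M hM K U hKU hK).1, hU, bot_sup_eq]
    · exact hFeq h
  refine ⟨hcore, ?_, hK_of_P, ?_, fun hP => (h65 M hM K U hKU (hK_of_P hP)).1, hFeq⟩
  · unfold litA
    split_ifs with hP
    · have hK := hK_of_P hP
      ext a
      simp only [Set.mem_ofPred_eq, sA]
      rw [hcore, (h65 M hM K U hKU hK).1]
    · have hK : K = ⊥ := by
        by_contra hK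
        exact hP (hP_of_K hK)
      have h34 : ¬ (IsOfTypeIII M ∨ IsOfTypeIV M) := by
        rintro (h | h)
        · exact hP (Cfsg.Agent.Lib.Helper26.PFBook.isOfTypeP_of_typeIItoV (Or.inr (Or.inl h)))
        · exact hP (Cfsg.Agent.Lib.Helper26.PFBook.isOfTypeP_of_typeIItoV (Or.inr (Or.inr (Or.inl h))))
      ext a
      simp only [Set.mem_ofPred_eq, sA]
      rw [hFeq h34, ← hMeq hK]
  · intro hU
    rintro (h | h | h)
    · exact hU ((h82 M hM K U hKU).mp (Or.inl h)).2.1
    · exact hU ((h82 M hM K U hKU).mp (Or.inr h)).2.1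
    · exact hU ((h83 M hM K U hKU).mp h).2.1

end Cfsg.Agent.Lib.Helper10.BGTame
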