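import Mathlib
import Cfsg.Agent.Lib.Helper10.BGTameB
import Cfsg.Agent.Lib.Helper26.PFEightC
import Cfsg.Agent.S3745

/-!
# B&G Theorem II: the elements of `A₀(M) ∖ A(M)` (helper10)

For type-P data `(W₁, U, W₂)` of `M` the elements of `W₁W₂ ∖ (W₁ ∪ W₂)` have their centralizer in
`M`, are not fused to elements of `M'`, and are fused among themselves only by elements of `M`.
-/

set_option autoImplicit false
set_option linter.unusedVariables false
set_option linter.unusedSectionVars false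

namespace Cfsg.Agent.Lib.Helper10.BGTame

open Cfsg

universe u

variable {G : Type u} [Group G]

/-- product decomposition in the join of two elementwise commuting subgroups -/
theorem exists_mul_of_mem_sup {A B : Subgroup G} (hc : ∀ a ∈ A, ∀ b ∈ B, a * b = b * a) {x : G}
    (hx : x ∈ A ⊔ B) : ∃ a ∈ A, ∃ b ∈ B, x = a * b := by
  let S : Subgroup G :=
    { carrier := {x | ∃ a ∈ A, ∃ b ∈ B, x = a * b}
      mul_mem' := by
        rintro _ _ ⟨a, ha, b, hb, rfl⟩ ⟨a', ha', b', hb', rfl⟩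
        refine ⟨a * a', A.mul_mem ha ha', b * b', B.mul_mem hb hb', ?_⟩
        calc a * b * (a' * b') = a * (b * a') * b' := by group
          _ = a * (a' * b) * b' := by rw [← hc a' ha' b hb]
          _ = a * a' * (b * b') := by group
      one_mem' := ⟨1, A.one_mem, 1, B.one_mem, by simp⟩
      inv_mem' := by
        rintro _ ⟨a, ha, b, hb, rfl⟩
        refine ⟨a⁻¹, A.inv_mem ha, b⁻¹, B.inv_mem hb, ?_⟩
        rw [mul_inv_rev]
        exact (hc _ (A.inv_mem ha) _ (B.inv_mem hb)).symm }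
  have hle : A ⊔ B ≤ S :=
    sup_le (fun a ha => ⟨a, ha, 1, B.one_mem, by simp⟩) (fun b hb => ⟨1, A.one_mem, b, hb, by simp⟩)
  exact hle hx

theorem pow_card_eq_one_of_mem [Finite G] {H : Subgroup G} {x : G} (hx : x ∈ H) :
    x ^ Nat.card H = 1 :=
  orderOf_dvd_iff_pow_eq_one.mp (Subgroup.orderOf_dvd_natCard H hx)

/-- an element of `A B` killed by `n`, with `n` prime to `|A|` and killing `B`, lies in `B` -/
theorem mem_right_of_pow_eq_one [Finite G] {A B : Subgroup G}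
    (hc : ∀ a ∈ A, ∀ b ∈ B, a * b = b * a) {n : ℕ} (hcop : (Nat.card A).Coprime n)
    (hB : ∀ b ∈ B, b ^ n = 1) {x : G} (hx : x ∈ A ⊔ B) (hxn : x ^ n = 1) : x ∈ B := by
  obtain ⟨a, ha, b, hb, rfl⟩ := exists_mul_of_mem_sup hc hx
  have h1 : (a * b) ^ n = a ^ n * b ^ n := (show Commute a b from hc a ha b hb).mul_pow n
  rw [h1, hB b hb, mul_one] at hxn
  have h2 : orderOf a ∣ n := orderOf_dvd_of_pow_eq_one hxn
  have h3 : orderOf a ∣ Nat.card A := Subgroup.orderOf_dvd_natCard A ha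
  have h4 : orderOf a = 1 := Nat.eq_one_of_dvd_coprimes hcop h3 h2
  rw [orderOf_eq_one_iff] at h4
  rw [h4, one_mul]; exact hb

section typeP

variable [Finite G] {M W₁ U W₂ : Subgroup G} (hP : IsTypePWith M W₁ U W₂)

include hP

theorem typeP_W₁_le : W₁ ≤ M := hP.W₁_compl.2.1

theorem typeP_W₂_le_commutator : W₂ ≤ ⁅M, M⁆ :=
  hP.W₂_le.trans (inf_le_right.trans (Cfsg.Agent.Lib.Helper26.PFEight.commutator_self_le ⁅M, M⁆))

theorem typeP_sup_le : W₁ ⊔ W₂ ≤ M :=
  sup_le (typeP_W₁_le hP)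
    ((typeP_W₂_le_commutator hP).trans (Cfsg.Agent.Lib.Helper26.PFEight.commutator_self_le M))

theorem typeP_comm : ∀ a ∈ W₁, ∀ b ∈ W₂, a * b = b * a := hP.selfNormalizing.2.2.2.1

theorem typeP_coprime_commutator : (Nat.card W₁).Coprime (Nat.card ↥⁅M, M⁆) := by
  have h := hP.W₁_hall
  rwa [Cfsg.Agent.Lib.Helper26.PFEight.relIndex_of_isComplIn hP.W₁_compl] at h

theorem typeP_coprime_W : (Nat.card W₁).Coprime (Nat.card W₂) :=
  (typeP_coprime_commutator hP).coprime_dvd_right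
    (Subgroup.card_dvd_of_le (typeP_W₂_le_commutator hP))

/-- an element of `W₁W₂` lying in `M'` lies in `W₂`; more generally if it is killed by `|M'|` -/
theorem mem_W₂_of_pow {w : G} (hw : w ∈ W₁ ⊔ W₂) (h : w ^ Nat.card ↥⁅M, M⁆ = 1) : w ∈ W₂ :=
  mem_right_of_pow_eq_one (typeP_comm hP) (typeP_coprime_commutator hP)
    (fun b hb => pow_card_eq_one_of_mem (typeP_W₂_le_commutator hP hb)) hw h

theorem mem_W₂_of_pow_card {w : G} (hw : w ∈ W₁ ⊔ W₂) (h : w ^ Nat.card W₂ = 1) : w ∈ W₂ :=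
  mem_right_of_pow_eq_one (typeP_comm hP) (typeP_coprime_W hP)
    (fun b hb => pow_card_eq_one_of_mem hb) hw h

theorem mem_W₁_of_pow_card {w : G} (hw : w ∈ W₁ ⊔ W₂) (h : w ^ Nat.card W₁ = 1) : w ∈ W₁ := by
  rw [sup_comm] at hw
  exact mem_right_of_pow_eq_one (fun a ha b hb => (typeP_comm hP b hb a ha).symm)
    (typeP_coprime_W hP).symm (fun b hb => pow_card_eq_one_of_mem hb) hw h

/-- `N_G({w}) = W₁W₂` for `w ∈ W₁W₂ ∖ (W₁ ∪ W₂)`, hence `C_G(w) ≤ W₁W₂` -/
theorem centralizer_le_sup {w : G} (hw : w ∈ W₁ ⊔ W₂) (hw1 : w ∉ W₁) (hw2 : w ∉ W₂) :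
    Subgroup.centralizer ({w} : Set G) ≤ W₁ ⊔ W₂ := by
  have hN : Subgroup.normalizer ({w} : Set G) = W₁ ⊔ W₂ := by
    apply hP.selfNormalizing.2.2.2.2.2 {w}
    · intro z hz
      rw [Set.mem_singleton_iff] at hz
      subst hz
      exact ⟨hw, fun h => h.elim hw1 hw2⟩
    · exact ⟨w, rfl⟩
  rw [← hN]
  intro c hc
  rw [Subgroup.mem_centralizer_singleton_iff] at hc
  rw [Subgroup.mem_set_normalizer_iff]
  intro n
  simp only [Set.mem_singleton_iff]
  constructor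
  · intro h
    rw [h, hc]; group
  · intro h
    have : n = c⁻¹ * (c * n * c⁻¹) * c := by group
    rw [this, h]
    calc c⁻¹ * w * c = c⁻¹ * (w * c) := by group
      _ = c⁻¹ * (c * w) := by rw [hc]
      _ = w := by group

omit hP in
theorem map_conj_le_self' {X : Subgroup G} {m : G} (hm : m ∈ X) :
    X.map (MulAut.conj m).toMonoidHom ≤ X := by
  intro z hz
  rw [mem_map_conj] at hz
  have := X.mul_mem (X.mul_mem hm hz) (X.inv_mem hm)
  have e : m * (m⁻¹ * z * m) * m⁻¹ = z := by group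
  rwa [e] at this

/-- **`C_G(v) ≤ M`** for `v` in the `M`-conjugates of `W₁W₂ ∖ (W₁ ∪ W₂)`. -/
theorem centralizer_zhat_le {m w : G} (hm : m ∈ M) (hw : w ∈ W₁ ⊔ W₂) (hw1 : w ∉ W₁)
    (hw2 : w ∉ W₂) : Subgroup.centralizer ({m * w * m⁻¹} : Set G) ≤ M :=
  (centralizer_conj_le_map ((centralizer_le_sup hP hw hw1 hw2).trans (typeP_sup_le hP))).trans
    (map_conj_le_self' hm)

/-- **no fusion between `M'` and the conjugates of `W₁W₂ ∖ (W₁ ∪ W₂)`** -/
theorem not_conj_zhat {x g m w : G} (hx : x ∈ ⁅M, M⁆) (hw : w ∈ W₁ ⊔ W₂) (hw2 : w ∉ W₂)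
    (h : g * x * g⁻¹ = m * w * m⁻¹) : False := by
  apply hw2
  apply mem_W₂_of_pow hP hw
  have hx1 : x ^ Nat.card ↥⁅M, M⁆ = 1 := pow_card_eq_one_of_mem hx
  have hw' : w = (m⁻¹ * g) * x * (m⁻¹ * g)⁻¹ := by
    have : w = m⁻¹ * (m * w * m⁻¹) * m := by group
    rw [this, ← h]; group
  rw [hw', conj_pow, hx1]; group

end typeP

end Cfsg.Agent.Lib.Helper10.BGTame
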