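import Mathlib
import Cfsg.Agent.Lib.Helper10.BGTameF

/-!
# B&G Theorem II: fusion inside the conjugates of `W₁W₂ ∖ (W₁ ∪ W₂)` (helper10)
-/

set_option autoImplicit false
set_option linter.unusedVariables false
set_option linter.unusedSectionVars false

namespace Cfsg.Agent.Lib.Helper10.BGTame

open Cfsg
open scoped commutatorElement

universe u

variable {G : Type u} [Group G] [Finite G]

/-- elements of a cyclic subgroup commute -/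
theorem comm_of_isCyclic {W : Subgroup G} (hW : IsCyclic ↥W) {a b : G} (ha : a ∈ W) (hb : b ∈ W) :
    a * b = b * a := by
  obtain ⟨g0, hg0⟩ := hW.exists_generator
  obtain ⟨i, hi⟩ := Subgroup.mem_zpowers_iff.mp (hg0 ⟨a, ha⟩)
  obtain ⟨j, hj⟩ := Subgroup.mem_zpowers_iff.mp (hg0 ⟨b, hb⟩)
  have h : (⟨a, ha⟩ : ↥W) * ⟨b, hb⟩ = ⟨b, hb⟩ * ⟨a, ha⟩ := by
    rw [← hi, ← hj]; exact zpow_mul_comm g0 i j
  exact congrArg Subtype.val h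

section typeP

variable {M W₁ U W₂ : Subgroup G} (hP : IsTypePWith M W₁ U W₂)

include hP

/-- the set `W₁W₂ ∖ (W₁ ∪ W₂)` is mapped into itself by any `g` mapping one of its elements into
it -/
theorem conj_zhat_mem {g w0 : G} (hw0 : w0 ∈ W₁ ⊔ W₂) (hw01 : w0 ∉ W₁) (hw02 : w0 ∉ W₂)
    (hg : g * w0 * g⁻¹ ∈ W₁ ⊔ W₂) (hg1 : g * w0 * g⁻¹ ∉ W₁) (hg2 : g * w0 * g⁻¹ ∉ W₂)
    {u : G} (hu : u ∈ W₁ ⊔ W₂) (hu1 : u ∉ W₁) (hu2 : u ∉ W₂) :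
    g * u * g⁻¹ ∈ W₁ ⊔ W₂ ∧ g * u * g⁻¹ ∉ W₁ ∧ g * u * g⁻¹ ∉ W₂ := by
  have hcyc : IsCyclic ↥(W₁ ⊔ W₂) := hP.selfNormalizing.2.2.2.2.1
  have hcomm : u * w0 = w0 * u := comm_of_isCyclic hcyc hu hw0
  have hmem : g * u * g⁻¹ ∈ W₁ ⊔ W₂ := by
    apply centralizer_le_sup hP hg hg1 hg2
    rw [Subgroup.mem_centralizer_singleton_iff]
    calc g * u * g⁻¹ * (g * w0 * g⁻¹) = g * (u * w0) * g⁻¹ := by group
      _ = g * (w0 * u) * g⁻¹ := by rw [hcomm]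
      _ = g * w0 * g⁻¹ * (g * u * g⁻¹) := by group
  refine ⟨hmem, ?_, ?_⟩
  · intro h
    apply hu1
    apply mem_W₁_of_pow_card hP hu
    have h1 : (g * u * g⁻¹) ^ Nat.card W₁ = 1 := pow_card_eq_one_of_mem h
    rw [conj_pow] at h1
    have : u ^ Nat.card W₁ = g⁻¹ * (g * u ^ Nat.card W₁ * g⁻¹) * g := by group
    rw [this, h1]; group
  · intro h
    apply hu2
    apply mem_W₂_of_pow_card hP hu
    have h1 : (g * u * g⁻¹) ^ Nat.card W₂ = 1 := pow_card_eq_one_of_mem h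
    rw [conj_pow] at h1
    have : u ^ Nat.card W₂ = g⁻¹ * (g * u ^ Nat.card W₂ * g⁻¹) * g := by group
    rw [this, h1]; group

/-- **TI property**: an element conjugating some `w ∈ W₁W₂ ∖ (W₁ ∪ W₂)` into that set lies in
`W₁W₂`. -/
theorem mem_sup_of_conj_zhat {h w : G} (hw : w ∈ W₁ ⊔ W₂) (hw1 : w ∉ W₁) (hw2 : w ∉ W₂)
    (hh : h * w * h⁻¹ ∈ W₁ ⊔ W₂) (hh1 : h * w * h⁻¹ ∉ W₁) (hh2 : h * w * h⁻¹ ∉ W₂) :
    h ∈ W₁ ⊔ W₂ := by
  have hN : Subgroup.normalizer ((↑(W₁ ⊔ W₂) : Set G) \ (↑W₁ ∪ ↑W₂)) = W₁ ⊔ W₂ :=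
    hP.selfNormalizing.2.2.2.2.2 _ (fun _ hz => hz) ⟨w, hw, fun h => h.elim hw1 hw2⟩
  rw [← hN, Subgroup.mem_set_normalizer_iff]
  intro n
  constructor
  · rintro ⟨hn, hn'⟩
    have hn1 : n ∉ W₁ := fun h => hn' (Or.inl h)
    have hn2 : n ∉ W₂ := fun h => hn' (Or.inr h)
    obtain ⟨h1, h2, h3⟩ := conj_zhat_mem hP hw hw1 hw2 hh hh1 hh2 hn hn1 hn2
    exact ⟨h1, fun h => h.elim h2 h3⟩
  · rintro ⟨hn, hn'⟩
    have hn1 : h * n * h⁻¹ ∉ W₁ := fun h => hn' (Or.inl h)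
    have hn2 : h * n * h⁻¹ ∉ W₂ := fun h => hn' (Or.inr h)
    have e : h⁻¹ * (h * w * h⁻¹) * h⁻¹⁻¹ = w := by group
    have e' : h⁻¹ * (h * n * h⁻¹) * h⁻¹⁻¹ = n := by group
    obtain ⟨h1, h2, h3⟩ := conj_zhat_mem hP (g := h⁻¹) hh hh1 hh2 (by rw [e]; exact hw)
      (by rw [e]; exact hw1) (by rw [e]; exact hw2) hn hn1 hn2
    rw [e'] at h1 h2 h3
    exact ⟨h1, fun h => h.elim h2 h3⟩

end typeP

/-- two sets of type-P data of `M` are conjugate under `M` -/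
theorem exists_conj_data {M W₁ U W₂ W₁' U' W₂' : Subgroup G} (hsolv : Group.IsSolvable ↥M)
    (hP : IsTypePWith M W₁ U W₂) (hP' : IsTypePWith M W₁' U' W₂') :
    ∃ c ∈ M, W₁' = W₁.map (MulAut.conj c).toMonoidHom ∧
      W₂' = W₂.map (MulAut.conj c).toMonoidHom := by
  have hcard : Nat.card ↥W₁' = Nat.card ↥W₁ := by
    have h1 := Cfsg.Agent.Lib.Helper23.card_of_isComplIn hP.W₁_compl
    have h2 := Cfsg.Agent.Lib.Helper23.card_of_isComplIn hP'.W₁_compl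
    rw [h1] at h2
    exact (Nat.eq_of_mul_eq_mul_left Nat.card_pos h2).symm
  let π : Set ℕ := {p | p ∣ Nat.card ↥W₁}
  have h1 : IsPiHallOf π W₁ M := by
    refine ⟨typeP_W₁_le hP, fun p _ hp => hp, fun p hp hpπ hdvd => ?_⟩
    exact hp.one_lt.ne' (Nat.eq_one_of_dvd_coprimes hP.W₁_hall hpπ hdvd)
  have h1' : IsPiHallOf π W₁' M := by
    refine ⟨typeP_W₁_le hP', fun p _ hp => ?_, fun p hp hpπ hdvd => ?_⟩
    · show p ∣ Nat.card ↥W₁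
      rw [← hcard]; exact hp
    · have hpπ' : p ∣ Nat.card ↥W₁' := by rw [hcard]; exact hpπ
      exact hp.one_lt.ne' (Nat.eq_one_of_dvd_coprimes hP'.W₁_hall hpπ' hdvd)
  have h := Cfsg.Agent.S3745.result (⊥ : Subgroup G) M bot_le
    (by rw [Subgroup.card_bot]; exact Nat.coprime_one_left _) hsolv π
  obtain ⟨c, hc, hcW⟩ := h.2.1 W₁ W₁' h1 bot_le h1' bot_le
  have hcM : c ∈ M := hc.1
  refine ⟨c, hcM, hcW, ?_⟩
  -- `W₂' = C_{M'}(x')` for `x' = c x c⁻¹`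
  obtain ⟨x, hx, hx1⟩ : ∃ x ∈ W₁, x ≠ 1 := by
    by_contra h
    push Not at h
    apply hP.W₁_ne
    rw [eq_bot_iff]; intro z hz; rw [Subgroup.mem_bot]; exact h z hz
  have hx' : c * x * c⁻¹ ∈ W₁' := by
    rw [hcW, mem_map_conj]
    have : c⁻¹ * (c * x * c⁻¹) * c = x := by group
    rw [this]; exact hx
  have hx'1 : c * x * c⁻¹ ≠ 1 := by
    intro h
    apply hx1
    have : x = c⁻¹ * (c * x * c⁻¹) * c := by group
    rw [this, h]; group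
  rw [← hP'.W₂_centralizer _ hx' hx'1, ← hP.W₂_centralizer x hx hx1]
  have hnorm : ∀ z : G, z ∈ ⁅M, M⁆ → c⁻¹ * z * c ∈ ⁅M, M⁆ := by
    intro z hz
    have hzM : z ∈ M := Cfsg.Agent.Lib.Helper26.PFEight.commutator_self_le M hz
    have h1 : ⁅c⁻¹, z⁆ ∈ ⁅M, M⁆ := Subgroup.commutator_mem_commutator (M.inv_mem hcM) hzM
    have : c⁻¹ * z * c = ⁅c⁻¹, z⁆ * z := by
      rw [commutatorElement_def]; group
    rw [this]
    exact Subgroup.mul_mem _ h1 hz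
  have hnorm' : ∀ z : G, z ∈ ⁅M, M⁆ → c * z * c⁻¹ ∈ ⁅M, M⁆ := by
    intro z hz
    have hzM : z ∈ M := Cfsg.Agent.Lib.Helper26.PFEight.commutator_self_le M hz
    have h1 : ⁅c, z⁆ ∈ ⁅M, M⁆ := Subgroup.commutator_mem_commutator hcM hzM
    have : c * z * c⁻¹ = ⁅c, z⁆ * z := by
      rw [commutatorElement_def]; group
    rw [this]
    exact Subgroup.mul_mem _ h1 hz
  ext z
  rw [mem_map_conj, Subgroup.mem_inf, Subgroup.mem_inf]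
  constructor
  · rintro ⟨hz1, hz2⟩
    refine ⟨hnorm z hz1, ?_⟩
    rw [Subgroup.mem_centralizer_singleton_iff] at hz2 ⊢
    calc c⁻¹ * z * c * x = c⁻¹ * (z * (c * x * c⁻¹)) * c := by group
      _ = c⁻¹ * ((c * x * c⁻¹) * z) * c := by rw [hz2]
      _ = x * (c⁻¹ * z * c) := by group
  · rintro ⟨hz1, hz2⟩
    have e : z = c * (c⁻¹ * z * c) * c⁻¹ := by group
    refine ⟨by rw [e]; exact hnorm' _ hz1, ?_⟩
    rw [Subgroup.mem_centralizer_singleton_iff] at hz2 ⊢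
    calc z * (c * x * c⁻¹) = c * ((c⁻¹ * z * c) * x) * c⁻¹ := by group
      _ = c * (x * (c⁻¹ * z * c)) * c⁻¹ := by rw [hz2]
      _ = c * x * c⁻¹ * z := by group

/-- **fusion among the conjugates of `W₁W₂ ∖ (W₁ ∪ W₂)` is induced by `M`**: in fact the fusing
element lies in `M`. -/
theorem mem_of_conj_zhat {M W₁ U W₂ W₁' U' W₂' : Subgroup G} (hsolv : Group.IsSolvable ↥M)
    (hP : IsTypePWith M W₁ U W₂) (hP' : IsTypePWith M W₁' U' W₂')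
    {g m w m' w' : G} (hm : m ∈ M) (hw : w ∈ W₁ ⊔ W₂) (hw1 : w ∉ W₁) (hw2 : w ∉ W₂)
    (hm' : m' ∈ M) (hw' : w' ∈ W₁' ⊔ W₂') (hw1' : w' ∉ W₁') (hw2' : w' ∉ W₂')
    (h : g * (m * w * m⁻¹) * g⁻¹ = m' * w' * m'⁻¹) : g ∈ M := by
  obtain ⟨c, hc, hc1, hc2⟩ := exists_conj_data hsolv hP hP'
  -- `w'' = c⁻¹ w' c ∈ W₁W₂ ∖ (W₁ ∪ W₂)`
  have hsup : W₁' ⊔ W₂' = (W₁ ⊔ W₂).map (MulAut.conj c).toMonoidHom := by
    rw [Subgroup.map_sup, ← hc1, ← hc2]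
  have h1 : c⁻¹ * w' * c ∈ W₁ ⊔ W₂ := by
    rw [hsup, mem_map_conj] at hw'; exact hw'
  have h2 : c⁻¹ * w' * c ∉ W₁ := by
    intro h0; apply hw1'; rw [hc1, mem_map_conj]; exact h0
  have h3 : c⁻¹ * w' * c ∉ W₂ := by
    intro h0; apply hw2'; rw [hc2, mem_map_conj]; exact h0
  set k := c⁻¹ * m'⁻¹ * g * m with hk
  have hkw : k * w * k⁻¹ = c⁻¹ * w' * c := by
    have : k * w * k⁻¹ = c⁻¹ * m'⁻¹ * (g * (m * w * m⁻¹) * g⁻¹) * m' * c := by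
      rw [hk]; group
    rw [this, h]; group
  have hkW : k ∈ W₁ ⊔ W₂ :=
    mem_sup_of_conj_zhat hP hw hw1 hw2 (by rw [hkw]; exact h1) (by rw [hkw]; exact h2)
      (by rw [hkw]; exact h3)
  have hkM : k ∈ M := typeP_sup_le hP hkW
  have : g = m' * c * k * m⁻¹ := by rw [hk]; group
  rw [this]
  exact M.mul_mem (M.mul_mem (M.mul_mem hm' hc) hkM) (M.inv_mem hm)

end Cfsg.Agent.Lib.Helper10.BGTame
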