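import Mathlib
import Cfsg.Agent.Lib.Helper10.BGTameC
import Cfsg.Agent.Lib.Helper10.BGTameD
import Cfsg.Agent.Lib.Helper10.BGTameE
import Cfsg.Agent.Lib.Helper10.BGTameG

/-!
# B&G Theorem II (tame embedding) in book form: the `tame` field of `BookBGData` (helper10)

`tame_of` derives the exact `tame` field of `Cfsg.Agent.Lib.Helper4.PF.BookBGData` from the literal
rows S1350-S1352, S1355, S1357, S1365, S1374-S1376, S1378, S1381-S1383, S1432, S1436 and the `types`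
field.
-/

set_option autoImplicit false
set_option linter.unusedVariables false

namespace Cfsg.Agent.Lib.Helper10.BGTame

open Cfsg Cfsg.Agent.Lib.Helper4.PF

universe u

variable {G : Type u} [Group G]

theorem exists_decomp [Finite G] (h51 : Stmt1351 G) (h52 : Stmt1352 G) {M : Subgroup G}
    (hM : IsCoatom M) : ∃ K U : Subgroup G, IsSigmaDecomposition M K U := by
  obtain ⟨⟨K, hK⟩, hcyc⟩ := h51 M hM
  obtain ⟨⟨U, hU⟩, -⟩ := h52 M hM K (hcyc K hK) hK
  exact ⟨K, U, hU⟩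

/-- the part of `A₀(M)` outside `A(M)` -/
def ZPart (M : Subgroup G) (v : G) : Prop :=
  ∃ W₁ U W₂ : Subgroup G, IsTypePWith M W₁ U W₂ ∧
    ∃ m ∈ M, ∃ w ∈ W₁ ⊔ W₂, w ∉ W₁ ∧ w ∉ W₂ ∧ v = m * w * m⁻¹

theorem cases_of_mem {M : Subgroup G} {X : Set G} (hX : X = litA M ∨ X = litA0 M) {v : G}
    (hv : v ∈ X) : v ∈ litA M ∨ ZPart M v := by
  rcases hX with rfl | rfl
  · exact Or.inl hv
  · rcases hv with h | h
    · exact Or.inl h
    · exact Or.inr h

/-- **B&G Theorem II, book form.** -/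
theorem tame_of [Finite G] (hG : IsMinSimpleOddOrder G)
    (h50 : Stmt1350 G) (h51 : Stmt1351 G) (h52 : Stmt1352 G) (h55 : Stmt1355 G) (h57 : Stmt1357 G)
    (h65 : Stmt1365 G) (h74 : Stmt1374 G) (h75 : Stmt1375 G) (h76 : Stmt1376 G) (h78 : Stmt1378 G)
    (h81 : Stmt1381 G) (h82 : Stmt1382 G) (h83 : Stmt1383 G) (h32 : H1432 G) (h36 : H1436 G)
    (types : ∀ M : Subgroup G, IsCoatom M → LitTypeI M ∨ IsTypeIItoV M) :
    ∀ (M : Subgroup G), IsCoatom M → ∀ X : Set G, (X = litA M ∨ X = litA0 M) →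
      (∀ x ∈ X, ∀ g : G, g * x * g⁻¹ ∈ X → ∃ m ∈ M, m * x * m⁻¹ = g * x * g⁻¹) ∧
      (∀ x ∈ X, ¬ Subgroup.centralizer ({x} : Set G) ≤ M →
        x ∈ typeA1 M ∧ ∃! L : Subgroup G, IsCoatom L ∧ Subgroup.centralizer ({x} : Set G) ≤ L) ∧
      ∀ x ∈ X, ¬ Subgroup.centralizer ({x} : Set G) ≤ M → ∀ L : Subgroup G, IsCoatom L →
        Subgroup.centralizer ({x} : Set G) ≤ L →
        IsComplIn (fittingHallOf L) (M ⊓ L) L ∧
        Subgroup.centralizer ({x} : Set G) ≤ Subgroup.normalizer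
          ((fittingHallOf L ⊓ Subgroup.centralizer ({x} : Set G) : Subgroup G) : Set G) ∧
        IsComplIn (fittingHallOf L ⊓ Subgroup.centralizer ({x} : Set G))
          (M ⊓ Subgroup.centralizer ({x} : Set G)) (Subgroup.centralizer ({x} : Set G)) ∧
        (∀ y ∈ X, (Nat.card (fittingHallOf L)).Coprime
          (Nat.card ↥(M ⊓ Subgroup.centralizer ({y} : Set G)))) ∧
        (x ∈ litA L ∧ x ∉ typeA1 L) ∧
        (LitTypeI L ∨ IsOfTypeII L) ∧
        (IsOfTypeII L → IsFrobWithFittingHall M) := by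
  intro M hM X hX
  have hsolv : Group.IsSolvable ↥M := hG.2.2.2 M hM.1
  obtain ⟨K, U, hKU⟩ := exists_decomp h51 h52 hM
  have D := dict_of h55 h57 h65 h81 h82 h83 types hM hKU
  have hcases : ∀ v ∈ X, v ∈ sA M U ∨ ZPart M v := by
    intro v hv
    rcases cases_of_mem hX hv with h | h
    · left; rw [← D.litA_eq]; exact h
    · exact Or.inr h
  -- elements of `sA M U` lie in `M'` when `M` has type-P data
  have hsA_comm : ∀ {W₁ U' W₂ : Subgroup G}, IsTypePWith M W₁ U' W₂ → ∀ v ∈ sA M U,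
      v ∈ ⁅M, M⁆ := by
    intro W₁ U' W₂ hP v hv
    rw [D.commutator_eq ⟨W₁, U', W₂, hP⟩]
    exact hv.1
  -- elements of `X` with centralizer outside `M` are in `M_σ ∖ 1`
  have hD : ∀ x ∈ X, ¬ Subgroup.centralizer ({x} : Set G) ≤ M →
      x ∈ sA M U ∧ x ∈ sigmaCore M ∧ x ≠ 1 := by
    intro x hx hC
    rcases hcases x hx with hxa | ⟨W₁, U', W₂, hP, m, hm, w, hw, hw1, hw2, rfl⟩
    · exact ⟨hxa, mem_sigmaCore_of_not_le h50 h32 hM hKU hxa hC, hxa.2.1⟩
    · exact absurd (centralizer_zhat_le hP hm hw hw1 hw2) hC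
  refine ⟨?_, ?_, ?_⟩
  · -- fusion
    intro x hx g hg
    rcases hcases x hx with hxa | ⟨W₁, U', W₂, hP, m, hm, w, hw, hw1, hw2, hxeq⟩
    · rcases hcases _ hg with hga | ⟨W₁', U'', W₂', hP', m', hm', w', hw', hw1', hw2', hgeq⟩
      · exact fusion_sA hG h50 h74 h32 hM hKU hxa hga
      · exact absurd (not_conj_zhat hP' (hsA_comm hP' x hxa) hw' hw2' hgeq) id
    · rcases hcases _ hg with hga | ⟨W₁', U'', W₂', hP', m', hm', w', hw', hw1', hw2', hgeq⟩
      · exfalso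
        have h1 : g⁻¹ * (g * x * g⁻¹) * g⁻¹⁻¹ = m * w * m⁻¹ := by
          rw [← hxeq]; group
        exact not_conj_zhat hP (hsA_comm hP _ hga) hw hw2 h1
      · rw [hxeq] at hgeq
        have hgM : g ∈ M :=
          mem_of_conj_zhat hsolv hP hP' hm hw hw1 hw2 hm' hw' hw1' hw2' hgeq
        exact ⟨g, hgM, rfl⟩
  · -- `D ⊆ A₁(M)` and uniqueness of `L`
    intro x hx hC
    obtain ⟨hxa, hxσ, hx1⟩ := hD x hx hC
    refine ⟨⟨by rw [D.core_eq]; exact hxσ, by simpa using hx1⟩, ?_⟩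
    obtain ⟨N, ⟨hN, hxN⟩, huniq, -⟩ := h75 M hM x hxσ hx1 hC
    exact ⟨N, ⟨hN, hxN⟩, fun L' hL' => huniq L' hL'.1 hL'.2⟩
  · intro x hx hC L hL hxL
    obtain ⟨hxa, hxσ, hx1⟩ := hD x hx hC
    obtain ⟨huniq, hLF, hc1, hnorm, hc2, hdec, hxnot, hnc⟩ :=
      support_structure hG h50 h51 h52 h75 hM hxσ hx1 hC hL hxL
    obtain ⟨K', U', hKU'⟩ := exists_decomp h51 h52 hL
    have D' := dict_of h55 h57 h65 h81 h82 h83 types hL hKU'
    obtain ⟨hU'1, hxA, -⟩ := hdec K' U' hKU'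
    refine ⟨by rw [← hLF]; exact hc1, by rw [← hLF]; exact hnorm, by rw [← hLF]; exact hc2,
      ?_, ?_, ?_, ?_⟩
    · intro y hy
      rw [← hLF]
      rcases hcases y hy with hya | ⟨W₁, U'', W₂, hP, m, hm, w, hw, hw1, hw2, rfl⟩
      · exact coprime_card_centralizer h50 h78 h32 h36 hM hKU hxσ hx1 hC hL hxL hnc hya
      · apply Cfsg.Agent.Lib.Helper26.BGTypes.coprime_of_forall_prime
        intro p hp hpL hpC
        have hpM : p ∣ Nat.card M := hpC.trans (Subgroup.card_dvd_of_le inf_le_left)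
        obtain ⟨hκ, -, -⟩ := prime_facts h78 h36 hM hxσ hx1 hC hL hxL hnc hp hpL hpM
        have hK1 : K ≠ ⊥ := D.typeP_ne ⟨W₁, U'', W₂, hP⟩
        obtain ⟨q, hq⟩ := Cfsg.Agent.Lib.Helper26.BGTypes.kappa_nonempty_of_ne_bot hKU.hall hK1
        rw [hκ] at hq
        exact hq
    · constructor
      · rw [D'.litA_eq]
        obtain ⟨⟨-, y, hy, hy1, hxy⟩, hxsup⟩ := hxA
        exact ⟨hxsup, hx1, y, hy, hy1, hxy⟩
      · intro h
        apply hxnot
        have := h.1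
        rwa [D'.core_eq] at this
    · rcases types L hL with hI | hII | hIII | hIV | hV
      · exact Or.inl hI
      · exact Or.inr hII
      · exact absurd (Or.inl hIII) (D'.not345 hU'1)
      · exact absurd (Or.inr (Or.inl hIV)) (D'.not345 hU'1)
      · exact absurd (Or.inr (Or.inr hV)) (D'.not345 hU'1)
    · intro hII
      have hP : IsOfTypeP L := Cfsg.Agent.Lib.Helper26.PFBook.isOfTypeP_of_typeIItoV (Or.inl hII)
      have hK'1 : K' ≠ ⊥ := D'.typeP_ne hP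
      have hκ := Cfsg.Agent.Lib.Helper26.BGTypes.kappa_nonempty_of_ne_bot hKU'.hall hK'1
      obtain ⟨-, ⟨E, hE, -⟩, -⟩ := h76 M hM x hxσ hx1 hC L hL hxL hκ
      exact isFrobWithFittingHall_of_complement M E hE

end Cfsg.Agent.Lib.Helper10.BGTame
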