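import Mathlib
import Cfsg.Agent.Lib.Helper2.ShultGroup
import Cfsg.Agent.Lib.Helper2.FrobFree
import Cfsg.Agent.Lib.Helper9.BG36Tools2
import Cfsg.Agent.Lib.Helper24.Omega

/-!
# A fixed-point lemma of Hall–Higman–Shult type (tool for Bender–Glauberman 13.4, statement S1428)

`R` of prime order `r` normalizes the `q`-group `S`; both normalize the `p`-group `T` (`p, q, r` distinct,
`p, q` odd).  If `S` centralizes every element `t` of `T` with `t ^ p = 1` that is centralized by `R`, then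
`⁅S, R⁆` centralizes `T`.

Proof: minimal counterexample.  `S₂ = ⁅S, R⁆` centralizes every proper invariant subgroup of `T`, so
`T = ⁅T, S₂⁆`, `Φ(T) ≤ Z(T)`, the `p`-th power map is an endomorphism and `T` has exponent `p`.  With
`K₁ = Φ(T) C_T(S₂)`, Shult's theorem on `T / K₁` produces a fixed point of `R` outside `K₁`; it has
order `p`, so it is centralized by `S`: contradiction.
-/

set_option autoImplicit false

open scoped commutatorElement

namespace Cfsg.Agent.Lib.Helper10.BG13

open Cfsg.Agent.Lib.Helper9 Cfsg.Agent.Lib.Helper24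

variable {G : Type*} [Group G]

/-- a subgroup of `T` containing `⁅T, T⁆` is normal in `T` -/
theorem normal_subgroupOf_of_commutator_le {T K : Subgroup G} (hK : ⁅T, T⁆ ≤ K) :
    (K.subgroupOf T).Normal := by
  constructor
  intro n hn g
  rw [Subgroup.mem_subgroupOf] at hn ⊢
  have h1 : ⁅(g : G), (n : G)⁆ ∈ K := hK (Subgroup.commutator_mem_commutator g.2 n.2)
  have e : ((g * n * g⁻¹ : ↥T) : G) = ⁅(g : G), (n : G)⁆ * n := by
    rw [commutatorElement_def]
    push_cast
    group
  rw [e]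
  exact K.mul_mem h1 hn

/-- if `S₂` centralizes `A` and `B` then it centralizes `A ⊔ B` -/
theorem le_centralizer_sup {S₂ A B : Subgroup G} (hA : S₂ ≤ Subgroup.centralizer (A : Set G))
    (hB : S₂ ≤ Subgroup.centralizer (B : Set G)) :
    S₂ ≤ Subgroup.centralizer ((A ⊔ B : Subgroup G) : Set G) := by
  have h1 : A ≤ Subgroup.centralizer (S₂ : Set G) := Subgroup.le_centralizer_iff.mp hA
  have h2 : B ≤ Subgroup.centralizer (S₂ : Set G) := Subgroup.le_centralizer_iff.mp hB
  exact Subgroup.le_centralizer_iff.mp (sup_le h1 h2)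

/-- a finite `p`-subgroup is solvable -/
theorem isSolvable_of_isPGroup' [Finite G] {p : ℕ} [Fact p.Prime] {T : Subgroup G}
    (hT : IsPGroup p T) : Group.IsSolvable T := by
  have : Group.IsNilpotent T := hT.isNilpotent
  infer_instance

theorem coprime_card_of_isPGroup [Finite G] {p q : ℕ} [hp : Fact p.Prime] [hq : Fact q.Prime]
    (hpq : p ≠ q) {T S : Subgroup G} (hT : IsPGroup p T) (hS : IsPGroup q S) :
    (Nat.card T).Coprime (Nat.card S) := by
  obtain ⟨k, hk⟩ := IsPGroup.iff_card.mp hT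
  obtain ⟨l, hl⟩ := IsPGroup.iff_card.mp hS
  rw [hk, hl]
  exact Nat.Coprime.pow k l ((Nat.coprime_primes hp.out hq.out).mpr hpq)

theorem fixed_lemma_aux [Finite G] {p q r : ℕ} [hp : Fact p.Prime] [hq : Fact q.Prime]
    [hr : Fact r.Prime] (hp2 : p ≠ 2) (hq2 : q ≠ 2) (hpq : p ≠ q) (hpr : p ≠ r) (hqr : q ≠ r)
    (S R : Subgroup G) (hS : IsPGroup q S) (hR : Nat.card R = r)
    (hRS : R ≤ Subgroup.normalizer (S : Set G)) :
    ∀ (n : ℕ) (T : Subgroup G), Nat.card T ≤ n → IsPGroup p T →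
      S ≤ Subgroup.normalizer (T : Set G) → R ≤ Subgroup.normalizer (T : Set G) →
      (∀ t ∈ T, t ∈ Subgroup.centralizer (R : Set G) → t ^ p = 1 →
        t ∈ Subgroup.centralizer (S : Set G)) →
      ⁅S, R⁆ ≤ Subgroup.centralizer (T : Set G) := by
  intro n
  induction n with
  | zero =>
    intro T hT
    have := Nat.card_pos (α := T)
    omega
  | succ n ih =>
    intro T hTn hTp hST hRT hfix
    by_contra hnot
    obtain ⟨S₂, hS₂⟩ : ∃ S₂ : Subgroup G, S₂ = ⁅S, R⁆ := ⟨_, rfl⟩
    rw [← hS₂] at hnot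
    have hRp : IsPGroup r R := IsPGroup.of_card (n := 1) (by rw [hR, pow_one])
    have hS₂S : S₂ ≤ S := by rw [hS₂]; exact commutator_le_left_of_le_normalizer hRS
    have hRS₂ : R ≤ Subgroup.normalizer (S₂ : Set G) := by
      rw [hS₂]; exact le_normalizer_commutator_right S R
    have hSS₂ : S ≤ Subgroup.normalizer (S₂ : Set G) := by
      rw [hS₂]; exact le_normalizer_commutator_left S R
    have hS₂q : IsPGroup q S₂ := hS.to_le hS₂S
    have hS₂T : S₂ ≤ Subgroup.normalizer (T : Set G) := hS₂S.trans hST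
    have hS₂eq : ⁅S₂, R⁆ = S₂ := by
      rw [hS₂]
      exact commutator_commutator_eq_of_coprime S R hRS (coprime_card_of_isPGroup hqr hS hRp)
        (Or.inl (isSolvable_of_isPGroup' hRp))
    have hcopTS₂ : (Nat.card T).Coprime (Nat.card S₂) := coprime_card_of_isPGroup hpq hTp hS₂q
    have ih' : ∀ T' : Subgroup G, T' ≤ T → T' ≠ T → S ≤ Subgroup.normalizer (T' : Set G) →
        R ≤ Subgroup.normalizer (T' : Set G) → S₂ ≤ Subgroup.centralizer (T' : Set G) := by
      intro T' hle hne hS' hR'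
      have hlt := card_lt_of_le_of_ne hle hne
      rw [hS₂]
      exact ih T' (by omega) (hTp.to_le hle) hS' hR' (fun t ht => hfix t (hle ht))
    -- (a) `T = ⁅T, S₂⁆`
    have hT₀T : ⁅T, S₂⁆ ≤ T := commutator_le_left_of_le_normalizer hS₂T
    have hTeq : ⁅T, S₂⁆ = T := by
      by_contra hne
      have hSn : S ≤ Subgroup.normalizer ((⁅T, S₂⁆ : Subgroup G) : Set G) := fun s hs =>
        normalizer_inf_le_normalizer_commutator T S₂ ⟨hST hs, hSS₂ hs⟩
      have hRn : R ≤ Subgroup.normalizer ((⁅T, S₂⁆ : Subgroup G) : Set G) := fun s hs =>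
        normalizer_inf_le_normalizer_commutator T S₂ ⟨hRT hs, hRS₂ hs⟩
      have h1 := ih' _ hT₀T hne hSn hRn
      have h2 : ⁅⁅T, S₂⁆, S₂⁆ = ⊥ := commutator_eq_bot_iff_le_centralizer'.mpr h1
      rw [commutator_commutator_eq_of_coprime T S₂ hS₂T hcopTS₂
        (Or.inl (isSolvable_of_isPGroup' hS₂q))] at h2
      exact hnot (commutator_eq_bot_iff_le_centralizer'.mp h2)
    -- (b) the Frattini-like subgroup
    have hTne : T ≠ ⊥ := by
      rintro rfl
      apply hnot
      intro s _
      rw [Subgroup.mem_centralizer_iff]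
      intro x hx
      have hx1 : x = 1 := Subgroup.mem_bot.mp hx
      rw [hx1, one_mul, mul_one]
    obtain ⟨K, hK⟩ : ∃ K : Subgroup G, K = frat p T := ⟨_, rfl⟩
    have hKT : K ≤ T := by rw [hK]; exact frat_le p T
    have hKne : K ≠ T := by rw [hK]; exact frat_ne p T hTp hTne
    have hNK : Subgroup.normalizer (T : Set G) ≤ Subgroup.normalizer (K : Set G) := by
      rw [hK]; exact normalizer_le_normalizer_frat p T
    have hSK : S ≤ Subgroup.normalizer (K : Set G) := hST.trans hNK
    have hRK : R ≤ Subgroup.normalizer (K : Set G) := hRT.trans hNK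
    have hTK' : T ≤ Subgroup.normalizer (K : Set G) := Subgroup.le_normalizer.trans hNK
    have hS₂K : S₂ ≤ Subgroup.centralizer (K : Set G) := ih' K hKT hKne hSK hRK
    have hKS₂ : ⁅K, S₂⁆ = ⊥ := commutator_eq_bot_iff_le_centralizer'.mpr hS₂K
    -- (c) three subgroups lemma
    have hTK : ⁅T, K⁆ = ⊥ := by
      have h1 : ⁅⁅S₂, K⁆, T⁆ = ⊥ := by
        have : ⁅S₂, K⁆ = ⊥ := by rw [Subgroup.commutator_comm]; exact hKS₂
        rw [this]
        exact Subgroup.commutator_bot_left T
      have h2 : ⁅⁅K, T⁆, S₂⁆ = ⊥ := by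
        have hKTK : ⁅K, T⁆ ≤ K := commutator_le_left_of_le_normalizer hTK'
        rw [eq_bot_iff, ← hKS₂]
        exact Subgroup.commutator_mono hKTK le_rfl
      have h3 := Subgroup.commutator_commutator_eq_bot_of_rotate h1 h2
      rwa [hTeq] at h3
    have hcen : ∀ x ∈ T, ∀ c ∈ frat p T, c * x = x * c := by
      intro x hx c hc
      have h := Subgroup.commutator_eq_bot_iff_le_centralizer.mp hTK hx
      rw [Subgroup.mem_centralizer_iff] at h
      exact h c (by rw [hK]; exact hc)
    -- (d), (e) exponent `p`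
    have hpow : ∀ x ∈ T, ∀ y ∈ T, (x * y) ^ p = x ^ p * y ^ p := fun x hx y hy =>
      mul_pow_of_frat_central p hp2 T hcen x y hx hy
    have hexp : ∀ x ∈ T, x ^ p = 1 := by
      let Ω : Subgroup G :=
        { carrier := {x | x ∈ T ∧ x ^ p = 1}
          mul_mem' := fun {a b} ha hb => ⟨T.mul_mem ha.1 hb.1, by
            rw [hpow a ha.1 b hb.1, ha.2, hb.2, one_mul]⟩
          one_mem' := ⟨T.one_mem, one_pow p⟩
          inv_mem' := fun {a} ha => ⟨T.inv_mem ha.1, by rw [inv_pow, ha.2, inv_one]⟩ }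
      have hle : ⁅T, S₂⁆ ≤ Ω := by
        rw [Subgroup.commutator_le]
        intro x hx s hs
        have hy : s * x⁻¹ * s⁻¹ ∈ T := conj_mem_of_mem_normalizer (hS₂T hs) (T.inv_mem hx)
        have e : ⁅x, s⁆ = x * (s * x⁻¹ * s⁻¹) := by rw [commutatorElement_def]; group
        have hxp : x ^ p ∈ K := by rw [hK]; exact pow_mem_frat p T hx
        have hc := Subgroup.mem_centralizer_iff.mp (hS₂K hs) ((x ^ p)⁻¹) (K.inv_mem hxp)
        have h1 : (s * x⁻¹ * s⁻¹) ^ p = (x ^ p)⁻¹ := by
          rw [conj_pow, inv_pow, ← hc]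
          group
        refine ⟨by rw [e]; exact T.mul_mem hx hy, ?_⟩
        rw [e, hpow x hx _ hy, h1, mul_inv_cancel]
      intro x hx
      have hxΩ : x ∈ Ω := hle (by rw [hTeq]; exact hx)
      exact hxΩ.2
    -- (f) the subgroup `K₁`
    obtain ⟨K₁, hK₁⟩ : ∃ K₁ : Subgroup G,
        K₁ = K ⊔ (T ⊓ Subgroup.centralizer (S₂ : Set G)) := ⟨_, rfl⟩
    have hK₁T : K₁ ≤ T := by rw [hK₁]; exact sup_le hKT inf_le_left
    have hCK₁ : T ⊓ Subgroup.centralizer (S₂ : Set G) ≤ K₁ := by rw [hK₁]; exact le_sup_right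
    have hS₂C : S₂ ≤ Subgroup.centralizer
        ((T ⊓ Subgroup.centralizer (S₂ : Set G) : Subgroup G) : Set G) := by
      intro s hs
      rw [Subgroup.mem_centralizer_iff]
      intro x hx
      exact (Subgroup.mem_centralizer_iff.mp hx.2 s hs).symm
    have hK₁ne : ¬ T ≤ K₁ := by
      intro h
      apply hnot
      have h2 : S₂ ≤ Subgroup.centralizer (K₁ : Set G) := by
        rw [hK₁]; exact le_centralizer_sup hS₂K hS₂C
      exact h2.trans (Subgroup.centralizer_le h)
    have hcomK₁ : ⁅T, T⁆ ≤ K₁ := by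
      rw [hK₁, hK]; exact (comm_le_frat p T).trans le_sup_left
    have hNn : (K₁.subgroupOf T).Normal := normal_subgroupOf_of_commutator_le hcomK₁
    have hSK₁ : S ≤ Subgroup.normalizer (K₁ : Set G) := by
      intro s hs
      rw [hK₁]
      apply Subgroup.normalizer_inf_normalizer_le_normalizer_sup
      refine ⟨hSK hs, ?_⟩
      apply normalizer_inf_le
      exact ⟨hST hs, normalizer_le_normalizer_centralizer S₂ (hSS₂ hs)⟩
    have hRK₁ : R ≤ Subgroup.normalizer (K₁ : Set G) := by
      intro s hs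
      rw [hK₁]
      apply Subgroup.normalizer_inf_normalizer_le_normalizer_sup
      refine ⟨hRK hs, ?_⟩
      apply normalizer_inf_le
      exact ⟨hRT hs, normalizer_le_normalizer_centralizer S₂ (hRS₂ hs)⟩
    -- (g) the quotient `V = T / K₁` and Shult's theorem
    let N : Subgroup ↥T := K₁.subgroupOf T
    have hNdef : ∀ x : ↥T, x ∈ N ↔ (x : G) ∈ K₁ := fun x => Subgroup.mem_subgroupOf
    let _ : CommGroup (↥T ⧸ N) :=
      { (inferInstance : Group (↥T ⧸ N)) with
        mul_comm := by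
          intro a b
          induction a using QuotientGroup.induction_on with
          | H a =>
            induction b using QuotientGroup.induction_on with
            | H b =>
              rw [← QuotientGroup.mk_mul, ← QuotientGroup.mk_mul, QuotientGroup.eq, hNdef]
              have e : (((a * b)⁻¹ * (b * a) : ↥T) : G) = ⁅((b : G))⁻¹, ((a : G))⁻¹⁆ := by
                rw [commutatorElement_def]; push_cast; group
              rw [e]
              exact hcomK₁ (Subgroup.commutator_mem_commutator (T.inv_mem b.2) (T.inv_mem a.2)) }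
    have hV : ∀ v : ↥T ⧸ N, v ^ p = 1 := by
      intro v
      induction v using QuotientGroup.induction_on with
      | H x =>
        rw [← QuotientGroup.mk_pow]
        have : x ^ p = 1 := Subtype.ext (by push_cast; exact hexp x x.2)
        rw [this]; rfl
    let φ : ↥R →* MulAut ↥S₂ := Cfsg.Agent.Lib.Helper2.ShultGroup.conjOn R S₂ hRS₂
    let aS : ↥S₂ →* MulAut ↥T := Cfsg.Agent.Lib.Helper2.ShultGroup.conjOn S₂ T hS₂T
    let aR : ↥R →* MulAut ↥T := Cfsg.Agent.Lib.Helper2.ShultGroup.conjOn R T hRT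
    have hinvS : ∀ h : ↥S₂, ∀ x ∈ N, aS h x ∈ N := by
      intro h x hx
      rw [hNdef] at hx ⊢
      exact conj_mem_of_mem_normalizer (hSK₁ (hS₂S h.2)) hx
    have hinvR : ∀ h : ↥R, ∀ x ∈ N, aR h x ∈ N := by
      intro h x hx
      rw [hNdef] at hx ⊢
      exact conj_mem_of_mem_normalizer (hRK₁ h.2) hx
    let αP : ↥S₂ →* MulAut (↥T ⧸ N) := Cfsg.Agent.Lib.Helper2.FrobFree.quotientAut aS N hinvS
    let αH : ↥R →* MulAut (↥T ⧸ N) := Cfsg.Agent.Lib.Helper2.FrobFree.quotientAut aR N hinvR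
    have hcompat : ∀ (h : ↥R) (g : ↥S₂) (v : ↥T ⧸ N), αH h (αP g v) = αP (φ h g) (αH h v) := by
      intro h g v
      induction v using QuotientGroup.induction_on with
      | H x =>
        show ((aR h (aS g x) : ↥T) : ↥T ⧸ N) = ((aS (φ h g) (aR h x) : ↥T) : ↥T ⧸ N)
        congr 1
        apply Subtype.ext
        show (h : G) * ((g : G) * x * (g : G)⁻¹) * (h : G)⁻¹ =
          ((h : G) * g * (h : G)⁻¹) * ((h : G) * x * (h : G)⁻¹) * ((h : G) * g * (h : G)⁻¹)⁻¹
        group
    by_cases hfixV : ∀ v : ↥T ⧸ N, (∀ h : ↥R, αH h v = v) → v = 1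
    · -- no fixed points: `S₂ = ⁅S₂, R⁆` acts trivially on `T / K₁`
      rcases Cfsg.Agent.Lib.Helper2.ShultGroup.main_group (P := ↥S₂) (H := ↥R) (V := ↥T ⧸ N)
        hV hS₂q hR hpq hpr hqr φ αP αH hcompat hfixV with h | ⟨h2, -, -⟩
      · have hker : S₂ ≤ (αP.ker).map S₂.subtype := by
          conv_lhs => rw [← hS₂eq]
          rw [Subgroup.commutator_le]
          intro s hs x hx
          refine ⟨⟨⁅s, x⁆, ?_⟩, ?_, rfl⟩
          · rw [← hS₂eq]; exact Subgroup.commutator_mem_commutator hs hx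
          · show _ ∈ αP.ker
            rw [MonoidHom.mem_ker]
            ext v
            have h0 := h ⟨x, hx⟩ ⟨s⁻¹, S₂.inv_mem hs⟩ v
            have e : (⟨⁅s, x⁆, by rw [← hS₂eq]; exact Subgroup.commutator_mem_commutator hs hx⟩ : ↥S₂) =
                (⟨s⁻¹, S₂.inv_mem hs⟩ : ↥S₂)⁻¹ * φ ⟨x, hx⟩ ⟨s⁻¹, S₂.inv_mem hs⟩ := by
              apply Subtype.ext
              show ⁅s, x⁆ = (s⁻¹)⁻¹ * (x * s⁻¹ * x⁻¹)
              rw [commutatorElement_def]; group
            rw [e]
            exact h0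
        apply hK₁ne
        rw [← hTeq, Subgroup.commutator_le]
        intro x hx s hs
        obtain ⟨s', hs', hss'⟩ := hker hs
        have h1 : αP s' ((⟨x⁻¹, T.inv_mem hx⟩ : ↥T) : ↥T ⧸ N) = ((⟨x⁻¹, T.inv_mem hx⟩ : ↥T) : ↥T ⧸ N) := by
          rw [MonoidHom.mem_ker.mp hs']; rfl
        have h2 : ((aS s' ⟨x⁻¹, T.inv_mem hx⟩ : ↥T) : ↥T ⧸ N) = ((⟨x⁻¹, T.inv_mem hx⟩ : ↥T) : ↥T ⧸ N) := h1
        rw [QuotientGroup.eq, hNdef] at h2
        have e : ⁅x, s⁆ = ((aS s' ⟨x⁻¹, T.inv_mem hx⟩)⁻¹ * (⟨x⁻¹, T.inv_mem hx⟩ : ↥T) : ↥T)⁻¹ := by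
          have hs'' : (s' : G) = s := hss'
          show ⁅x, s⁆ = (((s' : G) * x⁻¹ * (s' : G)⁻¹)⁻¹ * x⁻¹)⁻¹
          rw [hs'', commutatorElement_def]; group
        rw [e]
        exact K₁.inv_mem h2
      · exact hq2 h2
    · -- a fixed point of `R` outside `K₁`
      push Not at hfixV
      obtain ⟨v, hv, hv1⟩ := hfixV
      induction v using QuotientGroup.induction_on with
      | H a =>
        have haK : (a : G) ∉ K₁ := by
          intro h
          apply hv1
          exact (QuotientGroup.eq_one_iff a).mpr ((hNdef a).mpr h)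
        -- a generator of `R`
        have hRc : IsCyclic R := isCyclic_of_prime_card hR
        obtain ⟨x₀, hx₀⟩ := hRc.exists_generator
        have hx₀o : orderOf (x₀ : G) = r := by
          rw [Subgroup.orderOf_coe, orderOf_eq_card_of_forall_mem_zpowers hx₀, hR]
        have hfixa : (a : G)⁻¹ * ((x₀ : G) * a * (x₀ : G)⁻¹) ∈ K₁ := by
          have h1 : ((aR x₀ a : ↥T) : ↥T ⧸ N) = (a : ↥T ⧸ N) := hv x₀
          have h2 := QuotientGroup.eq.mp h1.symm
          rw [hNdef] at h2
          exact h2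
        have hrK₁ : ¬ r ∣ Nat.card K₁ := by
          intro hdvd
          obtain ⟨k, hk⟩ := IsPGroup.iff_card.mp (hTp.to_le hK₁T)
          rw [hk] at hdvd
          exact hpr ((Nat.prime_dvd_prime_iff_eq hr.out hp.out).mp (hr.out.dvd_of_dvd_pow hdvd)).symm
        obtain ⟨b, hb, hxb⟩ := exists_fixed_in_coset hr.out hx₀o K₁ (hRK₁ x₀.2) hrK₁ (a : G) hfixa
        have hbT : b ∈ T := by
          have : b = (a : G) * ((a : G)⁻¹ * b) := by group
          rw [this]
          exact T.mul_mem a.2 (hK₁T hb)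
        have hbK : b ∉ K₁ := by
          intro h
          apply haK
          have : (a : G) = b * ((a : G)⁻¹ * b)⁻¹ := by group
          rw [this]
          exact K₁.mul_mem h (K₁.inv_mem hb)
        have hbR : b ∈ Subgroup.centralizer (R : Set G) := by
          rw [Subgroup.mem_centralizer_iff]
          intro y hy
          obtain ⟨k, hk⟩ := Subgroup.mem_zpowers_iff.mp (hx₀ ⟨y, hy⟩)
          have hy' : y = (x₀ : G) ^ k := by
            have := congrArg Subtype.val hk
            rw [Subgroup.coe_zpow] at this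
            exact this.symm
          rw [hy']
          exact ((show Commute (x₀ : G) b from hxb).zpow_left k).eq
        have hbS := hfix b hbT hbR (hexp b hbT)
        apply hbK
        apply hCK₁
        refine ⟨hbT, ?_⟩
        exact (Subgroup.centralizer_le (show (S₂ : Set G) ⊆ S from hS₂S)) hbS

/-- **Fixed-point lemma.**  `R` of prime order `r` normalizes the `q`-group `S`; both normalize the
`p`-group `T`.  If `S` centralizes every `t ∈ C_T(R)` with `t ^ p = 1`, then `⁅S, R⁆` centralizes `T`. -/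
theorem commutator_le_centralizer_of_fixed [Finite G] {p q r : ℕ} [Fact p.Prime] [Fact q.Prime]
    [Fact r.Prime] (hp2 : p ≠ 2) (hq2 : q ≠ 2) (hpq : p ≠ q) (hpr : p ≠ r) (hqr : q ≠ r)
    (S R T : Subgroup G) (hS : IsPGroup q S) (hR : Nat.card R = r) (hT : IsPGroup p T)
    (hRS : R ≤ Subgroup.normalizer (S : Set G)) (hST : S ≤ Subgroup.normalizer (T : Set G))
    (hRT : R ≤ Subgroup.normalizer (T : Set G))
    (hfix : ∀ t ∈ T, t ∈ Subgroup.centralizer (R : Set G) → t ^ p = 1 →
      t ∈ Subgroup.centralizer (S : Set G)) :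
    ⁅S, R⁆ ≤ Subgroup.centralizer (T : Set G) :=
  fixed_lemma_aux hp2 hq2 hpq hpr hqr S R hS hR hRS _ T le_rfl hT hST hRT hfix

end Cfsg.Agent.Lib.Helper10.BG13
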