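import Mathlib
import Cfsg.Prelude.Def_OddOrderLocal
import Cfsg.Prelude.Def_Local
import Cfsg.Prelude.Def_Transfer

/-!
# Hypothesis vocabulary for Bender–Glauberman Lemma 13.4 (statement S1428)  (helper10)

Each `H…` below is (a clause of) a frozen statement `S14xx`, for a fixed group `G`, with the
hypothesis `IsMinSimpleOddOrder G` dropped.  The modules of the proof of S1428 take them as
hypotheses; the final file `S1428.lean` discharges them with the landed statements.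
-/

set_option autoImplicit false

namespace Cfsg.Agent.Lib.Helper10.BG13

open Cfsg

/-- S1414, the clause on normal `p`-complements of `M'`. -/
def H1414 (G : Type*) [Group G] : Prop :=
  ∀ M : Subgroup G, IsCoatom M → ∀ p : ℕ, p.Prime → p ∣ Nat.card M → p ∉ beta M →
    HasNormalPComplement p ↥⁅M, M⁆

/-- S1417, clause (e): `A ≤ M*` forces `M_σ ∩ M* = 1`. -/
def H1417e (G : Type*) [Group G] : Prop :=
  ∀ M : Subgroup G, IsCoatom M → ∀ (p : ℕ) [Fact p.Prime], p ∈ tau2 M → ∀ A : Subgroup G,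
    (A ≤ M ∧ IsElementaryAbelian p A ∧ Nat.card A = p ^ 2) →
      ∀ Mstar : Subgroup G, IsCoatom Mstar → Mstar ≠ M → A ≤ Mstar → sigmaCore M ⊓ Mstar = ⊥

/-- S1418, in full. -/
def H1418full (G : Type*) [Group G] : Prop :=
  ∀ M : Subgroup G, IsCoatom M → ∀ E : Subgroup G, IsComplIn E (sigmaCore M) M →
    ∀ (p : ℕ) [Fact p.Prime], p ∈ tau2 M → ∀ A : Subgroup G,
      (A ≤ E ∧ IsElementaryAbelian p A ∧ Nat.card A = p ^ 2) →
    (E ≤ Subgroup.normalizer (A : Set G) ∧ ∀ X : Subgroup G, X ≤ E → Nat.card X = p → X ≤ A) ∧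
      (Subgroup.centralizer (A : Set G) ≤ M ⊓ Subgroup.normalizer (A : Set G) ∧
        M ⊓ Subgroup.normalizer (A : Set G) = E ∧ ¬ Subgroup.normalizer (A : Set G) ≤ M) ∧
      ∀ X : Subgroup G, X ≤ A → Nat.card X = p →
        sigmaCore M ⊓ Subgroup.centralizer (X : Set G) ≠ ⊥ →
          (Subgroup.centralizer (X : Set G) ≤ M ∧
            ∀ L : Subgroup G, IsCoatom L → Subgroup.centralizer (X : Set G) ≤ L → L = M)

/-- S1424. -/
def H1424 (G : Type*) [Group G] : Prop :=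
  ∀ M : Subgroup G, IsCoatom M → ∀ (q : ℕ) [Fact q.Prime], q ∈ sigma M → ∀ X : Subgroup G,
    IsPGroup q X → X ≠ ⊥ → X ≤ M → ∀ Mstar : Subgroup G, IsCoatom Mstar → Mstar ≠ M →
      Subgroup.normalizer (X : Set G) ≤ Mstar → ∀ S : Sylow q ↥(M ⊓ Mstar),
        X ≤ (S : Subgroup ↥(M ⊓ Mstar)).map (M ⊓ Mstar).subtype →
    (∀ g : G, Mstar ≠ M.map (MulAut.conj g).toMonoidHom) ∧
      Subgroup.normalizer
        (((S : Subgroup ↥(M ⊓ Mstar)).map (M ⊓ Mstar).subtype : Subgroup G) : Set G) ≤ M ∧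
      ¬ q ∣ ((S : Subgroup ↥(M ⊓ Mstar)).map (M ⊓ Mstar).subtype).relIndex Mstar

/-- S1427. -/
def H1427 (G : Type*) [Group G] : Prop :=
  ∀ M : Subgroup G, IsCoatom M → ∀ E : Subgroup G, IsComplIn E (sigmaCore M) M →
    ∀ (p : ℕ) [Fact p.Prime] (S : Sylow p E), (S : Subgroup E) ≠ ⊥ → IsCyclic (S : Subgroup E) →
      ∀ x ∈ (S : Subgroup E).map E.subtype, x ≠ 1 →
        sigmaCore M ⊓ Subgroup.centralizer ({x} : Set G) =
          sigmaCore M ⊓ Subgroup.centralizer
            (((S : Subgroup E).map E.subtype : Subgroup G) : Set G)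

end Cfsg.Agent.Lib.Helper10.BG13
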