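import Mathlib
import Cfsg.Agent.Lib.Helper10.BGThirteenDefs
import Cfsg.Agent.Lib.Helper84.PResidualAux
import Cfsg.Agent.Lib.Helper54.Coprime
import Cfsg.Agent.Lib.Helper22.Solvable

/-!
# General group-theoretic tools for the proof of Bender–Glauberman 13.4 (statement S1428)  (helper10)

* `le_of_focal_rel`: focal subgroup argument, relative form.
* `trivOn S V`: the subgroup of `N(V)` of elements `u` with `⁅x, u⁆ ∈ V` for all `x ∈ S`.
* `tau1_normalizer_inf_le_centralizer`: for `p ∈ τ₁(M)`, `N_M(P) = C_M(P)` for `P ≤ M` of order `p`.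
* `mem_of_pow_eq_one_of_isCyclic`: elements of order dividing `p` in a cyclic group lie in the subgroup of
  order `p`.
* `le_of_normal_of_coprime_compl`, `relIndex_dvd_relIndex_of_le_normalizer`: counting lemmas.
-/

set_option autoImplicit false

open scoped commutatorElement

namespace Cfsg.Agent.Lib.Helper10.BG13

open Cfsg

variable {G : Type*} [Group G]

/-- focal subgroup argument: a Sylow `q`-subgroup `S ≤ N'` lies in any subgroup containing all
commutators `⁅x, u⁆ ∈ S` (`x ∈ S`). -/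
theorem sylow_le_of_focal {N : Type*} [Group N] [Finite N] {q : ℕ} [Fact q.Prime] (S : Sylow q N)
    (hS : (S : Subgroup N) ≤ commutator N) (V : Subgroup N)
    (h : ∀ x ∈ (S : Subgroup N), ∀ u : N, ⁅x, u⁆ ∈ (S : Subgroup N) → ⁅x, u⁆ ∈ V) :
    (S : Subgroup N) ≤ V := by
  have h1 : (S : Subgroup N) ≤ commutator N ⊓ (S : Subgroup N) := le_inf hS le_rfl
  rw [Subgroup.commutator_inf_eq_focalSubgroup, Subgroup.focalSubgroup_def] at h1
  refine h1.trans ?_
  rw [Subgroup.closure_le]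
  rintro g ⟨hg, x, hx, u, rfl⟩
  exact h x hx u hg

/-- focal subgroup argument, relative form -/
theorem le_of_focal_rel [Finite G] {q : ℕ} [Fact q.Prime] (S N : Subgroup G) (hSq : IsPGroup q S)
    (hSN : S ≤ N) (hidx : ¬ q ∣ S.relIndex N) (hS' : S ≤ ⁅N, N⁆) (V : Subgroup G)
    (h : ∀ x ∈ S, ∀ u ∈ N, ⁅x, u⁆ ∈ V) : S ≤ V := by
  have hq' : IsPGroup q (S.subgroupOf N) := hSq.comap_subtype
  have hidx' : ¬ q ∣ (S.subgroupOf N).index := hidx
  obtain ⟨S₀, hS₀⟩ : ∃ S₀ : Sylow q ↥N, (S₀ : Subgroup N) = S.subgroupOf N :=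
    ⟨hq'.toSylow hidx', IsPGroup.toSylow_coe _ _⟩
  have hc : (S₀ : Subgroup N) ≤ commutator ↥N := by
    intro x hx
    rw [hS₀, Subgroup.mem_subgroupOf] at hx
    have hx' : (x : G) ∈ ⁅N, N⁆ := hS' hx
    rw [← Subgroup.map_subtype_commutator] at hx'
    obtain ⟨y, hy, hyx⟩ := hx'
    have : y = x := Subtype.ext hyx
    rwa [← this]
  have key := sylow_le_of_focal S₀ hc (V.subgroupOf N) (by
    intro x hx u _
    rw [hS₀, Subgroup.mem_subgroupOf] at hx
    rw [Subgroup.mem_subgroupOf]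
    have e : ((⁅x, u⁆ : ↥N) : G) = ⁅(x : G), (u : G)⁆ := by
      simp [commutatorElement_def]
    rw [e]
    exact h (x : G) hx (u : G) u.2)
  intro s hs
  have h1 : (⟨s, hSN hs⟩ : ↥N) ∈ (S₀ : Subgroup N) := by
    rw [hS₀, Subgroup.mem_subgroupOf]
    exact hs
  have h2 := key h1
  rwa [Subgroup.mem_subgroupOf] at h2

/-- the elements of `N(V)` acting trivially on `S` modulo `V` -/
def trivOn (S V : Subgroup G) : Subgroup G where
  carrier := {u | u ∈ Subgroup.normalizer (V : Set G) ∧ ∀ x ∈ S, ⁅x, u⁆ ∈ V}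
  one_mem' := by
    refine ⟨Subgroup.one_mem _, ?_⟩
    intro x _
    rw [commutatorElement_def]
    simp
  mul_mem' := by
    rintro u v ⟨hu, hu'⟩ ⟨hv, hv'⟩
    refine ⟨Subgroup.mul_mem _ hu hv, ?_⟩
    intro x hx
    have e : ⁅x, u * v⁆ = ⁅x, u⁆ * (u * ⁅x, v⁆ * u⁻¹) := by
      simp only [commutatorElement_def]; group
    rw [e]
    exact V.mul_mem (hu' x hx) ((Subgroup.mem_normalizer_iff.mp hu _).mp (hv' x hx))
  inv_mem' := by
    rintro u ⟨hu, hu'⟩
    refine ⟨Subgroup.inv_mem _ hu, ?_⟩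
    intro x hx
    have e : ⁅x, u⁻¹⁆ = u⁻¹ * (⁅x, u⁆)⁻¹ * u⁻¹⁻¹ := by
      simp only [commutatorElement_def]; group
    rw [e]
    exact (Subgroup.mem_normalizer_iff.mp (Subgroup.inv_mem _ hu) _).mp (V.inv_mem (hu' x hx))

theorem mem_trivOn {S V : Subgroup G} {u : G} :
    u ∈ trivOn S V ↔ u ∈ Subgroup.normalizer (V : Set G) ∧ ∀ x ∈ S, ⁅x, u⁆ ∈ V := Iff.rfl

/-- for `p ∈ τ₁(M)` and `P ≤ M` of order `p`: `N_M(P) ≤ C_G(P)` -/
theorem tau1_normalizer_inf_le_centralizer [Finite G] {M : Subgroup G} {p : ℕ} (hp : p ∈ tau1 M)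
    {P : Subgroup G} (hPM : P ≤ M) (hP : Nat.card P = p) :
    M ⊓ Subgroup.normalizer (P : Set G) ≤ Subgroup.centralizer (P : Set G) := by
  obtain ⟨hpp, -, -, hndvd, -⟩ := hp
  have hbot : P ⊓ ⁅M, M⁆ = ⊥ := by
    have h1 : Nat.card (P ⊓ ⁅M, M⁆ : Subgroup G) ∣ p := by
      rw [← hP]; exact Subgroup.card_dvd_of_le inf_le_left
    rcases (Nat.dvd_prime hpp).mp h1 with h | h
    · exact Subgroup.card_eq_one.mp h
    · exfalso
      apply hndvd
      rw [← h]
      exact Subgroup.card_dvd_of_le inf_le_right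
  rintro n ⟨hnM, hnP⟩
  rw [Subgroup.mem_centralizer_iff]
  intro x hx
  have h1 : ⁅n, x⁆ ∈ P := by
    rw [commutatorElement_def]
    exact P.mul_mem ((Subgroup.mem_normalizer_iff.mp hnP x).mp hx) (P.inv_mem hx)
  have h2 : ⁅n, x⁆ ∈ ⁅M, M⁆ := Subgroup.commutator_mem_commutator hnM (hPM hx)
  have h3 : ⁅n, x⁆ ∈ P ⊓ ⁅M, M⁆ := ⟨h1, h2⟩
  rw [hbot, Subgroup.mem_bot, commutatorElement_eq_one_iff_mul_comm] at h3
  exact h3.symm

/-- in a cyclic subgroup `Z`, the elements `t` with `t ^ p = 1` lie in the subgroup of order `p` -/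
theorem mem_of_pow_eq_one_of_isCyclic [Finite G] {p : ℕ} (hp : p.Prime) {Z P : Subgroup G}
    (hZ : IsCyclic ↥Z) (hPZ : P ≤ Z) (hP : Nat.card P = p) {t : G} (htZ : t ∈ Z)
    (ht : t ^ p = 1) : t ∈ P := by
  classical
  have : Fintype ↥Z := Fintype.ofFinite _
  have : Fintype ↥P := Fintype.ofFinite _
  have hle := IsCyclic.card_pow_eq_one_le (α := ↥Z) hp.pos
  set F : Finset ↥Z := Finset.univ.filter (fun a : ↥Z => a ^ p = 1) with hF
  let f : ↥P → ↥Z := fun x => ⟨x, hPZ x.2⟩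
  have hf : Function.Injective f := by
    intro x y hxy
    apply Subtype.ext
    exact congrArg (fun z : ↥Z => (z : G)) hxy
  set I : Finset ↥Z := Finset.univ.image f with hI
  have hIcard : I.card = p := by
    rw [hI, Finset.card_image_of_injective _ hf, Finset.card_univ, ← Nat.card_eq_fintype_card, hP]
  have hsub : I ⊆ F := by
    intro a ha
    rw [hI, Finset.mem_image] at ha
    obtain ⟨x, -, rfl⟩ := ha
    rw [hF, Finset.mem_filter]
    refine ⟨Finset.mem_univ _, ?_⟩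
    apply Subtype.ext
    have h1 : x ^ Nat.card P = 1 := pow_card_eq_one'
    rw [hP] at h1
    have h2 := congrArg (fun y : ↥P => (y : G)) h1
    simpa [f] using h2
  have heq : I = F := Finset.eq_of_subset_of_card_le hsub (by rw [hIcard]; exact hle)
  have htF : (⟨t, htZ⟩ : ↥Z) ∈ F := by
    rw [hF, Finset.mem_filter]
    refine ⟨Finset.mem_univ _, ?_⟩
    apply Subtype.ext
    simpa using ht
  rw [← heq, hI, Finset.mem_image] at htF
  obtain ⟨x, -, hx⟩ := htF
  have hxt : (x : G) = t := congrArg (fun z : ↥Z => (z : G)) hx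
  rw [← hxt]
  exact x.2

/-- a normal subgroup `S` of `N` of order prime to `|A₁|` lies in every complement `J` of `A₁` -/
theorem le_of_normal_of_coprime_compl [Finite G] {N A₁ J S : Subgroup G} (hSN : S ≤ N) (hJN : J ≤ N)
    (hNS : N ≤ Subgroup.normalizer (S : Set G)) (hcard : Nat.card A₁ * Nat.card J = Nat.card N)
    (hcop : (Nat.card S).Coprime (Nat.card A₁)) : S ≤ J := by
  have h1 : Nat.card (S ⊔ J : Subgroup G) ∣ Nat.card S * Nat.card J :=
    Cfsg.Agent.Lib.Helper22.card_sup_dvd_mul_of_le_normalizer (hJN.trans hNS)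
  have h2 : Nat.card J ∣ Nat.card (S ⊔ J : Subgroup G) := Subgroup.card_dvd_of_le le_sup_right
  have h3 : Nat.card (S ⊔ J : Subgroup G) ∣ Nat.card A₁ * Nat.card J := by
    rw [hcard]; exact Subgroup.card_dvd_of_le (sup_le hSN hJN)
  obtain ⟨m, hm⟩ := h2
  have hJpos : 0 < Nat.card J := Nat.card_pos
  have hmS : m ∣ Nat.card S := by
    rw [hm, mul_comm (Nat.card S)] at h1
    exact (Nat.mul_dvd_mul_iff_left hJpos).mp h1
  have hmA : m ∣ Nat.card A₁ := by
    rw [hm, mul_comm (Nat.card A₁)] at h3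
    exact (Nat.mul_dvd_mul_iff_left hJpos).mp h3
  have hm1 : m = 1 := Nat.eq_one_of_dvd_coprimes hcop hmS hmA
  rw [hm1, mul_one] at hm
  have h4 : J = S ⊔ J := Subgroup.eq_of_le_of_card_ge le_sup_right hm.le
  rw [h4]
  exact le_sup_left

/-- `|N : N ∩ K|` divides `|H : K|` for `N ≤ H ≤ N(K)` -/
theorem relIndex_dvd_relIndex_of_le_normalizer {K N H : Subgroup G} (hNH : N ≤ H)
    (hHK : H ≤ Subgroup.normalizer (K : Set G)) : K.relIndex N ∣ K.relIndex H := by
  have : (K.subgroupOf H).Normal := Subgroup.normal_subgroupOf_of_le_normalizer hHK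
  have h := Subgroup.relIndex_dvd_index_of_normal (H := K.subgroupOf H) (K := N.subgroupOf H)
  rwa [Subgroup.relIndex_subgroupOf hNH] at h

end Cfsg.Agent.Lib.Helper10.BG13
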