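import Mathlib
import Cfsg.Agent.Lib.Helper10.BGThirteenG
import Cfsg.Agent.Lib.Helper10.BGThirteenF
import Cfsg.Agent.Lib.Helper24.PrimeAction
import Cfsg.Agent.Lib.Helper97.BGThirteenB
import Cfsg.Agent.Lib.Helper51.BGTwelveDefs
import Cfsg.Agent.Lib.Helper67.PiClosed
import Cfsg.Agent.Lib.Helper54.BGElevenB

/-!
# Bender–Glauberman 13.4 (statement S1428): tools for the case `p ∈ α(H)`  (helper10)

* `isCyclic_inf_centralizer_of_le_alphaCore` (module S6): for `s ∉ σ(H)` with `H` of `s`-rank one and `Ru ≤ H`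
  of order `s`, the centralizer of `Ru` in a `p`-subgroup of `H_α` is cyclic (from S1406).
* `commutator_eq_bot_of_mem_sigma`: an `s`-subgroup of `M`, `s ∈ σ(M)`, normalizing `S ≤ M ∩ H_σ` centralizes it.
* `commutator_mem_of_rank_one`: the Shult + prime-action step.
-/

set_option autoImplicit false

open scoped commutatorElement Pointwise

namespace Cfsg.Agent.Lib.Helper10.BG13

open Cfsg
open Cfsg.Agent.Lib.Helper34 (UniquenessThm)
open Cfsg.Agent.Lib.Helper51.BG12 (H1406 H1411)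
open Cfsg.Agent.Lib.Helper97.BGThirteen (H1417a)

variable {G : Type*} [Group G]

/-- module S6 -/
theorem isCyclic_inf_centralizer_of_le_alphaCore [Finite G] (hG : IsMinSimpleOddOrder G)
    (hU : UniquenessThm G) (h1406 : H1406 G) (H : Subgroup G) (hH : IsCoatom H) (s : ℕ)
    [Fact s.Prime] (hsσ : s ∉ sigma H) (hs1 : PRankLE s 1 ↥H) (Ru : Subgroup G) (hRuH : Ru ≤ H)
    (hRu : Nat.card Ru = s) (p : ℕ) [Fact p.Prime] (T : Subgroup G) (hT : IsPGroup p T)
    (hTα : T ≤ alphaCore H) : IsCyclic ↥(T ⊓ Subgroup.centralizer (Ru : Set G)) := by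
  have hs : s.Prime := Fact.out
  have hp : p.Prime := Fact.out
  have hRus : IsPGroup s Ru := IsPGroup.of_card (n := 1) (by rw [hRu, pow_one])
  have hRu1 : Ru ≠ ⊥ := by
    intro h
    rw [h, Subgroup.card_bot] at hRu
    exact hs.one_lt.ne hRu
  have hN : ¬ Subgroup.normalizer (Ru : Set G) ≤ H := by
    intro hN
    rcases Cfsg.Agent.Lib.Helper54.mem_sigma_or_tau2_of_normalizer_le hG hU H hH s Ru hRus hRu1 hN
      with h | h
    · exact hsσ h
    · exact h.2.2.2 hs1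
  have hRuα : ∀ t : ℕ, t.Prime → t ∣ Nat.card Ru → t ∉ alpha H := by
    intro t ht htd hα
    rw [hRu] at htd
    have := (Nat.prime_dvd_prime_iff_eq ht hs).mp htd
    subst this
    exact hα.2 (Cfsg.Agent.Lib.Helper54.pRankLE_mono_right ht.pos (by norm_num) hs1)
  have hrank : RankLE 1 ↥(alphaCore H ⊓ Subgroup.centralizer (Ru : Set G)) := by
    by_contra hr
    obtain ⟨L0, -, huniq⟩ := h1406 H hH Ru hRuH hRuα hr
    have hRuT : Ru ≠ ⊤ := Cfsg.Agent.Lib.Helper54.ne_top_of_isPGroup hG.2.1 hG.2.2.1 hRus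
    obtain ⟨L, hL, hNL⟩ := Cfsg.Agent.Lib.Helper54.exists_isCoatom_ge
      (Cfsg.Agent.Lib.Helper54.normalizer_ne_top_of_simple hG.2.1 hRu1 hRuT)
    have hHL : H ⊓ Subgroup.centralizer (Ru : Set G) ≤ L :=
      inf_le_right.trans ((Subgroup.centralizer_le_normalizer _).trans hNL)
    have h1 : L = L0 := huniq L ⟨hL, hHL⟩
    have h2 : H = L0 := huniq H ⟨hH, inf_le_left⟩
    exact hN (hNL.trans (h1.trans h2.symm).le)
  by_cases hbot : T ⊓ Subgroup.centralizer (Ru : Set G) = ⊥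
  · rw [hbot]
    exact isCyclic_of_subsingleton
  have hTp : IsPGroup p (T ⊓ Subgroup.centralizer (Ru : Set G) : Subgroup G) := hT.to_le inf_le_left
  have hp2 : p ≠ 2 := by
    have h1 := Cfsg.Agent.Lib.Helper34.dvd_card_of_isPGroup_ne_bot hTp hbot
    exact Cfsg.Agent.Lib.Helper54.ne_two_of_dvd_of_odd hG.1
      (h1.trans (Subgroup.card_subgroup_dvd_card _))
  apply Cfsg.Agent.Lib.Helper54.isCyclic_of_pRankLE_one hp2 hTp
  exact Cfsg.Agent.Lib.Helper54.pRankLE_of_le (inf_le_inf_right _ hTα) (hrank p hp)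

/-- an `s`-subgroup `U` of `M`, `s ∈ σ(M)`, normalizing `S ≤ M ∩ H_σ` (`M`, `H` not conjugate) centralizes `S` -/
theorem commutator_eq_bot_of_mem_sigma [Finite G] (hG : IsMinSimpleOddOrder G) (hU : UniquenessThm G)
    (M H : Subgroup G) (hM : IsCoatom M) (hH : IsCoatom H) (hnc : ∀ g : G, MulAut.conj g • M ≠ H)
    (s : ℕ) [Fact s.Prime] (hsM : s ∈ sigma M) (S : Subgroup G) (hSM : S ≤ M)
    (hSH : S ≤ sigmaCore H) (hcop : (Nat.card S).Coprime s) (U : Subgroup G) (hUs : IsPGroup s U)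
    (hUM : U ≤ M) (hUS : U ≤ Subgroup.normalizer (S : Set G)) : ⁅S, U⁆ = ⊥ := by
  have hUc : U ≤ ⁅M, M⁆ :=
    Cfsg.Agent.Lib.Helper24.le_commutator_of_mem_sigma hG hU M hM s hsM hUs hUM
  have h1 := Cfsg.Agent.Lib.Helper24.commutator_le_alphaCore hG M hM s U hUs hUc S hSM hUS hcop
  have h2 : ⁅S, U⁆ ≤ S := Cfsg.Agent.Lib.Helper24.commutator_le_of_le_normalizer hUS
  have h3 := (Cfsg.Agent.Lib.Helper54.sigma_disjoint hG hU M H hM hH hnc).1.2
  rw [eq_bot_iff, ← h3]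
  exact le_inf h1 (h2.trans hSH)

/-- The Shult + prime-action step: `U` a cyclic `s`-group (`s ∉ σ(M) ∪ σ(H)`, `M`, `H` of `s`-rank one)
normalizing the `q`-group `S ≤ M_σ` and the `p`-group `T ≤ H_α`, centralizing `P ≤ T` of order `p`
which is centralized by `S`.  Then `⁅x, u⁆ ∈ C_S(T)` for `x ∈ S`, `u ∈ U`. -/
theorem commutator_mem_of_rank_one [Finite G] (hG : IsMinSimpleOddOrder G) (hU : UniquenessThm G)
    (h1406 : H1406 G) (h1427 : H1427 G) (M H : Subgroup G) (hM : IsCoatom M) (hH : IsCoatom H)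
    (p q s : ℕ) [Fact p.Prime] [Fact q.Prime] [Fact s.Prime] (hpq : p ≠ q) (hps : p ≠ s)
    (hqs : q ≠ s) (hsM : s ∉ sigma M) (hsM1 : PRankLE s 1 ↥M) (hsH : s ∉ sigma H)
    (hsH1 : PRankLE s 1 ↥H) (S : Subgroup G) (hSq : IsPGroup q S) (hSM : S ≤ sigmaCore M)
    (T : Subgroup G) (hTp : IsPGroup p T) (hTα : T ≤ alphaCore H)
    (hST : S ≤ Subgroup.normalizer (T : Set G)) (P : Subgroup G) (hP : Nat.card P = p)
    (hPT : P ≤ T) (hSP : S ≤ Subgroup.centralizer (P : Set G)) (U : Subgroup G)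
    (hUs : IsPGroup s U) (hUM : U ≤ M) (hUH : U ≤ H)
    (hUS : U ≤ Subgroup.normalizer (S : Set G)) (hUT : U ≤ Subgroup.normalizer (T : Set G))
    (hUP : U ≤ Subgroup.centralizer (P : Set G)) :
    ∀ u ∈ U, ∀ x ∈ S, ⁅x, u⁆ ∈ S ⊓ Subgroup.centralizer (T : Set G) := by
  have hp : p.Prime := Fact.out
  have hq : q.Prime := Fact.out
  have hs : s.Prime := Fact.out
  by_cases hU1 : U = ⊥
  · intro u hu x hx
    rw [hU1, Subgroup.mem_bot] at hu
    rw [hu, commutatorElement_def]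
    simp
  have hodd := hG.1
  have hs2 : s ≠ 2 := by
    have h1 := Cfsg.Agent.Lib.Helper34.dvd_card_of_isPGroup_ne_bot hUs hU1
    exact Cfsg.Agent.Lib.Helper54.ne_two_of_dvd_of_odd hodd
      (h1.trans (Subgroup.card_subgroup_dvd_card _))
  have hP1 : P ≠ ⊥ := by
    intro h
    rw [h, Subgroup.card_bot] at hP
    exact hp.one_lt.ne hP
  have hPp : IsPGroup p P := IsPGroup.of_card (n := 1) (by rw [hP, pow_one])
  have hp2 : p ≠ 2 := by
    have h1 := Cfsg.Agent.Lib.Helper34.dvd_card_of_isPGroup_ne_bot hPp hP1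
    exact Cfsg.Agent.Lib.Helper54.ne_two_of_dvd_of_odd hodd
      (h1.trans (Subgroup.card_subgroup_dvd_card _))
  set W := S ⊓ Subgroup.centralizer (T : Set G) with hW
  by_cases hS1 : S = ⊥
  · intro u hu x hx
    rw [hS1, Subgroup.mem_bot] at hx
    rw [hx, commutatorElement_def]
    simp
  have hq2 : q ≠ 2 := by
    have h1 := Cfsg.Agent.Lib.Helper34.dvd_card_of_isPGroup_ne_bot hSq hS1
    exact Cfsg.Agent.Lib.Helper54.ne_two_of_dvd_of_odd hodd
      (h1.trans (Subgroup.card_subgroup_dvd_card _))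
  -- `U` is cyclic, generated by `g`
  have hUc : IsCyclic ↥U :=
    Cfsg.Agent.Lib.Helper54.isCyclic_of_pRankLE_one hs2 hUs
      (Cfsg.Agent.Lib.Helper54.pRankLE_of_le hUM hsM1)
  obtain ⟨g₀, hg₀⟩ := hUc.exists_generator
  obtain ⟨g, hg⟩ : ∃ g : G, g = (g₀ : G) := ⟨_, rfl⟩
  have hgU : g ∈ U := by rw [hg]; exact g₀.2
  have hUg : U = Subgroup.zpowers g := by
    apply le_antisymm
    · intro u hu
      obtain ⟨k, hk⟩ := Subgroup.mem_zpowers_iff.mp (hg₀ ⟨u, hu⟩)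
      rw [Subgroup.mem_zpowers_iff]
      refine ⟨k, ?_⟩
      have := congrArg (fun y : ↥U => (y : G)) hk
      simpa [hg] using this
    · rw [Subgroup.zpowers_le]; exact hgU
  have hg1 : g ≠ 1 := by
    intro h
    apply hU1
    rw [hUg, h, Subgroup.zpowers_one_eq_bot]
  -- the subgroup `Ru` of order `s`
  have hgo : s ∣ orderOf g := by
    obtain ⟨k, hk⟩ := (IsPGroup.iff_orderOf.mp hUs) ⟨g, hgU⟩
    rw [Subgroup.orderOf_mk] at hk
    rw [hk]
    have : k ≠ 0 := by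
      rintro rfl
      rw [pow_zero, orderOf_eq_one_iff] at hk
      exact hg1 hk
    exact dvd_pow_self s this
  obtain ⟨v, hv⟩ : ∃ v : G, v = g ^ (orderOf g / s) := ⟨_, rfl⟩
  have hvo : orderOf v = s := by
    rw [hv]; exact orderOf_pow_orderOf_div (orderOf_pos g).ne' hgo
  have hv1 : v ≠ 1 := by
    intro h
    rw [h, orderOf_one] at hvo
    exact hs.one_lt.ne hvo
  have hvU : v ∈ U := by rw [hv]; exact U.pow_mem hgU _
  obtain ⟨Ru, hRu⟩ : ∃ Ru : Subgroup G, Ru = Subgroup.zpowers v := ⟨_, rfl⟩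
  have hRuc : Nat.card Ru = s := by rw [hRu, Nat.card_zpowers, hvo]
  have hRuU : Ru ≤ U := by rw [hRu, Subgroup.zpowers_le]; exact hvU
  have hvRu : v ∈ Ru := by rw [hRu]; exact Subgroup.mem_zpowers v
  -- S6
  have hcyc := isCyclic_inf_centralizer_of_le_alphaCore hG hU h1406 H hH s hsH hsH1 Ru
    (hRuU.trans hUH) hRuc p T hTp hTα
  have hPZ : P ≤ T ⊓ Subgroup.centralizer (Ru : Set G) := by
    refine le_inf hPT ?_
    exact Subgroup.le_centralizer_iff.mp (hRuU.trans hUP)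
  have hfix : ∀ t ∈ T, t ∈ Subgroup.centralizer (Ru : Set G) → t ^ p = 1 →
      t ∈ Subgroup.centralizer (S : Set G) := by
    intro t htT htR htp
    have h1 : t ∈ P := mem_of_pow_eq_one_of_isCyclic hp hcyc hPZ hP ⟨htT, htR⟩ htp
    exact (Subgroup.le_centralizer_iff.mp hSP) h1
  have hF := commutator_le_centralizer_of_fixed hp2 hq2 hpq hps hqs S Ru T hSq hRuc hTp
    (hRuU.trans hUS) hST (hRuU.trans hUT) hfix
  have hcomW : ⁅S, Ru⁆ ≤ W :=
    le_inf (Cfsg.Agent.Lib.Helper24.commutator_le_of_le_normalizer (hRuU.trans hUS)) hF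
  -- normalizers of `W`
  have hNW : Subgroup.normalizer (S : Set G) ⊓ Subgroup.normalizer (T : Set G) ≤
      Subgroup.normalizer (W : Set G) := by
    intro y hy
    exact Cfsg.Agent.Lib.Helper9.normalizer_inf_le S (Subgroup.centralizer (T : Set G))
      ⟨hy.1, Cfsg.Agent.Lib.Helper9.normalizer_le_normalizer_centralizer T hy.2⟩
  have hUW : U ≤ Subgroup.normalizer (W : Set G) := (le_inf hUS hUT).trans hNW
  have hSW : S ≤ Subgroup.normalizer (W : Set G) :=
    (le_inf Subgroup.le_normalizer hST).trans hNW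
  -- prime action in `M`
  have hHall := (Cfsg.Agent.Lib.Helper54.sigmaCore_hall_of hG hU M hM).1
  have hUpi : ∀ t : ℕ, t.Prime → t ∣ Nat.card U → t ∉ sigma M := by
    intro t ht htd
    obtain ⟨k, hk⟩ := IsPGroup.iff_card.mp hUs
    rw [hk] at htd
    have := (Nat.prime_dvd_prime_iff_eq ht hs).mp (ht.dvd_of_dvd_pow htd)
    rw [this]
    exact hsM
  obtain ⟨E, hE, hUE⟩ := Cfsg.Agent.Lib.Helper97.BGTwelve.exists_complIn_ge (hG.2.2.2 M hM.1)
    hHall hUM hUpi
  obtain ⟨S₀, hS₀⟩ := Cfsg.Agent.Lib.Helper34.exists_sylow_map_ge hUs hUE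
  have hS₀1 : (S₀ : Subgroup E) ≠ ⊥ := by
    intro h
    rw [h, Subgroup.map_bot] at hS₀
    exact hU1 (le_bot_iff.mp hS₀)
  have hS₀c : IsCyclic (S₀ : Subgroup E) := by
    have h1 : IsCyclic ↥((S₀ : Subgroup E).map E.subtype) :=
      Cfsg.Agent.Lib.Helper54.isCyclic_of_pRankLE_one hs2 (S₀.2.map _)
        (Cfsg.Agent.Lib.Helper54.pRankLE_of_le ((Subgroup.map_subtype_le _).trans hE.1) hsM1)
    have e := Subgroup.equivMapOfInjective (S₀ : Subgroup E) E.subtype E.subtype_injective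
    exact isCyclic_of_surjective e.symm e.symm.surjective
  have hpa := h1427 M hM E hE s S₀ hS₀1 hS₀c
  have hcg : sigmaCore M ⊓ Subgroup.centralizer ({g} : Set G) =
      sigmaCore M ⊓ Subgroup.centralizer ({v} : Set G) := by
    rw [hpa g (hS₀ hgU) hg1, hpa v (hS₀ hvU) hv1]
  -- `g` acts trivially on `S` modulo `W`
  have hgtriv : g ∈ trivOn S W := by
    rw [mem_trivOn]
    refine ⟨hUW hgU, ?_⟩
    intro x hx
    have hcop : (Nat.card S).Coprime (Nat.card Ru) := by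
      rw [hRuc]
      obtain ⟨k, hk⟩ := IsPGroup.iff_card.mp hSq
      rw [hk]
      exact Nat.Coprime.pow_left k ((Nat.coprime_primes hq hs).mpr hqs)
    have hRus : IsPGroup s Ru := hUs.to_le hRuU
    obtain ⟨c, hc, hcx⟩ := Cfsg.Agent.Lib.Helper9.exists_fixed_mul_commutator S Ru
      (hRuU.trans hUS) hcop (Or.inl (isSolvable_of_isPGroup' hRus)) x hx
    have hcS : c ∈ S := hc.1
    have hcv : c ∈ sigmaCore M ⊓ Subgroup.centralizer ({v} : Set G) := by
      refine ⟨hSM hcS, ?_⟩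
      show c ∈ Subgroup.centralizer ({v} : Set G)
      rw [Subgroup.mem_centralizer_iff]
      intro y hy
      rw [Set.mem_singleton_iff] at hy
      rw [hy]
      exact (Subgroup.mem_centralizer_iff.mp hc.2 v hvRu)
    rw [← hcg] at hcv
    have hcg' : g * c = c * g := Subgroup.mem_centralizer_iff.mp hcv.2 g rfl
    have hw : c⁻¹ * x ∈ W := hcomW hcx
    have e : ⁅x, g⁆ = c * (c⁻¹ * x * (g * (c⁻¹ * x)⁻¹ * g⁻¹)) * c⁻¹ := by
      rw [commutatorElement_def]
      have h1 : g * (c⁻¹ * x)⁻¹ * g⁻¹ = g * x⁻¹ * c * g⁻¹ := by group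
      rw [h1]
      have h2 : c * (c⁻¹ * x * (g * x⁻¹ * c * g⁻¹)) * c⁻¹ = x * g * x⁻¹ * (c * g⁻¹ * c⁻¹) := by
        group
      rw [h2]
      have h3 : c * g⁻¹ * c⁻¹ = g⁻¹ := by
        have : c * g⁻¹ = g⁻¹ * c := by
          have := congrArg (fun z => g⁻¹ * z * g⁻¹) hcg'
          simpa [mul_assoc] using this
        rw [this]; group
      rw [h3]
    rw [e]
    have h4 : g * (c⁻¹ * x)⁻¹ * g⁻¹ ∈ W :=
      (Subgroup.mem_normalizer_iff.mp (hUW hgU) _).mp (W.inv_mem hw)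
    exact (Subgroup.mem_normalizer_iff.mp (hSW hcS) _).mp (W.mul_mem hw h4)
  have hUtriv : U ≤ trivOn S W := by
    rw [hUg, Subgroup.zpowers_le]; exact hgtriv
  intro u hu x hx
  exact (mem_trivOn.mp (hUtriv hu)).2 x hx

end Cfsg.Agent.Lib.Helper10.BG13
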