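import Cfsg.Agent.Lib.Helper10.BGThirteenDefs

/-!
# The "main case" setting in the proof of Bender–Glauberman Lemma 13.4 (statement S1428)  (helper10)

`M`, `H` maximal and not conjugate, `p ∈ τ₁(M) ∩ σ(H)`, `P` of order `p`, `R` of prime order
`r ∉ σ(M) ∪ σ(H)` with `H` of `r`-rank one, `[P, R] = 1`, `P R ≤ M ∩ H`, and a "bad" `q`-subgroup
`1 ≠ Q = [Q, R] ≤ C_{M_σ}(P) ∩ H`.  The two case modules derive `False` from this setting.
-/

set_option autoImplicit false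

namespace Cfsg.Agent.Lib.Helper10.BG13

open Cfsg
open scoped Pointwise

/-- the main-case setting of the proof of S1428 -/
structure MainSetting {G : Type*} [Group G] (M H : Subgroup G) (p q r : ℕ)
    (P Q R : Subgroup G) : Prop where
  hM : IsCoatom M
  hH : IsCoatom H
  hnc : ∀ g : G, MulAut.conj g • M ≠ H
  hpM : p ∈ tau1 M
  hpH : p ∈ sigma H
  hrM : r ∉ sigma M
  hrH : r ∉ sigma H
  hrH1 : PRankLE r 1 ↥H
  hqM : q ∈ sigma M
  cardP : Nat.card P = p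
  cardR : Nat.card R = r
  hPM : P ≤ M
  hPH : P ≤ H
  hRM : R ≤ M
  hRH : R ≤ H
  hRP : R ≤ Subgroup.centralizer (P : Set G)
  hQq : IsPGroup q Q
  hQ1 : Q ≠ ⊥
  hQM : Q ≤ sigmaCore M
  hQH : Q ≤ H
  hQP : Q ≤ Subgroup.centralizer (P : Set G)
  hRQ : R ≤ Subgroup.normalizer (Q : Set G)
  hQR : ⁅Q, R⁆ = Q

end Cfsg.Agent.Lib.Helper10.BG13
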