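import Mathlib
import Cfsg.Agent.Lib.Helper10.BGThirteenA
import Cfsg.Agent.Lib.Helper45.RankTools

/-!
# Bender–Glauberman 13.4 (statement S1428): the focal-subgroup step of the case `p ∈ α(H)`  (helper10)

`alpha_false` (module AL2): `M`, `H` maximal, not conjugate, `p ∈ τ₁(M) ∩ α(H)`, `P ≤ M ∩ H` of order `p`,
`q ∈ σ(M) ∩ σ(H)` and `S` a Sylow `q`-subgroup of `G` with `N_G(S) ≤ M ∩ H`: contradiction.
-/

set_option autoImplicit false
set_option maxHeartbeats 1000000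

open scoped commutatorElement Pointwise

namespace Cfsg.Agent.Lib.Helper10.BG13

open Cfsg
open Cfsg.Agent.Lib.Helper34 (UniquenessThm)
open Cfsg.Agent.Lib.Helper51.BG12 (H1406 H1411)
open Cfsg.Agent.Lib.Helper97.BGThirteen (H1417a)

variable {G : Type*} [Group G]

/-- a `p`-subgroup of `H` lies in `H_α` when `p ∈ α(H)` -/
theorem le_alphaCore_of_isPGroup [Finite G] (hG : IsMinSimpleOddOrder G) (hU : UniquenessThm G)
    (H : Subgroup G) (hH : IsCoatom H) (p : ℕ) [Fact p.Prime] (hp : p ∈ alpha H) {X : Subgroup G}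
    (hXp : IsPGroup p X) (hXH : X ≤ H) : X ≤ alphaCore H := by
  obtain ⟨T, hT⟩ := Cfsg.Agent.Lib.Helper34.exists_sylow_map_ge hXp hXH
  refine hT.trans ?_
  exact Subgroup.map_mono (Cfsg.Agent.Lib.Helper50.sylow_le_piCore_alpha hG
    (Cfsg.Agent.Lib.Helper54.uniqThree_of_uniquenessThm hU) H hH p hp T)

/-- a subgroup normalizing `X` and `Y` normalizes `X ⊔ Y` -/
theorem le_normalizer_sup' {A X Y : Subgroup G} (hX : A ≤ Subgroup.normalizer (X : Set G))
    (hY : A ≤ Subgroup.normalizer (Y : Set G)) :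
    A ≤ Subgroup.normalizer ((X ⊔ Y : Subgroup G) : Set G) := by
  intro a ha
  rw [Cfsg.Agent.Lib.Helper54.mem_normalizer_iff_conj_smul, Subgroup.smul_sup,
    Cfsg.Agent.Lib.Helper54.mem_normalizer_iff_conj_smul.mp (hX ha),
    Cfsg.Agent.Lib.Helper54.mem_normalizer_iff_conj_smul.mp (hY ha)]

theorem prime_eq_of_dvd_card_isPGroup [Finite G] {q : ℕ} [Fact q.Prime] {S : Subgroup G}
    (hS : IsPGroup q S) {t : ℕ} (ht : t.Prime) (htd : t ∣ Nat.card S) : t = q := by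
  obtain ⟨k, hk⟩ := IsPGroup.iff_card.mp hS
  rw [hk] at htd
  exact (Nat.prime_dvd_prime_iff_eq ht Fact.out).mp (ht.dvd_of_dvd_pow htd)

/-- module AL2 -/
theorem alpha_false [Finite G] (hG : IsMinSimpleOddOrder G) (hU : UniquenessThm G)
    (h1406 : H1406 G) (h1411 : H1411 G) (h1417a : H1417a G) (h1427 : H1427 G)
    (M H : Subgroup G) (hM : IsCoatom M) (hH : IsCoatom H) (hnc : ∀ g : G, MulAut.conj g • M ≠ H)
    (p q : ℕ) [Fact p.Prime] [Fact q.Prime] (hpM : p ∈ tau1 M) (hpH : p ∈ alpha H)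
    (hqM : q ∈ sigma M) (hqH : q ∈ sigma H) (P : Subgroup G) (hPM : P ≤ M) (hPH : P ≤ H)
    (hP : Nat.card P = p) (S : Sylow q G)
    (hNM : Subgroup.normalizer ((S : Subgroup G) : Set G) ≤ M)
    (hNH : Subgroup.normalizer ((S : Subgroup G) : Set G) ≤ H) : False := by
  have hp : p.Prime := Fact.out
  have hq : q.Prime := Fact.out
  have hs : IsSimpleGroup G := hG.2.1
  have hU3 := Cfsg.Agent.Lib.Helper54.uniqThree_of_uniquenessThm hU
  have hnc' : ∀ g : G, MulAut.conj g • H ≠ M := by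
    intro g hg
    apply hnc g⁻¹
    rw [← hg, ← mul_smul, ← map_mul, inv_mul_cancel, map_one, one_smul]
  have hpσH : p ∈ sigma H := Cfsg.Agent.Lib.Helper50.alpha_subset_sigma hG hU3 H hH hpH
  have hpσM : p ∉ sigma M := hpM.2.1
  have hpq : p ≠ q := fun h => hpσM (h ▸ hqM)
  have hPp : IsPGroup p P := IsPGroup.of_card (n := 1) (by rw [hP, pow_one])
  have hP1 : P ≠ ⊥ := by
    intro h
    rw [h, Subgroup.card_bot] at hP
    exact hp.one_lt.ne hP
  have hp2 : p ≠ 2 := by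
    have h1 := Cfsg.Agent.Lib.Helper34.dvd_card_of_isPGroup_ne_bot hPp hP1
    exact Cfsg.Agent.Lib.Helper54.ne_two_of_dvd_of_odd hG.1
      (h1.trans (Subgroup.card_subgroup_dvd_card _))
  -- the Sylow subgroup and its normalizer
  obtain ⟨S', hS'⟩ : ∃ S' : Subgroup G, S' = (S : Subgroup G) := ⟨_, rfl⟩
  rw [← hS'] at hNM hNH
  have hS'q : IsPGroup q S' := by rw [hS']; exact S.2
  obtain ⟨N, hN⟩ : ∃ N : Subgroup G, N = Subgroup.normalizer (S' : Set G) := ⟨_, rfl⟩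
  rw [← hN] at hNM hNH
  have hS'N : S' ≤ N := by rw [hN]; exact Subgroup.le_normalizer
  have hNS' : N ≤ Subgroup.normalizer (S' : Set G) := hN.le
  have hS'M : S' ≤ M := hS'N.trans hNM
  have hS'H : S' ≤ H := hS'N.trans hNH
  have hS'σM : S' ≤ sigmaCore M :=
    Cfsg.Agent.Lib.Helper54.le_sigmaCore_of_isPi hG hU M hM hS'M (fun t ht htd => by
      rw [prime_eq_of_dvd_card_isPGroup hS'q ht htd]; exact hqM)
  have hS'σH : S' ≤ sigmaCore H :=
    Cfsg.Agent.Lib.Helper54.le_sigmaCore_of_isPi hG hU H hH hS'H (fun t ht htd => by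
      rw [prime_eq_of_dvd_card_isPGroup hS'q ht htd]; exact hqH)
  have h1405 := Cfsg.Agent.Lib.Helper50.s1405_of hG hU3 H hH
  have hHall := h1405.1
  have hHαn : H ≤ Subgroup.normalizer (alphaCore H : Set G) :=
    Cfsg.Agent.Lib.Helper54.le_normalizer_map_subtype H (piCore (alpha H) ↥H)
  have hHαH : alphaCore H ≤ H := hHall.1
  have hασM : alphaCore H ⊓ sigmaCore M = ⊥ :=
    (Cfsg.Agent.Lib.Helper54.sigma_disjoint hG hU H M hH hM hnc').1.2
  have hqα : q ∉ alpha H := fun h =>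
    (Cfsg.Agent.Lib.Helper54.sigma_disjoint hG hU H M hH hM hnc').1.1 q h hqM
  have hsolv : ∀ X : Subgroup G, X ≤ H → Group.IsSolvable X := fun X hX =>
    hG.2.2.2 X (ne_top_of_le_ne_top hH.1 hX)
  -- Lemma A
  have hLemA : ∀ P₁ : Subgroup G, P₁ ≤ M → P₁ ≤ H → Nat.card P₁ = p →
      S' ≤ Subgroup.centralizer (P₁ : Set G) := by
    intro P₁ hP₁M hP₁H hP₁c
    have hP₁p : IsPGroup p P₁ := IsPGroup.of_card (n := 1) (by rw [hP₁c, pow_one])
    have hP₁c' : P₁ ≤ ⁅H, H⁆ :=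
      Cfsg.Agent.Lib.Helper24.le_commutator_of_mem_sigma hG hU H hH p hpσH hP₁p hP₁H
    have hP₁D : P₁ ≤ Subgroup.normalizer ((sigmaCore M ⊓ H : Subgroup G) : Set G) :=
      Cfsg.Agent.Lib.Helper54.le_normalizer_inf
        (hP₁M.trans (Cfsg.Agent.Lib.Helper54.le_normalizer_sigmaCore M))
        (hP₁H.trans Subgroup.le_normalizer)
    have := Cfsg.Agent.Lib.Helper24.le_centralizer_of_le_commutator hG hU M H hM hH hnc' p hpσM
      P₁ hP₁p hP₁c' (sigmaCore M ⊓ H) inf_le_left inf_le_right hP₁D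
    exact (le_inf hS'σM hS'H).trans this
  -- the normal Hall subgroup `A₁` of `N` and a complement `J₁`
  have hNα : N ≤ Subgroup.normalizer (alphaCore H : Set G) := hNH.trans hHαn
  have hcop : (Nat.card (alphaCore H ⊓ N : Subgroup G)).Coprime ((alphaCore H).relIndex N) := by
    apply Nat.coprime_of_dvd
    intro k hk hk1 hk2
    have hkα : k ∈ alpha H := Cfsg.Agent.Lib.Helper54.alphaCore_isPi H k hk
      (hk1.trans (Subgroup.card_dvd_of_le inf_le_left))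
    exact hHall.2.2 k hk hkα (hk2.trans (relIndex_dvd_relIndex_of_le_normalizer hNH hHαn))
  obtain ⟨J₁, hJ₁N, hJ₁card⟩ :=
    Cfsg.Agent.Lib.Helper54.exists_complement_rel N (alphaCore H) hNα hcop
  obtain ⟨A₁, hA₁⟩ : ∃ A₁ : Subgroup G, A₁ = alphaCore H ⊓ N := ⟨_, rfl⟩
  rw [← hA₁] at hcop
  have hA₁N : A₁ ≤ N := by rw [hA₁]; exact inf_le_right
  have hA₁α : A₁ ≤ alphaCore H := by rw [hA₁]; exact inf_le_left
  have hcardN : Nat.card A₁ * Nat.card J₁ = Nat.card N := by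
    have h1 := Cfsg.Agent.Lib.Helper54.card_mul_relIndex hA₁N
    rw [hA₁, Subgroup.inf_relIndex_right, ← hA₁, ← hJ₁card] at h1
    exact h1
  have hcopAJ : (Nat.card A₁).Coprime (Nat.card J₁) := by rw [hJ₁card]; exact hcop
  have hA₁pi : ∀ k : ℕ, k.Prime → k ∣ Nat.card A₁ → k ∈ alpha H := fun k hk hkd =>
    Cfsg.Agent.Lib.Helper54.alphaCore_isPi H k hk (hkd.trans (Subgroup.card_dvd_of_le hA₁α))
  have hJ₁pi : ∀ k : ℕ, k.Prime → k ∣ Nat.card J₁ → k ∉ alpha H := by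
    intro k hk hkd hkα
    rw [hJ₁card] at hkd
    exact hHall.2.2 k hk hkα (hkd.trans (relIndex_dvd_relIndex_of_le_normalizer hNH hHαn))
  have hA₁J₁ : A₁ ⊓ J₁ = ⊥ := Cfsg.Agent.Lib.Helper9.inf_eq_bot_of_coprime' hcopAJ
  have hJ₁A₁ : J₁ ≤ Subgroup.normalizer (A₁ : Set G) := by
    rw [hA₁]
    exact Cfsg.Agent.Lib.Helper54.le_normalizer_inf (hJ₁N.trans hNα)
      (hJ₁N.trans Subgroup.le_normalizer)
  have hsup : A₁ ⊔ J₁ = N := by
    apply Subgroup.eq_of_le_of_card_ge (sup_le hA₁N hJ₁N)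
    rw [Cfsg.Agent.Lib.Helper54.card_sup_of_le_normalizer hJ₁A₁ hA₁J₁, hcardN]
  have hcopSA : (Nat.card S').Coprime (Nat.card A₁) := by
    obtain ⟨k, hk⟩ := IsPGroup.iff_card.mp hS'q
    rw [hk]
    apply Nat.Coprime.pow_left
    rw [Nat.Prime.coprime_iff_not_dvd hq]
    exact fun h => hqα (hA₁pi q hq h)
  have hS'J₁ : S' ≤ J₁ := le_of_normal_of_coprime_compl hS'N hJ₁N hNS' hcardN hcopSA
  have hS'A₁ : S' ≤ Subgroup.centralizer (A₁ : Set G) := by
    rw [← Subgroup.commutator_eq_bot_iff_le_centralizer, eq_bot_iff, ← hασM]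
    refine le_inf ?_ ?_
    · rw [Subgroup.commutator_comm]
      exact (Subgroup.commutator_mono hA₁α le_rfl).trans
        (Cfsg.Agent.Lib.Helper24.commutator_le_of_le_normalizer (hS'H.trans hHαn))
    · exact (Cfsg.Agent.Lib.Helper24.commutator_le_of_le_normalizer (hA₁N.trans hNS')).trans hS'σM
  have hA₁S' : A₁ ≤ Subgroup.centralizer (S' : Set G) := Subgroup.le_centralizer_iff.mp hS'A₁
  -- `P ≤ A₁`
  have hPN : P ≤ N := by
    have h1 := hLemA P hPM hPH hP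
    rw [hN]
    exact (Subgroup.le_centralizer_iff.mp h1).trans (Subgroup.centralizer_le_normalizer _)
  have hPA₁ : P ≤ A₁ := by
    rw [hA₁]
    exact le_inf (le_alphaCore_of_isPGroup hG hU H hH p hpH hPp hPH) hPN
  have hpA₁ : p ∣ Nat.card A₁ := by
    rw [← hP]; exact Subgroup.card_dvd_of_le hPA₁
  -- a `J₁`-invariant Sylow `p`-subgroup of `A₁` and its subgroup `P'` of order `p`
  obtain ⟨Ŝ₁, hŜ₁⟩ := Cfsg.Agent.Lib.Helper54.exists_invariant_sylow J₁ A₁ hJ₁A₁ hcopAJ.symm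
    (Or.inr (hsolv A₁ (hA₁N.trans hNH))) p
  obtain ⟨S₁, hS₁⟩ : ∃ S₁ : Subgroup G, S₁ = (Ŝ₁ : Subgroup A₁).map A₁.subtype := ⟨_, rfl⟩
  rw [← hS₁] at hŜ₁
  have hS₁A₁ : S₁ ≤ A₁ := by rw [hS₁]; exact Subgroup.map_subtype_le _
  have hS₁p : IsPGroup p S₁ := by rw [hS₁]; exact Ŝ₁.2.map _
  have hS₁M : S₁ ≤ M := hS₁A₁.trans (hA₁N.trans hNM)
  have hS₁c : IsCyclic ↥S₁ :=
    Cfsg.Agent.Lib.Helper54.isCyclic_of_pRankLE_one hp2 hS₁p
      (Cfsg.Agent.Lib.Helper54.pRankLE_of_le hS₁M hpM.2.2.2.2)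
  have hŜ₁1 : (Ŝ₁ : Subgroup A₁) ≠ ⊥ := Ŝ₁.ne_bot_of_dvd_card hpA₁
  have hpS₁ : p ∣ Nat.card ↥(Ŝ₁ : Subgroup A₁) :=
    Cfsg.Agent.Lib.Helper34.dvd_card_of_isPGroup_ne_bot Ŝ₁.2 hŜ₁1
  obtain ⟨x₀, hx₀⟩ := exists_prime_orderOf_dvd_card' p hpS₁
  obtain ⟨x₁, hx₁⟩ : ∃ x₁ : G, x₁ = ((x₀ : ↥A₁) : G) := ⟨_, rfl⟩
  have hx₁o : orderOf x₁ = p := by
    rw [hx₁, Subgroup.orderOf_coe, Subgroup.orderOf_coe, hx₀]
  have hx₁S₁ : x₁ ∈ S₁ := by
    rw [hS₁, hx₁]; exact ⟨(x₀ : ↥A₁), x₀.2, rfl⟩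
  obtain ⟨P', hP'def⟩ : ∃ P' : Subgroup G, P' = Subgroup.zpowers x₁ := ⟨_, rfl⟩
  have hP'c : Nat.card P' = p := by rw [hP'def, Nat.card_zpowers, hx₁o]
  have hP'S₁ : P' ≤ S₁ := by rw [hP'def, Subgroup.zpowers_le]; exact hx₁S₁
  have hP'p : IsPGroup p P' := hS₁p.to_le hP'S₁
  have hP'M : P' ≤ M := hP'S₁.trans hS₁M
  have hP'H : P' ≤ H := hP'S₁.trans (hS₁A₁.trans (hA₁N.trans hNH))
  have hP'α : P' ≤ alphaCore H := hP'S₁.trans (hS₁A₁.trans hA₁α)
  have hJ₁P'n : J₁ ≤ Subgroup.normalizer (P' : Set G) :=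
    hŜ₁.trans (Cfsg.Agent.Lib.Helper54.normalizer_le_normalizer_of_isCyclic hS₁c hS₁p hP'S₁)
  have hJ₁P' : J₁ ≤ Subgroup.centralizer (P' : Set G) :=
    (le_inf (hJ₁N.trans hNM) hJ₁P'n).trans (tau1_normalizer_inf_le_centralizer hpM hP'M hP'c)
  have hS'P' : S' ≤ Subgroup.centralizer (P' : Set G) := hLemA P' hP'M hP'H hP'c
  -- a `J₁`-invariant Sylow `p`-subgroup `T₂` of `H_α` containing `P'`
  have hcopJα : (Nat.card J₁).Coprime (Nat.card (alphaCore H)) := by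
    apply Nat.coprime_of_dvd
    intro k hk hk1 hk2
    exact hJ₁pi k hk hk1 (Cfsg.Agent.Lib.Helper54.alphaCore_isPi H k hk hk2)
  obtain ⟨T₀, hP'T₀, hJ₁T₀⟩ := Cfsg.Agent.Lib.Helper54.exists_invariant_sylow_ge J₁ (alphaCore H)
    (hJ₁N.trans hNα) hcopJα (Or.inr (hsolv _ hHαH)) p P' hP'α hP'p hJ₁P'n
  obtain ⟨T₂, hT₂⟩ : ∃ T₂ : Subgroup G, T₂ = (T₀ : Subgroup (alphaCore H)).map (alphaCore H).subtype :=
    ⟨_, rfl⟩
  rw [← hT₂] at hP'T₀ hJ₁T₀
  have hT₂α : T₂ ≤ alphaCore H := by rw [hT₂]; exact Subgroup.map_subtype_le _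
  have hT₂p : IsPGroup p T₂ := by rw [hT₂]; exact T₀.2.map _
  -- the final contradiction from `T₂ ≤ M`
  have hfinal : ¬ T₂ ≤ M := by
    intro hT₂M
    have h1 : PRankLE p 1 ↥T₂ := Cfsg.Agent.Lib.Helper54.pRankLE_of_le hT₂M hpM.2.2.2.2
    have h2 : PRankLE p 1 ↥(alphaCore H) := by
      apply Cfsg.Agent.Lib.Helper54.pRankLE_of_sylow_rel (alphaCore H) T₀
      rw [← hT₂]; exact h1
    obtain ⟨F, hFH, hFe, hFc⟩ := (Cfsg.Agent.Lib.Helper45.not_pRankLE_subgroup_iff 2 H).mp hpH.2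
    have hFp : IsPGroup p F := Cfsg.Agent.Lib.Helper34.isPGroup_of_isElementaryAbelian hFe
    have hFα : F ≤ alphaCore H := le_alphaCore_of_isPGroup hG hU H hH p hpH hFp hFH
    have hFcomm : ∀ x ∈ F, ∀ y ∈ F, x * y = y * x := by
      intro x hx y hy
      have := hFe.1.is_comm.comm (⟨x, hx⟩ : ↥F) ⟨y, hy⟩
      exact congrArg (fun z : ↥F => (z : G)) this
    have hlt : p ^ 1 < Nat.card F :=
      lt_of_le_of_lt (Nat.pow_le_pow_right hp.pos (by norm_num)) hFc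
    exact Cfsg.Agent.Lib.Helper54.not_pRankLE_of_elemAb hFα hFcomm hFe.2 hlt h2
  -- `W`, `V`
  obtain ⟨W, hW⟩ : ∃ W : Subgroup G, W = S' ⊓ Subgroup.centralizer (T₂ : Set G) := ⟨_, rfl⟩
  obtain ⟨V, hV⟩ : ∃ V : Subgroup G, V = W ⊔ ⁅S', S'⁆ := ⟨_, rfl⟩
  have hWS' : W ≤ S' := by rw [hW]; exact inf_le_left
  have hWV : W ≤ V := by rw [hV]; exact le_sup_left
  have hJ₁W : J₁ ≤ Subgroup.normalizer (W : Set G) := by
    rw [hW]
    exact Cfsg.Agent.Lib.Helper54.le_normalizer_inf (hJ₁N.trans hNS')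
      (hJ₁T₀.trans (Cfsg.Agent.Lib.Helper9.normalizer_le_normalizer_centralizer T₂))
  have hA₁W : A₁ ≤ Subgroup.normalizer (W : Set G) :=
    hA₁S'.trans ((Subgroup.centralizer_le (by exact_mod_cast hWS')).trans
      (Subgroup.centralizer_le_normalizer _))
  have hNW : N ≤ Subgroup.normalizer (W : Set G) := by
    rw [← hsup]; exact sup_le hA₁W hJ₁W
  have hNcomm : N ≤ Subgroup.normalizer ((⁅S', S'⁆ : Subgroup G) : Set G) := by
    intro n hn
    exact Cfsg.Agent.Lib.Helper9.normalizer_inf_le_normalizer_commutator S' S'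
      ⟨hNS' hn, hNS' hn⟩
  have hNV : N ≤ Subgroup.normalizer (V : Set G) := by
    rw [hV]; exact le_normalizer_sup' hNW hNcomm
  -- `A₁ ≤ trivOn S' V`
  have hA₁triv : A₁ ≤ trivOn S' V := by
    intro a ha
    rw [mem_trivOn]
    refine ⟨hNV (hA₁N ha), ?_⟩
    intro x hx
    have h1 : a * x = x * a := (Subgroup.mem_centralizer_iff.mp (hA₁S' ha) x hx).symm
    have h2 : ⁅x, a⁆ = 1 := by
      rw [commutatorElement_eq_one_iff_mul_comm]; exact h1.symm
    rw [h2]; exact V.one_mem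
  -- `J₁ ≤ trivOn S' V`
  have hJ₁triv : J₁ ≤ trivOn S' V := by
    apply Cfsg.Agent.Lib.Helper67.le_of_forall_sylow_le
    intro s hsp
    have : Fact s.Prime := ⟨hsp⟩
    obtain ⟨U₀⟩ : Nonempty (Sylow s ↥J₁) := inferInstance
    refine ⟨U₀, ?_⟩
    obtain ⟨U, hUdef⟩ : ∃ U : Subgroup G, U = (U₀ : Subgroup J₁).map J₁.subtype := ⟨_, rfl⟩
    have hUJ₁ : U ≤ J₁ := by rw [hUdef]; exact Subgroup.map_subtype_le _
    have hUs : IsPGroup s U := by rw [hUdef]; exact U₀.2.map _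
    have hUN : U ≤ N := hUJ₁.trans hJ₁N
    have hUM : U ≤ M := hUN.trans hNM
    have hUH : U ≤ H := hUN.trans hNH
    have hUS' : U ≤ Subgroup.normalizer (S' : Set G) := hUN.trans hNS'
    have hUT₂ : U ≤ Subgroup.normalizer (T₂ : Set G) := hUJ₁.trans hJ₁T₀
    have hUP' : U ≤ Subgroup.centralizer (P' : Set G) := hUJ₁.trans hJ₁P'
    have hmain : ∀ u ∈ U, ∀ x ∈ S', ⁅x, u⁆ ∈ V := by
      by_cases hsq : s = q
      · subst hsq
        have h1 : U ⊓ Subgroup.normalizer (S : Set G) = U ⊓ (S : Subgroup G) :=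
          hUs.inf_normalizer_sylow S
        have hUS : U ≤ S' := by
          have h2 : U ≤ U ⊓ Subgroup.normalizer (S : Set G) := by
            refine le_inf le_rfl ?_
            have := hUS'
            rw [hS'] at this
            exact this
          rw [h1] at h2
          rw [hS']
          exact h2.trans inf_le_right
        intro u hu x hx
        rw [hV]
        exact Subgroup.mem_sup_right (Subgroup.commutator_mem_commutator hx (hUS hu))
      have hcopSs : (Nat.card S').Coprime s := by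
        obtain ⟨k, hk⟩ := IsPGroup.iff_card.mp hS'q
        rw [hk]
        exact Nat.Coprime.pow_left k ((Nat.coprime_primes hq hsp).mpr (Ne.symm hsq))
      by_cases hsM : s ∈ sigma M
      · have h1 := commutator_eq_bot_of_mem_sigma hG hU M H hM hH hnc s hsM S' hS'M hS'σH hcopSs
          U hUs hUM hUS'
        intro u hu x hx
        have h2 : ⁅x, u⁆ ∈ ⁅S', U⁆ := Subgroup.commutator_mem_commutator hx hu
        rw [h1, Subgroup.mem_bot] at h2
        rw [h2]; exact V.one_mem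
      by_cases hsH : s ∈ sigma H
      · have h1 := commutator_eq_bot_of_mem_sigma hG hU H M hH hM hnc' s hsH S' hS'H hS'σM hcopSs
          U hUs hUH hUS'
        intro u hu x hx
        have h2 : ⁅x, u⁆ ∈ ⁅S', U⁆ := Subgroup.commutator_mem_commutator hx hu
        rw [h1, Subgroup.mem_bot] at h2
        rw [h2]; exact V.one_mem
      -- `s ∉ σ(M) ∪ σ(H)`
      have hsM1 : PRankLE s 1 ↥M := by
        by_contra h
        have hτ : s ∈ tau2 M :=
          ⟨hsp, hsM, Cfsg.Agent.Lib.Helper34.pRankLE_two_of_not_mem_sigma hU hM hsM, h⟩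
        obtain ⟨A, hA⟩ := Cfsg.Agent.Lib.Helper97.BGTwelve.exists_elemAb_sq_of_not_pRankLE_one M h
        have hnil := h1417a M hM s hτ A hA
        exact ((Cfsg.Agent.Lib.Helper54.sigma_disjoint hG hU M H hM hH hnc).2 hnil).1 q hqM hqH
      have hsH1 : PRankLE s 1 ↥H := by
        by_contra h
        have hτ : s ∈ tau2 H :=
          ⟨hsp, hsH, Cfsg.Agent.Lib.Helper34.pRankLE_two_of_not_mem_sigma hU hH hsH, h⟩
        obtain ⟨A, hA⟩ := Cfsg.Agent.Lib.Helper97.BGTwelve.exists_elemAb_sq_of_not_pRankLE_one H h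
        have hnil := h1417a H hH s hτ A hA
        exact ((Cfsg.Agent.Lib.Helper54.sigma_disjoint hG hU H M hH hM hnc').2 hnil).1 q hqH hqM
      have hps : p ≠ s := fun h => hsH (h ▸ hpσH)
      have key := commutator_mem_of_rank_one hG hU h1406 h1427 M H hM hH p q s hpq hps
        (Ne.symm hsq) hsM hsM1 hsH hsH1 S' hS'q hS'σM T₂ hT₂p hT₂α (hS'J₁.trans hJ₁T₀) P' hP'c
        hP'T₀ hS'P' U hUs hUM hUH hUS' hUT₂ hUP'
      intro u hu x hx
      have := key u hu x hx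
      rw [← hW] at this
      exact hWV this
    intro u hu
    rw [mem_trivOn]
    have huU : (u : G) ∈ U := by rw [hUdef]; exact ⟨u, hu, rfl⟩
    exact ⟨hNV (hUN huU), hmain (u : G) huU⟩
  have hNtriv : N ≤ trivOn S' V := by
    rw [← hsup]; exact sup_le hA₁triv hJ₁triv
  -- focal subgroup theorem
  have hidx : ¬ q ∣ S'.relIndex N := by
    intro h
    have h1 : S'.relIndex N ∣ S'.index := Subgroup.relIndex_dvd_index_of_le hS'N
    rw [hS'] at h1 h
    exact S.not_dvd_index (h.trans h1)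
  have hS'comm : S' ≤ ⁅N, N⁆ := by
    have := h1411 q S
    rw [← hS', ← hN] at this
    exact this
  have hS'V : S' ≤ V := le_of_focal_rel S' N hS'q hS'N hidx hS'comm V
    (fun x hx u hu => (mem_trivOn.mp (hNtriv hu)).2 x hx)
  have hS'W : S' ≤ W := by
    rw [hV] at hS'V
    exact Cfsg.Agent.Lib.Helper84.le_of_le_sup_commutator S' hS'q W hWS' hS'V
  have hS'T₂ : S' ≤ Subgroup.centralizer (T₂ : Set G) := by
    rw [hW] at hS'W; exact hS'W.trans inf_le_right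
  apply hfinal
  have h1 : T₂ ≤ Subgroup.centralizer (S' : Set G) := Subgroup.le_centralizer_iff.mp hS'T₂
  have h2 : Subgroup.centralizer (S' : Set G) ≤ N := by
    rw [hN]; exact Subgroup.centralizer_le_normalizer _
  exact h1.trans (h2.trans hNM)

end Cfsg.Agent.Lib.Helper10.BG13
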