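import Mathlib
import Cfsg.Agent.Lib.Helper10.BGThirteenA2
import Cfsg.Agent.Lib.Helper33.SylIn

/-!
# Bender–Glauberman 13.4 (statement S1428): Sylow subgroups of `M ∩ H` and the `τ₂` exclusion  (helper10)

* `exists_mul_mem_normalizer_of_sylIn`: relative Frattini argument, elementwise.
* `exists_sylIn_of_normalizer_le`: wrapper of S1424: a Sylow `q`-subgroup `S` of `M ∩ H` over `X` is a Sylow
  `q`-subgroup of `H` with `N_G(S) ≤ M`.
* `tau2_false`: `q ∈ σ(M) ∩ τ₂(H)`, `X ≤ M` a nontrivial `q`-subgroup with `N_G(X) ≤ H` force `H_σ ∩ M = 1`.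
-/

set_option autoImplicit false

open scoped commutatorElement Pointwise

namespace Cfsg.Agent.Lib.Helper10.BG13

open Cfsg
open Cfsg.Agent.Lib.Helper33 (SylIn cj)
open Cfsg.Agent.Lib.Helper34 (UniquenessThm)

variable {G : Type*} [Group G]

/-- relative Frattini argument: if `S` is a Sylow `q`-subgroup of `C` and `y` normalizes `C` then
`c * y` normalizes `S` for some `c ∈ C`. -/
theorem exists_mul_mem_normalizer_of_sylIn [Finite G] {q : ℕ} [Fact q.Prime] {C S : Subgroup G}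
    (hS : SylIn q S C) {y : G} (hy : y ∈ Subgroup.normalizer (C : Set G)) :
    ∃ c ∈ C, c * y ∈ Subgroup.normalizer (S : Set G) := by
  have h1 : SylIn q (cj y S) (cj y C) := hS.cj y
  rw [Cfsg.Agent.Lib.Helper33.cj_eq_self_of_mem_normalizer hy] at h1
  obtain ⟨c, hc, hcS⟩ := hS.exists_cj_eq h1
  refine ⟨c, hc, ?_⟩
  rw [Cfsg.Agent.Lib.Helper33.mem_normalizer_iff_cj_eq, Cfsg.Agent.Lib.Helper33.cj_mul]
  exact hcS

/-- wrapper of S1424 -/
theorem exists_sylIn_of_normalizer_le [Finite G] (h1424 : H1424 G) (M H : Subgroup G)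
    (hM : IsCoatom M) (hH : IsCoatom H) (hne : H ≠ M) (q : ℕ) [Fact q.Prime] (hqM : q ∈ sigma M)
    (X : Subgroup G) (hXq : IsPGroup q X) (hX1 : X ≠ ⊥) (hXM : X ≤ M)
    (hNX : Subgroup.normalizer (X : Set G) ≤ H) :
    ∃ S : Subgroup G, X ≤ S ∧ S ≤ M ∧ SylIn q S H ∧ Subgroup.normalizer (S : Set G) ≤ M := by
  have hXH : X ≤ H := Subgroup.le_normalizer.trans hNX
  obtain ⟨S₀, hS₀⟩ := Cfsg.Agent.Lib.Helper34.exists_sylow_map_ge hXq (le_inf hXM hXH)
  obtain ⟨-, h2, h3⟩ := h1424 M hM q hqM X hXq hX1 hXM H hH hne hNX S₀ hS₀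
  refine ⟨_, hS₀, (Subgroup.map_subtype_le _).trans inf_le_left,
    ⟨(Subgroup.map_subtype_le _).trans inf_le_right, S₀.2.map _, h3⟩, h2⟩

/-- the `τ₂` exclusion -/
theorem tau2_false [Finite G] (h1417e : H1417e G) (h1424 : H1424 G) (M H : Subgroup G)
    (hM : IsCoatom M) (hH : IsCoatom H) (hne : H ≠ M) (q : ℕ) [Fact q.Prime] (hqM : q ∈ sigma M)
    (hqH : q ∈ tau2 H) (X : Subgroup G) (hXq : IsPGroup q X) (hX1 : X ≠ ⊥) (hXM : X ≤ M)
    (hNX : Subgroup.normalizer (X : Set G) ≤ H) : sigmaCore H ⊓ M = ⊥ := by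
  obtain ⟨S, -, hSM, hSyl, -⟩ :=
    exists_sylIn_of_normalizer_le h1424 M H hM hH hne q hqM X hXq hX1 hXM hNX
  have hr : ¬ PRankLE q 1 ↥S := by
    intro h
    apply hqH.2.2.2
    apply Cfsg.Agent.Lib.Helper54.pRankLE_of_sylow_rel H hSyl.toSylow
    rw [hSyl.coe_toSylow, Subgroup.map_subgroupOf_eq_of_le hSyl.le]
    exact h
  obtain ⟨B, hBS, hBe, hBc⟩ :=
    Cfsg.Agent.Lib.Helper97.BGTwelve.exists_elemAb_sq_of_not_pRankLE_one S hr
  exact h1417e H hH q hqH B ⟨hBS.trans hSyl.le, hBe, hBc⟩ M hM hne.symm (hBS.trans hSM)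

end Cfsg.Agent.Lib.Helper10.BG13
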