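import Mathlib
import Cfsg.Agent.Lib.Helper10.BGThirteenT
import Cfsg.Agent.Lib.Helper10.BGThirteenSetting

/-!
# Bender–Glauberman 13.4 (statement S1428): the case `p ∈ α(H)`, first part  (helper10)

`alpha_exists_sylow` (module AL1): in the main setting with `p ∈ α(H)`, `q ∈ σ(H)` and some Sylow
`q`-subgroup `S` of `G` has `N_G(S) ≤ M ∩ H`.
-/

set_option autoImplicit false
set_option maxHeartbeats 1000000

open scoped commutatorElement Pointwise

namespace Cfsg.Agent.Lib.Helper10.BG13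

open Cfsg
open Cfsg.Agent.Lib.Helper33 (SylIn cj)
open Cfsg.Agent.Lib.Helper34 (UniquenessThm)
open Cfsg.Agent.Lib.Helper51.BG12 (H1406)

variable {G : Type*} [Group G]

/-- module AL1 -/
theorem alpha_exists_sylow [Finite G] (hG : IsMinSimpleOddOrder G) (hU : UniquenessThm G)
    (h1406 : H1406 G) (h1417e : H1417e G) (h1424 : H1424 G) {M H : Subgroup G} {p q r : ℕ}
    [Fact p.Prime] [Fact q.Prime] [Fact r.Prime] {P Q R : Subgroup G}
    (hset : MainSetting M H p q r P Q R) (hpα : p ∈ alpha H) :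
    ∃ S : Sylow q G, q ∈ sigma H ∧ Subgroup.normalizer ((S : Subgroup G) : Set G) ≤ M ∧
      Subgroup.normalizer ((S : Subgroup G) : Set G) ≤ H := by
  obtain ⟨hM, hH, hnc, hpM, hpH, hrM, hrH, hrH1, hqM, hP, hR, hPM, hPH, hRM, hRH, hRP, hQq, hQ1,
    hQM, hQH, hQP, hRQ, hQR⟩ := hset
  have hp : p.Prime := Fact.out
  have hq : q.Prime := Fact.out
  have hr : r.Prime := Fact.out
  have hs : IsSimpleGroup G := hG.2.1
  have hU3 := Cfsg.Agent.Lib.Helper54.uniqThree_of_uniquenessThm hU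
  have hne : H ≠ M := by
    intro h
    apply hnc 1
    rw [map_one, one_smul, h]
  have hnc' : ∀ g : G, MulAut.conj g • H ≠ M := by
    intro g hg
    apply hnc g⁻¹
    rw [← hg, ← mul_smul, ← map_mul, inv_mul_cancel, map_one, one_smul]
  have hPp : IsPGroup p P := IsPGroup.of_card (n := 1) (by rw [hP, pow_one])
  have hRr : IsPGroup r R := IsPGroup.of_card (n := 1) (by rw [hR, pow_one])
  have hP1 : P ≠ ⊥ := by
    intro h
    rw [h, Subgroup.card_bot] at hP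
    exact hp.one_lt.ne hP
  have hpσM : p ∉ sigma M := hpM.2.1
  have hpq : p ≠ q := fun h => hpσM (h ▸ hqM)
  have hqr : q ≠ r := fun h => hrM (h ▸ hqM)
  have hpr : p ≠ r := fun h => hrH (h ▸ hpH)
  have hp2 : p ≠ 2 := by
    have h1 := Cfsg.Agent.Lib.Helper34.dvd_card_of_isPGroup_ne_bot hPp hP1
    exact Cfsg.Agent.Lib.Helper54.ne_two_of_dvd_of_odd hG.1
      (h1.trans (Subgroup.card_subgroup_dvd_card _))
  have hq2 : q ≠ 2 := by
    have h1 := Cfsg.Agent.Lib.Helper34.dvd_card_of_isPGroup_ne_bot hQq hQ1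
    exact Cfsg.Agent.Lib.Helper54.ne_two_of_dvd_of_odd hG.1
      (h1.trans (Subgroup.card_subgroup_dvd_card _))
  have hqα : q ∉ alpha H := fun h =>
    (Cfsg.Agent.Lib.Helper54.sigma_disjoint hG hU H M hH hM hnc').1.1 q h hqM
  have hrα : r ∉ alpha H := fun h =>
    hrH (Cfsg.Agent.Lib.Helper50.alpha_subset_sigma hG hU3 H hH h)
  have hHαn : H ≤ Subgroup.normalizer (alphaCore H : Set G) :=
    Cfsg.Agent.Lib.Helper54.le_normalizer_map_subtype H (piCore (alpha H) ↥H)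
  have hHαH : alphaCore H ≤ H := Subgroup.map_subtype_le _
  have hPα : P ≤ alphaCore H := le_alphaCore_of_isPGroup hG hU H hH p hpα hPp hPH
  have hPσ : P ≤ sigmaCore H :=
    Cfsg.Agent.Lib.Helper54.le_sigmaCore_of_isPi hG hU H hH hPH (fun t ht htd => by
      rw [prime_eq_of_dvd_card_isPGroup hPp ht htd]; exact hpH)
  -- the `(Q ⊔ R)`-invariant Sylow `p`-subgroup `T` of `H_α` over `P`
  have hAH : Q ⊔ R ≤ H := sup_le hQH hRH
  have hcopA : (Nat.card (Q ⊔ R : Subgroup G)).Coprime (Nat.card (alphaCore H)) := by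
    apply Nat.coprime_of_dvd
    intro k hk hk1 hk2
    have hkα : k ∈ alpha H := Cfsg.Agent.Lib.Helper54.alphaCore_isPi H k hk hk2
    have h1 := hk1.trans (Cfsg.Agent.Lib.Helper22.card_sup_dvd_mul_of_le_normalizer hRQ)
    rcases (Nat.Prime.dvd_mul hk).mp h1 with h | h
    · rw [prime_eq_of_dvd_card_isPGroup hQq hk h] at hkα; exact hqα hkα
    · rw [prime_eq_of_dvd_card_isPGroup hRr hk h] at hkα; exact hrα hkα
  have hAP : Q ⊔ R ≤ Subgroup.normalizer (P : Set G) :=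
    sup_le (hQP.trans (Subgroup.centralizer_le_normalizer _))
      (hRP.trans (Subgroup.centralizer_le_normalizer _))
  have hsolvα : Group.IsSolvable (alphaCore H) :=
    hG.2.2.2 _ (ne_top_of_le_ne_top hH.1 hHαH)
  obtain ⟨T₀, hPT₀, hAT₀⟩ := Cfsg.Agent.Lib.Helper54.exists_invariant_sylow_ge (Q ⊔ R)
    (alphaCore H) (hAH.trans hHαn) hcopA (Or.inr hsolvα) p P hPα hPp hAP
  obtain ⟨T, hT⟩ : ∃ T : Subgroup G, T = (T₀ : Subgroup (alphaCore H)).map (alphaCore H).subtype :=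
    ⟨_, rfl⟩
  rw [← hT] at hPT₀ hAT₀
  have hTα : T ≤ alphaCore H := by rw [hT]; exact Subgroup.map_subtype_le _
  have hTp : IsPGroup p T := by rw [hT]; exact T₀.2.map _
  have hTH : T ≤ H := hTα.trans hHαH
  -- Shult
  have hcyc := isCyclic_inf_centralizer_of_le_alphaCore hG hU h1406 H hH r hrH hrH1 R hRH hR p T
    hTp hTα
  have hPZ : P ≤ T ⊓ Subgroup.centralizer (R : Set G) :=
    le_inf hPT₀ (Subgroup.le_centralizer_iff.mp hRP)
  have hfix : ∀ t ∈ T, t ∈ Subgroup.centralizer (R : Set G) → t ^ p = 1 →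
      t ∈ Subgroup.centralizer (Q : Set G) := by
    intro t htT htR htp
    have h1 : t ∈ P := mem_of_pow_eq_one_of_isCyclic hp hcyc hPZ hP ⟨htT, htR⟩ htp
    exact (Subgroup.le_centralizer_iff.mp hQP) h1
  have hF := commutator_le_centralizer_of_fixed hp2 hq2 hpq hpr hqr Q R T hQq hR hTp hRQ
    (le_sup_left.trans hAT₀) (le_sup_right.trans hAT₀) hfix
  rw [hQR] at hF
  have hTQ : T ≤ Subgroup.centralizer (Q : Set G) := Subgroup.le_centralizer_iff.mp hF
  -- `T` has `p`-rank at least three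
  have hT2 : ¬ PRankLE p 2 ↥T := by
    intro h1
    have h2 : PRankLE p 2 ↥(alphaCore H) := by
      apply Cfsg.Agent.Lib.Helper54.pRankLE_of_sylow_rel (alphaCore H) T₀
      rw [← hT]; exact h1
    obtain ⟨F, hFH, hFe, hFc⟩ := (Cfsg.Agent.Lib.Helper45.not_pRankLE_subgroup_iff 2 H).mp hpα.2
    have hFp : IsPGroup p F := Cfsg.Agent.Lib.Helper34.isPGroup_of_isElementaryAbelian hFe
    have hFα : F ≤ alphaCore H := le_alphaCore_of_isPGroup hG hU H hH p hpα hFp hFH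
    have hFcomm : ∀ x ∈ F, ∀ y ∈ F, x * y = y * x := by
      intro x hx y hy
      have := hFe.1.is_comm.comm (⟨x, hx⟩ : ↥F) ⟨y, hy⟩
      exact congrArg (fun z : ↥F => (z : G)) this
    exact Cfsg.Agent.Lib.Helper54.not_pRankLE_of_elemAb hFα hFcomm hFe.2 hFc h2
  have hTtop : T ≠ ⊤ := ne_top_of_le_ne_top hH.1 hTH
  have hTr2 : ¬ RankLE 2 ↥T := fun h => hT2 (h p hp)
  have hTr1 : ¬ RankLE 1 ↥T := fun h => hTr2 (Cfsg.Agent.Lib.Helper34.rankLE_two_of_rankLE_one h)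
  obtain ⟨L₀, -, huniq⟩ := hU T hTtop hTr1 (Or.inl hTr2)
  -- `N_G(Q) ≤ H`
  have hQT : Q ≠ ⊤ := Cfsg.Agent.Lib.Helper54.ne_top_of_isPGroup hG.2.1 hG.2.2.1 hQq
  obtain ⟨L₁, hL₁, hNL₁⟩ := Cfsg.Agent.Lib.Helper54.exists_isCoatom_ge
    (Cfsg.Agent.Lib.Helper54.normalizer_ne_top_of_simple hG.2.1 hQ1 hQT)
  have hL₁H : L₁ = H := by
    rw [huniq L₁ ⟨hL₁, hTQ.trans ((Subgroup.centralizer_le_normalizer _).trans hNL₁)⟩,
      huniq H ⟨hH, hTH⟩]
  rw [hL₁H] at hNL₁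
  have hQM' : Q ≤ M := hQM.trans (Cfsg.Agent.Lib.Helper54.sigmaCore_le M)
  -- `q ∈ σ(H)`
  have hqH : q ∈ sigma H := by
    rcases Cfsg.Agent.Lib.Helper54.mem_sigma_or_tau2_of_normalizer_le hG hU H hH q Q hQq hQ1 hNL₁
      with h | hτ
    · exact h
    · exfalso
      have h1 := tau2_false h1417e h1424 M H hM hH hne q hqM hτ Q hQq hQ1 hQM' hNL₁
      apply hP1
      rw [eq_bot_iff, ← h1]
      exact le_inf hPσ hPM
  obtain ⟨S', -, hS'M, hSyl, hNS'M⟩ :=
    exists_sylIn_of_normalizer_le h1424 M H hM hH hne q hqM Q hQq hQ1 hQM' hNL₁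
  have hqH' := hqH
  obtain ⟨-, -, P₀, h0⟩ := hqH'
  have h1 := Cfsg.Agent.Lib.Helper34.normalizer_map_sylow_le_of_exists P₀ h0 hSyl.toSylow
  have hmap : (hSyl.toSylow : Subgroup H).map H.subtype = S' := by
    rw [hSyl.coe_toSylow, Subgroup.map_subgroupOf_eq_of_le hSyl.le]
  obtain ⟨Q₀, hQ₀⟩ := Cfsg.Agent.Lib.Helper34.exists_sylow_eq_map_of_normalizer_le hSyl.toSylow h1
  rw [hmap] at h1 hQ₀
  refine ⟨Q₀, hqH, ?_, ?_⟩
  · rw [hQ₀]; exact hNS'M
  · rw [hQ₀]; exact h1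

end Cfsg.Agent.Lib.Helper10.BG13
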