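import Mathlib
import Cfsg.Agent.Lib.Helper10.BGThirteenF
import Cfsg.Agent.Lib.Helper67.PiClosed

/-!
# The "bad prime" lemma (tool for Bender–Glauberman 13.4, statement S1428)  (helper10)

An `r`-group `R` acts coprimely on `Y` and does not centralize it.  Then for some prime `q` there is a
nontrivial `R`-invariant `q`-subgroup `Q` of `Y` with `⁅Q, R⁆ = Q`.
-/

set_option autoImplicit false

open scoped commutatorElement

namespace Cfsg.Agent.Lib.Helper10.BG13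

open Cfsg.Agent.Lib.Helper9

variable {G : Type*} [Group G]

theorem exists_bad_prime [Finite G] {r : ℕ} [Fact r.Prime] {Y R : Subgroup G}
    (hR : IsPGroup r R) (hRY : R ≤ Subgroup.normalizer (Y : Set G))
    (hcop : (Nat.card Y).Coprime r) (hnot : ¬ Y ≤ Subgroup.centralizer (R : Set G)) :
    ∃ (q : ℕ) (_ : Fact q.Prime) (Q : Subgroup G), Q ≤ Y ∧ IsPGroup q Q ∧ Q ≠ ⊥ ∧
      R ≤ Subgroup.normalizer (Q : Set G) ∧ ⁅Q, R⁆ = Q := by
  by_contra hcon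
  push Not at hcon
  apply hnot
  have hRsolv : Group.IsSolvable R := isSolvable_of_isPGroup' hR
  have hcopYR : (Nat.card Y).Coprime (Nat.card R) := by
    obtain ⟨k, hk⟩ := IsPGroup.iff_card.mp hR
    rw [hk]
    exact Nat.Coprime.pow_right k hcop
  apply Cfsg.Agent.Lib.Helper67.le_of_forall_sylow_le
  intro q hq
  have : Fact q.Prime := ⟨hq⟩
  obtain ⟨Q₀, hQ₀⟩ := Cfsg.Agent.Lib.Helper54.exists_invariant_sylow R Y hRY hcopYR.symm
    (Or.inl hRsolv) q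
  refine ⟨Q₀, ?_⟩
  obtain ⟨Q₁, hQ₁⟩ : ∃ Q₁ : Subgroup G, Q₁ = (Q₀ : Subgroup Y).map Y.subtype := ⟨_, rfl⟩
  rw [← hQ₁] at hQ₀
  have hQ₁Y : Q₁ ≤ Y := by rw [hQ₁]; exact Subgroup.map_subtype_le _
  have hQ₁q : IsPGroup q Q₁ := by rw [hQ₁]; exact Q₀.2.map _
  have hcop1 : (Nat.card Q₁).Coprime (Nat.card R) :=
    Nat.Coprime.coprime_dvd_left (Subgroup.card_dvd_of_le hQ₁Y) hcopYR
  have h1 := commutator_commutator_eq_of_coprime Q₁ R hQ₀ hcop1 (Or.inl hRsolv)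
  have h2 : ⁅Q₁, R⁆ ≤ Q₁ := commutator_le_left_of_le_normalizer hQ₀
  have h3 := hcon q ‹_› ⁅Q₁, R⁆ (h2.trans hQ₁Y) (hQ₁q.to_le h2)
  have h4 : ⁅Q₁, R⁆ = ⊥ := by
    by_contra h
    exact h3 h (le_normalizer_commutator_right Q₁ R) h1
  have h5 : Q₁ ≤ Subgroup.centralizer (R : Set G) :=
    Subgroup.commutator_eq_bot_iff_le_centralizer.mp h4
  intro s hs
  apply h5
  rw [hQ₁]
  exact ⟨s, hs, rfl⟩

end Cfsg.Agent.Lib.Helper10.BG13
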