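import Mathlib
import Cfsg.Agent.Lib.Helper10.BGThirteenT
import Cfsg.Agent.Lib.Helper50.Thm131
import Cfsg.Agent.Lib.Helper23.TypeP

/-!
# Bender–Glauberman 13.4 (statement S1428): the modules KB, CONJ, NAg1, NAg2  (helper10)

* `tau2_compl_le` (KB, second half): `q ∈ σ(M) ∩ τ₂(L)` and a Sylow `q`-subgroup of `L` inside `M` give a
  complement of `L_σ` in `L` inside `M`.
* `exists_cj_le_compl` (CONJ): a `p`-subgroup of `L`, `p ∉ σ(L)`, is `L`-conjugate into a given complement.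
* `tau1_conj_smul'`: `τ₁` is invariant under conjugation.
* `nonalpha_noncyclic` (NAg1), `nonalpha_cyclic` (NAg2), with Lemma Z0 as a hypothesis.
-/

set_option autoImplicit false
set_option maxHeartbeats 1000000

open scoped commutatorElement Pointwise

namespace Cfsg.Agent.Lib.Helper10.BG13

open Cfsg
open Cfsg.Agent.Lib.Helper33 (SylIn cj)
open Cfsg.Agent.Lib.Helper34 (UniquenessThm)
open Cfsg.Agent.Lib.Helper50 (CentSqLE)

variable {G : Type*} [Group G]

/-- the statement of Lemma Z0 (module Z0) -/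
def LemmaZ0 (G : Type*) [Group G] : Prop :=
  ∀ M L : Subgroup G, IsCoatom M → IsCoatom L → ∀ (p q : ℕ) [Fact p.Prime] [Fact q.Prime],
    p ≠ q → p ∣ Nat.card L → p ∉ beta L → q ∈ sigma M → q ∈ sigma L → ∀ T : Subgroup G,
      IsPGroup p T → T ≤ L → ∃ g : G, T ≤ MulAut.conj g • M ∧
        ∀ y ∈ L, y ∈ Subgroup.normalizer (T : Set G) →
          ∃ c ∈ Subgroup.centralizer (T : Set G), c⁻¹ * y ∈ MulAut.conj g • M

/-- module KB, second half -/
theorem tau2_compl_le [Finite G] (hG : IsMinSimpleOddOrder G) (hU : UniquenessThm G)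
    (hC : CentSqLE G) (h1418 : H1418full G) (M L : Subgroup G) (hM : IsCoatom M)
    (hL : IsCoatom L) (q : ℕ) [Fact q.Prime] (hqM : q ∈ sigma M) (hqL : q ∈ tau2 L)
    (S : Subgroup G) (hSM : S ≤ M) (hSyl : SylIn q S L) :
    ∃ E : Subgroup G, IsComplIn E (sigmaCore L) L ∧ E ≤ M := by
  have hq : q.Prime := Fact.out
  have hU3 := Cfsg.Agent.Lib.Helper54.uniqThree_of_uniquenessThm hU
  have hr : ¬ PRankLE q 1 ↥S := by
    intro h
    apply hqL.2.2.2
    apply Cfsg.Agent.Lib.Helper54.pRankLE_of_sylow_rel L hSyl.toSylow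
    rw [hSyl.coe_toSylow, Subgroup.map_subgroupOf_eq_of_le hSyl.le]
    exact h
  obtain ⟨B, hBS, hBe, hBc⟩ :=
    Cfsg.Agent.Lib.Helper97.BGTwelve.exists_elemAb_sq_of_not_pRankLE_one S hr
  have hBq : IsPGroup q B := Cfsg.Agent.Lib.Helper34.isPGroup_of_isElementaryAbelian hBe
  have hBM : B ≤ M := hBS.trans hSM
  have hBL : B ≤ L := hBS.trans hSyl.le
  have hBcomm : ∀ x ∈ B, ∀ y ∈ B, x * y = y * x := by
    intro x hx y hy
    have := hBe.1.is_comm.comm (⟨x, hx⟩ : ↥B) ⟨y, hy⟩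
    exact congrArg (fun z : ↥B => (z : G)) this
  have hBnc : ¬ IsCyclic ↥B := by
    intro hc
    have h1 : PRankLE q 1 ↥B := Cfsg.Agent.Lib.Helper24.pRankLE_one_of_isCyclic q hq.pos hc
    have hlt : q ^ 1 < Nat.card B := by
      rw [hBc]; exact Nat.pow_lt_pow_right hq.one_lt (by norm_num)
    exact Cfsg.Agent.Lib.Helper54.not_pRankLE_of_elemAb (le_refl B) hBcomm hBe.2 hlt h1
  have hNB : Subgroup.normalizer (B : Set G) ≤ M :=
    Cfsg.Agent.Lib.Helper50.normalizer_le_of_not_isCyclic hG hU3 hC M hM q hqM B hBq hBM hBnc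
  have hHall := (Cfsg.Agent.Lib.Helper54.sigmaCore_hall_of hG hU L hL).1
  have hBpi : ∀ t : ℕ, t.Prime → t ∣ Nat.card B → t ∉ sigma L := by
    intro t ht htd
    rw [prime_eq_of_dvd_card_isPGroup hBq ht htd]; exact hqL.2.1
  obtain ⟨E, hE, hBE⟩ := Cfsg.Agent.Lib.Helper97.BGTwelve.exists_complIn_ge (hG.2.2.2 L hL.1)
    hHall hBL hBpi
  obtain ⟨-, ⟨-, h2, -⟩, -⟩ := h1418 L hL E hE q hqL B ⟨hBE, hBe, hBc⟩
  refine ⟨E, hE, ?_⟩
  rw [← h2]
  exact inf_le_right.trans hNB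

/-- module CONJ -/
theorem exists_cj_le_compl [Finite G] (L : Subgroup G) (E : Subgroup G)
    (hE : IsComplIn E (sigmaCore L) L) (p : ℕ) [Fact p.Prime] (hp : p ∉ sigma L) (T : Subgroup G)
    (hT : IsPGroup p T) (hTL : T ≤ L) : ∃ l ∈ L, cj l T ≤ E := by
  have hpp : p.Prime := Fact.out
  obtain ⟨Ŝ₀⟩ : Nonempty (Sylow p ↥E) := inferInstance
  have h1 : SylIn p ((Ŝ₀ : Subgroup E).map E.subtype) E := Cfsg.Agent.Lib.Helper33.sylIn_of_sylow Ŝ₀
  obtain ⟨Ŝ, hŜ⟩ : ∃ Ŝ : Subgroup G, Ŝ = (Ŝ₀ : Subgroup E).map E.subtype := ⟨_, rfl⟩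
  rw [← hŜ] at h1
  have hEL : E ≤ L := hE.1
  have h2 : SylIn p Ŝ L := by
    refine ⟨h1.le.trans hEL, h1.isPGroup, ?_⟩
    rw [← Subgroup.relIndex_mul_relIndex Ŝ E L h1.le hEL]
    intro h
    rcases (Nat.Prime.dvd_mul hpp).mp h with h | h
    · exact h1.not_dvd h
    · have h3 := Cfsg.Agent.Lib.Helper23.card_of_isComplIn hE
      have h4 := Cfsg.Agent.Lib.Helper54.card_mul_relIndex hEL
      have h5 : E.relIndex L = Nat.card (sigmaCore L) := by
        apply Nat.eq_of_mul_eq_mul_left (Nat.card_pos (α := ↥E))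
        rw [h4, h3]
      rw [h5] at h
      exact hp (Cfsg.Agent.Lib.Helper54.sigmaCore_isPi L p hpp h)
  obtain ⟨l, hl, hle⟩ := h2.exists_cj_le hTL hT
  exact ⟨l, hl, hle.trans h1.le⟩

/-- `τ₁` is invariant under conjugation -/
theorem tau1_conj_smul' [Finite G] {M : Subgroup G} {p : ℕ} (hp : p ∈ tau1 M) (g : G) :
    p ∈ tau1 (MulAut.conj g • M) := by
  obtain ⟨hpp, hσ, hd, hc, hr⟩ := hp
  refine ⟨hpp, ?_, ?_, ?_, ?_⟩
  · intro h
    apply hσ
    have := Cfsg.Agent.Lib.Helper24.mem_sigma_conj_smul h g⁻¹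
    rwa [← mul_smul, ← map_mul, inv_mul_cancel, map_one, one_smul] at this
  · rw [Cfsg.Agent.Lib.Helper54.card_conj_smul]; exact hd
  · have e : ⁅MulAut.conj g • M, MulAut.conj g • M⁆ = MulAut.conj g • ⁅M, M⁆ := by
      have := Subgroup.map_commutator M M (MulAut.conj g).toMonoidHom
      exact this.symm
    rw [e, Cfsg.Agent.Lib.Helper54.card_conj_smul]
    exact hc
  · exact (Cfsg.Agent.Lib.Helper54.pRankLE_conj_smul_iff g M).mpr hr

/-- module NAg1 -/
theorem nonalpha_noncyclic [Finite G] (hG : IsMinSimpleOddOrder G) (hU : UniquenessThm G)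
    (hC : CentSqLE G) (h1417e : H1417e G) (h1418 : H1418full G) (h1424 : H1424 G)
    (hZ0 : LemmaZ0 G) (M L : Subgroup G) (hM : IsCoatom M) (hL : IsCoatom L) (p q : ℕ)
    [Fact p.Prime] [Fact q.Prime] (hpM : p ∈ tau1 M) (hp2 : PRankLE p 2 G) (hqM : q ∈ sigma M)
    (X : Subgroup G) (hXM : X ≤ M) (hX : Nat.card X = q)
    (hNX : Subgroup.normalizer (X : Set G) ≤ L) (T : Subgroup G) (hT : IsPGroup p T)
    (hTL : T ≤ L) (hTnc : ¬ IsCyclic ↥T) (P : Subgroup G) (hPT : P ≤ T) (hPM : P ≤ M)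
    (hP : Nat.card P = p) : False := by
  have hp : p.Prime := Fact.out
  have hq : q.Prime := Fact.out
  have hPp : IsPGroup p P := IsPGroup.of_card (n := 1) (by rw [hP, pow_one])
  have hP1 : P ≠ ⊥ := by
    intro h
    rw [h, Subgroup.card_bot] at hP
    exact hp.one_lt.ne hP
  have hp2' : p ≠ 2 := by
    have h1 := Cfsg.Agent.Lib.Helper34.dvd_card_of_isPGroup_ne_bot hPp hP1
    exact Cfsg.Agent.Lib.Helper54.ne_two_of_dvd_of_odd hG.1
      (h1.trans (Subgroup.card_subgroup_dvd_card _))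
  have hXq : IsPGroup q X := IsPGroup.of_card (n := 1) (by rw [hX, pow_one])
  have hX1 : X ≠ ⊥ := by
    intro h
    rw [h, Subgroup.card_bot] at hX
    exact hq.one_lt.ne hX
  have hcycM : ∀ Y : Subgroup G, IsPGroup p Y → Y ≤ M → IsCyclic ↥Y := fun Y hY hYM =>
    Cfsg.Agent.Lib.Helper54.isCyclic_of_pRankLE_one hp2' hY
      (Cfsg.Agent.Lib.Helper54.pRankLE_of_le hYM hpM.2.2.2.2)
  by_cases hLM : L = M
  · subst hLM
    exact hTnc (hcycM T hT hTL)
  obtain ⟨S, -, hSM, hSyl, -⟩ :=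
    exists_sylIn_of_normalizer_le h1424 M L hM hL hLM q hqM X hXq hX1 hXM hNX
  have hpσM : p ∉ sigma M := hpM.2.1
  have hpq : p ≠ q := fun h => hpσM (h ▸ hqM)
  have hT1 : T ≠ ⊥ := by
    intro h
    apply hTnc
    rw [h]
    exact isCyclic_of_subsingleton
  rcases Cfsg.Agent.Lib.Helper54.mem_sigma_or_tau2_of_normalizer_le hG hU L hL q X hXq hX1 hNX
    with hσ | hτ
  · have hpL : p ∣ Nat.card L :=
      (Cfsg.Agent.Lib.Helper34.dvd_card_of_isPGroup_ne_bot hT hT1).trans (Subgroup.card_dvd_of_le hTL)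
    have hpβ : p ∉ beta L := fun h =>
      h.1.2 (Cfsg.Agent.Lib.Helper54.pRankLE_of_injective L.subtype L.subtype_injective hp2)
    obtain ⟨g, hTg, -⟩ := hZ0 M L hM hL p q hpq hpL hpβ hqM hσ T hT hTL
    apply hTnc
    exact Cfsg.Agent.Lib.Helper54.isCyclic_of_pRankLE_one hp2' hT
      (Cfsg.Agent.Lib.Helper54.pRankLE_of_le hTg
        ((Cfsg.Agent.Lib.Helper54.pRankLE_conj_smul_iff g M).mpr hpM.2.2.2.2))
  · have h1 := tau2_false h1417e h1424 M L hM hL hLM q hqM hτ X hXq hX1 hXM hNX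
    obtain ⟨E, hE, hEM⟩ := tau2_compl_le hG hU hC h1418 M L hM hL q hqM hτ S hSM hSyl
    by_cases hpL : p ∈ sigma L
    · apply hP1
      rw [eq_bot_iff, ← h1]
      refine le_inf ?_ hPM
      exact Cfsg.Agent.Lib.Helper54.le_sigmaCore_of_isPi hG hU L hL (hPT.trans hTL)
        (fun t ht htd => by rw [prime_eq_of_dvd_card_isPGroup hPp ht htd]; exact hpL)
    · obtain ⟨l, -, hle⟩ := exists_cj_le_compl L E hE p hpL T hT hTL
      apply hTnc
      have hc : IsCyclic ↥(cj l T) :=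
        hcycM _ (Cfsg.Agent.Lib.Helper33.isPGroup_cj hT) (hle.trans hEM)
      exact isCyclic_of_surjective (Cfsg.Agent.Lib.Helper33.cjEquiv l T).symm
        (Cfsg.Agent.Lib.Helper33.cjEquiv l T).symm.surjective

/-- module NAg2 -/
theorem nonalpha_cyclic [Finite G] (hG : IsMinSimpleOddOrder G) (hU : UniquenessThm G)
    (hC : CentSqLE G) (h1417e : H1417e G) (h1418 : H1418full G) (h1424 : H1424 G)
    (hZ0 : LemmaZ0 G) (M L : Subgroup G) (hM : IsCoatom M) (hL : IsCoatom L) (p q : ℕ)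
    [Fact p.Prime] [Fact q.Prime] (hpM : p ∈ tau1 M) (hqM : q ∈ sigma M)
    (X : Subgroup G) (hXM : X ≤ M) (hX : Nat.card X = q)
    (hNX : Subgroup.normalizer (X : Set G) ≤ L) (T : Sylow p G)
    (hTc : IsCyclic ↥(T : Subgroup G)) (hTL : (T : Subgroup G) ≤ L) (P : Subgroup G)
    (hPT : P ≤ (T : Subgroup G)) (hPM : P ≤ M) (hP : Nat.card P = p) (y : G)
    (hyT : y ∈ Subgroup.normalizer ((T : Subgroup G) : Set G)) (hyL : y ∈ L)
    (hyP : y ∉ Subgroup.centralizer (P : Set G)) : False := by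
  have hp : p.Prime := Fact.out
  have hq : q.Prime := Fact.out
  have hPp : IsPGroup p P := IsPGroup.of_card (n := 1) (by rw [hP, pow_one])
  have hP1 : P ≠ ⊥ := by
    intro h
    rw [h, Subgroup.card_bot] at hP
    exact hp.one_lt.ne hP
  have hXq : IsPGroup q X := IsPGroup.of_card (n := 1) (by rw [hX, pow_one])
  have hX1 : X ≠ ⊥ := by
    intro h
    rw [h, Subgroup.card_bot] at hX
    exact hq.one_lt.ne hX
  have hNTP : Subgroup.normalizer ((T : Subgroup G) : Set G) ≤ Subgroup.normalizer (P : Set G) :=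
    Cfsg.Agent.Lib.Helper54.normalizer_le_normalizer_of_isCyclic hTc T.2 hPT
  have hCTP : Subgroup.centralizer ((T : Subgroup G) : Set G) ≤ Subgroup.centralizer (P : Set G) :=
    Subgroup.centralizer_le (by exact_mod_cast hPT)
  have hyNP : y ∈ Subgroup.normalizer (P : Set G) := hNTP hyT
  by_cases hLM : L = M
  · subst hLM
    exact hyP (tau1_normalizer_inf_le_centralizer hpM hPM hP ⟨hyL, hyNP⟩)
  obtain ⟨S, -, hSM, hSyl, -⟩ :=
    exists_sylIn_of_normalizer_le h1424 M L hM hL hLM q hqM X hXq hX1 hXM hNX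
  have hpσM : p ∉ sigma M := hpM.2.1
  have hpq : p ≠ q := fun h => hpσM (h ▸ hqM)
  have hPL : P ≤ L := hPT.trans hTL
  rcases Cfsg.Agent.Lib.Helper54.mem_sigma_or_tau2_of_normalizer_le hG hU L hL q X hXq hX1 hNX
    with hσ | hτ
  · have hpL : p ∣ Nat.card L := by
      rw [← hP]; exact Subgroup.card_dvd_of_le hPL
    have hr1 : PRankLE p 1 G :=
      Cfsg.Agent.Lib.Helper54.pRankLE_of_sylow T
        (Cfsg.Agent.Lib.Helper24.pRankLE_one_of_isCyclic p hp.pos hTc)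
    have hpβ : p ∉ beta L := fun h =>
      h.1.2 (Cfsg.Agent.Lib.Helper54.pRankLE_of_injective L.subtype L.subtype_injective
        (Cfsg.Agent.Lib.Helper54.pRankLE_mono_right hp.pos (by norm_num) hr1))
    obtain ⟨g, hTg, hy⟩ := hZ0 M L hM hL p q hpq hpL hpβ hqM hσ (T : Subgroup G) T.2 hTL
    obtain ⟨c, hc, hcy⟩ := hy y hyL hyT
    have hz : c⁻¹ * y ∈ Subgroup.centralizer (P : Set G) := by
      apply tau1_normalizer_inf_le_centralizer (tau1_conj_smul' hpM g) (hPT.trans hTg) hP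
      refine ⟨hcy, ?_⟩
      exact Subgroup.mul_mem _ (Subgroup.inv_mem _
        (hNTP (Subgroup.centralizer_le_normalizer _ hc))) hyNP
    apply hyP
    have := Subgroup.mul_mem _ (hCTP hc) hz
    simpa using this
  · have h1 := tau2_false h1417e h1424 M L hM hL hLM q hqM hτ X hXq hX1 hXM hNX
    obtain ⟨E, hE, hEM⟩ := tau2_compl_le hG hU hC h1418 M L hM hL q hqM hτ S hSM hSyl
    have hpL : p ∉ sigma L := by
      intro hpL
      apply hP1
      rw [eq_bot_iff, ← h1]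
      refine le_inf ?_ hPM
      exact Cfsg.Agent.Lib.Helper54.le_sigmaCore_of_isPi hG hU L hL hPL
        (fun t ht htd => by rw [prime_eq_of_dvd_card_isPGroup hPp ht htd]; exact hpL)
    obtain ⟨l, hl, hle⟩ := exists_cj_le_compl L E hE p hpL P hPp hPL
    -- `y' = l y l⁻¹ = e * s`
    obtain ⟨e, he, s, hs, hes⟩ := hE.2.2.2 (l * y * l⁻¹) (L.mul_mem (L.mul_mem hl hyL) (L.inv_mem hl))
    have hEL : E ≤ L := hE.1
    have hσn : L ≤ Subgroup.normalizer (sigmaCore L : Set G) :=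
      Cfsg.Agent.Lib.Helper54.le_normalizer_sigmaCore L
    have hy'N : ∀ x ∈ cj l P, (l * y * l⁻¹) * x * (l * y * l⁻¹)⁻¹ ∈ cj l P := by
      intro x hx
      rw [Cfsg.Agent.Lib.Helper33.mem_cj] at hx ⊢
      have h2 := (Subgroup.mem_normalizer_iff.mp hyNP _).mp hx
      have e2 : l⁻¹ * (l * y * l⁻¹ * x * (l * y * l⁻¹)⁻¹) * l = y * (l⁻¹ * x * l) * y⁻¹ := by group
      rw [e2]; exact h2
    -- `e` acts on `cj l P` as `y'` does
    have hact : ∀ x ∈ cj l P, e * x * e⁻¹ = (l * y * l⁻¹) * x * (l * y * l⁻¹)⁻¹ := by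
      intro x hx
      have hxE : x ∈ E := hle hx
      have hxL : x ∈ L := hEL hxE
      set w := (e * x * e⁻¹)⁻¹ * ((l * y * l⁻¹) * x * (l * y * l⁻¹)⁻¹) with hw
      have hwE : w ∈ E :=
        E.mul_mem (E.inv_mem (E.mul_mem (E.mul_mem he hxE) (E.inv_mem he))) (hle (hy'N x hx))
      have hwσ : w ∈ sigmaCore L := by
        have e3 : w = e * (x⁻¹ * s * x * s⁻¹) * e⁻¹ := by
          rw [hw, hes]; group
        rw [e3]
        have h3 : x⁻¹ * s * x ∈ sigmaCore L := by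
          have := (Subgroup.mem_normalizer_iff.mp (hσn (L.inv_mem hxL)) s).mp hs
          simpa using this
        exact (Subgroup.mem_normalizer_iff.mp (hσn (hEL he)) _).mp
          ((sigmaCore L).mul_mem h3 ((sigmaCore L).inv_mem hs))
      have hw1 : w = 1 := by
        have : w ∈ E ⊓ sigmaCore L := ⟨hwE, hwσ⟩
        rw [hE.2.2.1, Subgroup.mem_bot] at this
        exact this
      have : (e * x * e⁻¹) * w = (l * y * l⁻¹) * x * (l * y * l⁻¹)⁻¹ := by
        rw [hw]; group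
      rw [hw1, mul_one] at this
      exact this
    have hcard : Nat.card (cj l P) = p := by rw [Cfsg.Agent.Lib.Helper33.card_cj, hP]
    have heN : e ∈ Subgroup.normalizer ((cj l P : Subgroup G) : Set G) := by
      rw [Cfsg.Agent.Lib.Helper33.mem_normalizer_iff_cj_eq]
      apply Subgroup.eq_of_le_of_card_ge
      · intro z hz
        rw [Cfsg.Agent.Lib.Helper33.mem_cj] at hz
        have h4 := hact _ hz
        have h5 := hy'N _ hz
        rw [← h4] at h5
        have e4 : e * (e⁻¹ * z * e) * e⁻¹ = z := by group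
        rwa [e4] at h5
      · rw [Cfsg.Agent.Lib.Helper33.card_cj e]
    have heC : e ∈ Subgroup.centralizer ((cj l P : Subgroup G) : Set G) :=
      tau1_normalizer_inf_le_centralizer hpM (hle.trans hEM) hcard ⟨hEM he, heN⟩
    apply hyP
    rw [Subgroup.mem_centralizer_iff]
    intro x hx
    have hx' : l * x * l⁻¹ ∈ cj l P := Cfsg.Agent.Lib.Helper33.conj_mem_cj hx
    have h6 := hact _ hx'
    have h7 : e * (l * x * l⁻¹) * e⁻¹ = l * x * l⁻¹ := by
      have := Subgroup.mem_centralizer_iff.mp heC _ hx'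
      rw [← this]; group
    rw [h7] at h6
    have h8 : l * x * l⁻¹ = l * (y * x * y⁻¹) * l⁻¹ := by
      rw [h6]; group
    have h9 : x = y * x * y⁻¹ := by
      have := congrArg (fun z => l⁻¹ * z * l) h8
      simpa [mul_assoc] using this
    have : x * y = y * x * y⁻¹ * y := by rw [← h9]
    rw [this]; group

end Cfsg.Agent.Lib.Helper10.BG13
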