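import Mathlib
import Cfsg.Agent.Lib.Helper10.BGThirteenT
import Cfsg.Agent.Lib.Helper10.BGThirteenSetting

/-!
# Bender–Glauberman 13.4 (statement S1428): the case `p ∉ α(H)`, front part  (helper10)

`nonalpha_false` (module NAfront): in the main setting with `p ∉ α(H)`, derive `False` from Lemma Z
(`σ(M) ∩ σ(H) = ∅`), Lemma Y (Burnside) and the two modules NAg1 (`T` not cyclic), NAg2 (`T` cyclic),
all given as hypotheses.
-/

set_option autoImplicit false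
set_option maxHeartbeats 1000000

open scoped commutatorElement Pointwise

namespace Cfsg.Agent.Lib.Helper10.BG13

open Cfsg
open Cfsg.Agent.Lib.Helper33 (SylIn cj)
open Cfsg.Agent.Lib.Helper34 (UniquenessThm)

variable {G : Type*} [Group G]

/-- module NAfront -/
theorem nonalpha_false [Finite G] (hG : IsMinSimpleOddOrder G) (hU : UniquenessThm G)
    (h1414 : H1414 G) (h1417e : H1417e G) (h1418 : H1418full G) (h1424 : H1424 G)
    {M H : Subgroup G} {p q r : ℕ} [Fact p.Prime] [Fact q.Prime] [Fact r.Prime]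
    {P Q R : Subgroup G} (hset : MainSetting M H p q r P Q R) (hpα : p ∉ alpha H)
    (hZ : ∀ q' ∈ sigma M, q' ∉ sigma H)
    (hY : ∀ T : Sylow p G, IsCyclic ↥(T : Subgroup G) → ∀ P₁ : Subgroup G,
      P₁ ≤ (T : Subgroup G) → Nat.card P₁ = p →
        ¬ Subgroup.normalizer ((T : Subgroup G) : Set G) ≤ Subgroup.centralizer (P₁ : Set G))
    (hg1 : ∀ L : Subgroup G, IsCoatom L → ∀ X : Subgroup G, X ≤ M → Nat.card X = q →
      Subgroup.normalizer (X : Set G) ≤ L → ∀ T : Subgroup G, IsPGroup p T → T ≤ L →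
        ¬ IsCyclic ↥T → ∀ P₁ : Subgroup G, P₁ ≤ T → P₁ ≤ M → Nat.card P₁ = p → False)
    (hg2 : ∀ L : Subgroup G, IsCoatom L → ∀ X : Subgroup G, X ≤ M → Nat.card X = q →
      Subgroup.normalizer (X : Set G) ≤ L → ∀ T : Sylow p G, IsCyclic ↥(T : Subgroup G) →
        (T : Subgroup G) ≤ L → ∀ P₁ : Subgroup G, P₁ ≤ (T : Subgroup G) → P₁ ≤ M →
          Nat.card P₁ = p → ∀ y : G, y ∈ Subgroup.normalizer ((T : Subgroup G) : Set G) →
            y ∈ L → y ∉ Subgroup.centralizer (P₁ : Set G) → False) : False := by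
  obtain ⟨hM, hH, hnc, hpM, hpH, hrM, hrH, hrH1, hqM, hP, hR, hPM, hPH, hRM, hRH, hRP, hQq, hQ1,
    hQM, hQH, hQP, hRQ, hQR⟩ := hset
  have hp : p.Prime := Fact.out
  have hq : q.Prime := Fact.out
  have hr : r.Prime := Fact.out
  have hs : IsSimpleGroup G := hG.2.1
  have hne : H ≠ M := by
    intro h
    apply hnc 1
    rw [map_one, one_smul, h]
  have hPp : IsPGroup p P := IsPGroup.of_card (n := 1) (by rw [hP, pow_one])
  have hRr : IsPGroup r R := IsPGroup.of_card (n := 1) (by rw [hR, pow_one])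
  have hP1 : P ≠ ⊥ := by
    intro h
    rw [h, Subgroup.card_bot] at hP
    exact hp.one_lt.ne hP
  have hpσM : p ∉ sigma M := hpM.2.1
  have hpq : p ≠ q := fun h => hpσM (h ▸ hqM)
  have hqH : q ∉ sigma H := hZ q hqM
  have hHallH := (Cfsg.Agent.Lib.Helper54.sigmaCore_hall_of hG hU H hH).1
  have hPσ : P ≤ sigmaCore H :=
    Cfsg.Agent.Lib.Helper54.le_sigmaCore_of_isPi hG hU H hH hPH (fun t ht htd => by
      rw [prime_eq_of_dvd_card_isPGroup hPp ht htd]; exact hpH)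
  have hbot : sigmaCore H ⊓ M ≠ ⊥ := by
    intro h
    apply hP1
    rw [eq_bot_iff, ← h]
    exact le_inf hPσ hPM
  -- a subgroup `X` of order `q` of `Q`
  have hqQ : q ∣ Nat.card Q := Cfsg.Agent.Lib.Helper34.dvd_card_of_isPGroup_ne_bot hQq hQ1
  obtain ⟨x₀, hx₀⟩ := exists_prime_orderOf_dvd_card' q hqQ
  obtain ⟨x₁, hx₁⟩ : ∃ x₁ : G, x₁ = (x₀ : G) := ⟨_, rfl⟩
  have hx₁o : orderOf x₁ = q := by rw [hx₁, Subgroup.orderOf_coe, hx₀]
  have hx₁Q : x₁ ∈ Q := by rw [hx₁]; exact x₀.2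
  obtain ⟨X, hXdef⟩ : ∃ X : Subgroup G, X = Subgroup.zpowers x₁ := ⟨_, rfl⟩
  have hXc : Nat.card X = q := by rw [hXdef, Nat.card_zpowers, hx₁o]
  have hXQ : X ≤ Q := by rw [hXdef, Subgroup.zpowers_le]; exact hx₁Q
  have hXq : IsPGroup q X := hQq.to_le hXQ
  have hX1 : X ≠ ⊥ := by
    intro h
    rw [h, Subgroup.card_bot] at hXc
    exact hq.one_lt.ne hXc
  have hXM : X ≤ M := hXQ.trans (hQM.trans (Cfsg.Agent.Lib.Helper54.sigmaCore_le M))
  have hXH : X ≤ H := hXQ.trans hQH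
  have hXT : X ≠ ⊤ := Cfsg.Agent.Lib.Helper54.ne_top_of_isPGroup hG.2.1 hG.2.2.1 hXq
  have hPX : P ≤ Subgroup.centralizer (X : Set G) :=
    Subgroup.le_centralizer_iff.mp (hXQ.trans hQP)
  -- `q ∉ τ₂(H)`
  have hqτ : q ∉ tau2 H := by
    intro hτ
    have hXpi : ∀ t : ℕ, t.Prime → t ∣ Nat.card X → t ∉ sigma H := by
      intro t ht htd
      rw [prime_eq_of_dvd_card_isPGroup hXq ht htd]; exact hqH
    obtain ⟨E, hE, hXE⟩ := Cfsg.Agent.Lib.Helper97.BGTwelve.exists_complIn_ge (hG.2.2.2 H hH.1)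
      hHallH hXH hXpi
    have hrk : ¬ PRankLE q 1 ↥E :=
      Cfsg.Agent.Lib.Helper97.BGTwelve.not_pRankLE_complement hE
        (Cfsg.Agent.Lib.Helper54.sigmaCore_isPi H) hτ.2.1 hτ.2.2.2
    obtain ⟨A, hAE, hAe, hAc⟩ :=
      Cfsg.Agent.Lib.Helper97.BGTwelve.exists_elemAb_sq_of_not_pRankLE_one E hrk
    obtain ⟨⟨-, h1⟩, -, h3⟩ := h1418 H hH E hE q hτ A ⟨hAE, hAe, hAc⟩
    have hXA : X ≤ A := h1 X hXE hXc
    have hne' : sigmaCore H ⊓ Subgroup.centralizer (X : Set G) ≠ ⊥ := by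
      intro h
      apply hP1
      rw [eq_bot_iff, ← h]
      exact le_inf hPσ hPX
    obtain ⟨-, huniq⟩ := h3 X hXA hXc hne'
    obtain ⟨L', hL', hNL'⟩ := Cfsg.Agent.Lib.Helper54.exists_isCoatom_ge
      (Cfsg.Agent.Lib.Helper54.normalizer_ne_top_of_simple hG.2.1 hX1 hXT)
    have hL'H : L' = H := huniq L' hL' ((Subgroup.centralizer_le_normalizer _).trans hNL')
    rw [hL'H] at hNL'
    exact hbot (tau2_false h1417e h1424 M H hM hH hne q hqM hτ X hXq hX1 hXM hNL')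
  have hq1 : PRankLE q 1 ↥H := by
    by_contra h
    exact hqτ ⟨hq, hqH, Cfsg.Agent.Lib.Helper34.pRankLE_two_of_not_mem_sigma hU hH hqH, h⟩
  have hq2 : q ≠ 2 :=
    Cfsg.Agent.Lib.Helper54.ne_two_of_dvd_of_odd hG.1 (hqQ.trans (Subgroup.card_subgroup_dvd_card _))
  have hQc : IsCyclic ↥Q :=
    Cfsg.Agent.Lib.Helper54.isCyclic_of_pRankLE_one hq2 hQq
      (Cfsg.Agent.Lib.Helper54.pRankLE_of_le hQH hq1)
  -- the `(Q ⊔ R)`-invariant Sylow `p`-subgroup `T` of `H_σ` over `P`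
  have hHσn : H ≤ Subgroup.normalizer (sigmaCore H : Set G) :=
    Cfsg.Agent.Lib.Helper54.le_normalizer_sigmaCore H
  have hAH : Q ⊔ R ≤ H := sup_le hQH hRH
  have hcopA : (Nat.card (Q ⊔ R : Subgroup G)).Coprime (Nat.card (sigmaCore H)) := by
    apply Nat.coprime_of_dvd
    intro k hk hk1 hk2
    have hkσ : k ∈ sigma H := Cfsg.Agent.Lib.Helper54.sigmaCore_isPi H k hk hk2
    have h1 := hk1.trans (Cfsg.Agent.Lib.Helper22.card_sup_dvd_mul_of_le_normalizer hRQ)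
    rcases (Nat.Prime.dvd_mul hk).mp h1 with h | h
    · rw [prime_eq_of_dvd_card_isPGroup hQq hk h] at hkσ; exact hqH hkσ
    · rw [prime_eq_of_dvd_card_isPGroup hRr hk h] at hkσ; exact hrH hkσ
  have hAP : Q ⊔ R ≤ Subgroup.normalizer (P : Set G) :=
    sup_le (hQP.trans (Subgroup.centralizer_le_normalizer _))
      (hRP.trans (Subgroup.centralizer_le_normalizer _))
  have hsolvσ : Group.IsSolvable (sigmaCore H) :=
    hG.2.2.2 _ (ne_top_of_le_ne_top hH.1 (Cfsg.Agent.Lib.Helper54.sigmaCore_le H))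
  obtain ⟨T₀, hPT₀, hAT₀⟩ := Cfsg.Agent.Lib.Helper54.exists_invariant_sylow_ge (Q ⊔ R)
    (sigmaCore H) (hAH.trans hHσn) hcopA (Or.inr hsolvσ) p P hPσ hPp hAP
  have hfacts := Cfsg.Agent.Lib.Helper54.sylow_sigmaCore_facts hG hU H hH p hpH T₀
  obtain ⟨T, hT⟩ : ∃ T : Subgroup G, T = (T₀ : Subgroup (sigmaCore H)).map (sigmaCore H).subtype :=
    ⟨_, rfl⟩
  rw [← hT] at hPT₀ hAT₀ hfacts
  obtain ⟨hTmax, hNT⟩ := hfacts
  have hTp : IsPGroup p T := by rw [hT]; exact T₀.2.map _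
  have hTH : T ≤ H := by
    rw [hT]; exact (Subgroup.map_subtype_le _).trans (Cfsg.Agent.Lib.Helper54.sigmaCore_le H)
  -- `Q` centralizes `T`
  have hQT : Q ≤ Subgroup.centralizer (T : Set G) := by
    have hpdH : p ∣ Nat.card H := hpH.2.1
    obtain ⟨P₀, K₀, hK₀n, hK₀c⟩ := h1414 H hH p hp hpdH (fun h => hpα h.1)
    have hTc : T ≤ ⁅H, H⁆ :=
      Cfsg.Agent.Lib.Helper24.le_commutator_of_mem_sigma hG hU H hH p hpH hTp hTH
    have hQc' : Q ≤ ⁅H, H⁆ := by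
      rw [← hQR]; exact Subgroup.commutator_mono hQH hRH
    -- `Q ≤ K`
    have hidx : K₀.index = Nat.card (P₀ : Subgroup ↥⁅H, H⁆) := hK₀c.symm.index_eq_card
    have hQK : Q.subgroupOf ⁅H, H⁆ ≤ K₀ := by
      apply Cfsg.Agent.Lib.Helper54.le_of_normal_of_coprime_index K₀
      rw [hidx, Nat.card_congr (Subgroup.subgroupOfEquivOfLe hQc').toEquiv]
      obtain ⟨a, ha⟩ := IsPGroup.iff_card.mp hQq
      obtain ⟨b, hb⟩ := IsPGroup.iff_card.mp P₀.2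
      rw [ha, hb]
      exact Nat.Coprime.pow _ _ ((Nat.coprime_primes hq hp).mpr (Ne.symm hpq))
    have hpK : ¬ p ∣ Nat.card K₀ := by
      have h1 : (P₀ : Subgroup ↥⁅H, H⁆).index = Nat.card K₀ := hK₀c.index_eq_card
      rw [← h1]; exact P₀.not_dvd_index
    intro x hx
    rw [Subgroup.mem_centralizer_iff]
    intro t ht
    -- `⁅t, x⁆ ∈ T ∩ K = 1`
    have hxK : (⟨x, hQc' hx⟩ : ↥⁅H, H⁆) ∈ K₀ := hQK (Subgroup.mem_subgroupOf.mpr hx)
    have hcK : (⟨t, hTc ht⟩ * ⟨x, hQc' hx⟩ * ⟨t, hTc ht⟩⁻¹ * ⟨x, hQc' hx⟩⁻¹ : ↥⁅H, H⁆) ∈ K₀ :=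
      K₀.mul_mem (hK₀n.conj_mem _ hxK _) (K₀.inv_mem hxK)
    have hcT : t * x * t⁻¹ * x⁻¹ ∈ T := by
      have h1 : x * t⁻¹ * x⁻¹ ∈ T :=
        (Subgroup.mem_normalizer_iff.mp (hAT₀ (Subgroup.mem_sup_left hx)) _).mp (T.inv_mem ht)
      have e : t * x * t⁻¹ * x⁻¹ = t * (x * t⁻¹ * x⁻¹) := by group
      rw [e]; exact T.mul_mem ht h1
    -- the order of the commutator is a power of `p` and prime to `p`
    have ho1 : ∃ k : ℕ, orderOf (t * x * t⁻¹ * x⁻¹) = p ^ k := by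
      obtain ⟨k, hk⟩ := (IsPGroup.iff_orderOf.mp hTp) ⟨_, hcT⟩
      rw [Subgroup.orderOf_mk] at hk
      exact ⟨k, hk⟩
    have ho2 : orderOf (t * x * t⁻¹ * x⁻¹) ∣ Nat.card K₀ := by
      have h1 := orderOf_dvd_natCard (⟨_, hcK⟩ : ↥K₀)
      rw [Subgroup.orderOf_mk] at h1
      have h2 : orderOf (⟨t, hTc ht⟩ * ⟨x, hQc' hx⟩ * ⟨t, hTc ht⟩⁻¹ * ⟨x, hQc' hx⟩⁻¹ : ↥⁅H, H⁆) =
          orderOf (t * x * t⁻¹ * x⁻¹) := by
        rw [← Subgroup.orderOf_coe]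
        rfl
      rwa [h2] at h1
    obtain ⟨k, hk⟩ := ho1
    have hk0 : k = 0 := by
      by_contra hk0
      apply hpK
      exact (dvd_pow_self p hk0).trans (hk ▸ ho2)
    rw [hk0, pow_zero, orderOf_eq_one_iff] at hk
    have : t * x = x * t := by
      have h1 : t * x * t⁻¹ * x⁻¹ * x * t = x * t := by rw [hk, one_mul]
      rw [← h1]; group
    exact this
  have hTQ : T ≤ Subgroup.centralizer (Q : Set G) := Subgroup.le_centralizer_iff.mp hQT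
  -- the maximal subgroup `L` over `N_G(X)`
  obtain ⟨L, hL, hNL⟩ := Cfsg.Agent.Lib.Helper54.exists_isCoatom_ge
    (Cfsg.Agent.Lib.Helper54.normalizer_ne_top_of_simple hG.2.1 hX1 hXT)
  have hTL : T ≤ L :=
    hTQ.trans ((Subgroup.centralizer_le (by exact_mod_cast hXQ)).trans
      ((Subgroup.centralizer_le_normalizer _).trans hNL))
  by_cases hTc : IsCyclic ↥T
  swap
  · exact hg1 L hL X hXM hXc hNL T hTp hTL hTc P hPT₀ hPM hP
  -- `T` cyclic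
  obtain ⟨T₁, hT₁⟩ : ∃ T₁ : Sylow p G, (T₁ : Subgroup G) = T :=
    ⟨⟨T, hTp, fun {R'} hR' hle => hTmax R' hR' hle⟩, rfl⟩
  rw [← hT₁] at hTc hTL hPT₀ hNT hTQ
  have hY' := hY T₁ hTc P hPT₀ hP
  rw [SetLike.not_le_iff_exists] at hY'
  obtain ⟨y₀, hy₀N, hy₀P⟩ := hY'
  -- a Sylow `q`-subgroup of `C_G(T)` over `Q`
  have hQC : Q ≤ Subgroup.centralizer ((T₁ : Subgroup G) : Set G) := by rw [hT₁]; exact hQT
  have hCH : Subgroup.centralizer ((T₁ : Subgroup G) : Set G) ≤ H :=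
    (Subgroup.centralizer_le_normalizer _).trans hNT
  obtain ⟨Ŝ₀, hŜ₀⟩ := Cfsg.Agent.Lib.Helper34.exists_sylow_map_ge hQq hQC
  have hSyl := Cfsg.Agent.Lib.Helper33.sylIn_of_sylow Ŝ₀
  obtain ⟨Ŝ, hŜ⟩ : ∃ Ŝ : Subgroup G, Ŝ = (Ŝ₀ : Subgroup _).map
      (Subgroup.centralizer ((T₁ : Subgroup G) : Set G)).subtype := ⟨_, rfl⟩
  rw [← hŜ] at hŜ₀ hSyl
  have hŜc : IsCyclic ↥Ŝ :=
    Cfsg.Agent.Lib.Helper54.isCyclic_of_pRankLE_one hq2 hSyl.isPGroup
      (Cfsg.Agent.Lib.Helper54.pRankLE_of_le (hSyl.le.trans hCH) hq1)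
  have hNŜ : Subgroup.normalizer (Ŝ : Set G) ≤ Subgroup.normalizer (X : Set G) :=
    Cfsg.Agent.Lib.Helper54.normalizer_le_normalizer_of_isCyclic hŜc hSyl.isPGroup (hXQ.trans hŜ₀)
  obtain ⟨c, hc, hcy⟩ := exists_mul_mem_normalizer_of_sylIn hSyl
    (Cfsg.Agent.Lib.Helper9.normalizer_le_normalizer_centralizer _ hy₀N)
  have hcP : c ∈ Subgroup.centralizer (P : Set G) :=
    Subgroup.centralizer_le (by exact_mod_cast hPT₀) hc
  have hyN : c * y₀ ∈ Subgroup.normalizer ((T₁ : Subgroup G) : Set G) :=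
    Subgroup.mul_mem _ (Subgroup.centralizer_le_normalizer _ hc) hy₀N
  have hyP : c * y₀ ∉ Subgroup.centralizer (P : Set G) := by
    intro h
    apply hy₀P
    have := Subgroup.mul_mem _ (Subgroup.inv_mem _ hcP) h
    simpa using this
  exact hg2 L hL X hXM hXc hNL T₁ hTc hTL P hPT₀ hPM hP (c * y₀) hyN (hNL (hNŜ hcy)) hyP

end Cfsg.Agent.Lib.Helper10.BG13
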