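import Mathlib
import Cfsg.Agent.Lib.Helper10.BGThirteenN
import Cfsg.Agent.Lib.Helper10.BGThirteenC

/-!
# Bender–Glauberman Lemma 13.4 (statement S1428): reductions  (helper10)

`s1428_core`: the conclusion of S1428 from the Uniqueness Theorem (S1403), S1406, S1411, S1414, S1417(a,e),
S1418, S1424, S1427 and the modules Z (Lemma Z), Y (Burnside), NAg1, NAg2, AL1 of the proof, all as
hypotheses.
-/

set_option autoImplicit false
set_option maxHeartbeats 1000000

open scoped commutatorElement Pointwise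

namespace Cfsg.Agent.Lib.Helper10.BG13

open Cfsg
open Cfsg.Agent.Lib.Helper34 (UniquenessThm)
open Cfsg.Agent.Lib.Helper51.BG12 (H1406 H1411)
open Cfsg.Agent.Lib.Helper97.BGThirteen (H1417a)

variable {G : Type*} [Group G]

/-- two commuting subgroups of order `p` of `M`, of `p`-rank one (`p` odd), are equal -/
theorem le_of_card_eq_prime_of_pRankLE_one [Finite G] {M P R : Subgroup G} {p : ℕ} [Fact p.Prime]
    (hp2 : p ≠ 2) (hr1 : PRankLE p 1 ↥M) (hPM : P ≤ M) (hRM : R ≤ M) (hP : Nat.card P = p)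
    (hR : Nat.card R = p) (hRP : R ≤ Subgroup.normalizer (P : Set G)) : R ≤ P := by
  have hp : p.Prime := Fact.out
  have hcard : Nat.card (P ⊔ R : Subgroup G) ∣ p ^ 2 := by
    have := Cfsg.Agent.Lib.Helper22.card_sup_dvd_mul_of_le_normalizer hRP
    rwa [hP, hR, ← pow_two] at this
  obtain ⟨k, -, hk⟩ := (Nat.dvd_prime_pow hp).mp hcard
  have hPRp : IsPGroup p (P ⊔ R : Subgroup G) := IsPGroup.of_card hk
  have hcyc : IsCyclic ↥(P ⊔ R : Subgroup G) :=
    Cfsg.Agent.Lib.Helper54.isCyclic_of_pRankLE_one hp2 hPRp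
      (Cfsg.Agent.Lib.Helper54.pRankLE_of_le (sup_le hPM hRM) hr1)
  intro t ht
  apply mem_of_pow_eq_one_of_isCyclic hp hcyc le_sup_left hP (Subgroup.mem_sup_right ht)
  have h1 : (⟨t, ht⟩ : ↥R) ^ Nat.card R = 1 := pow_card_eq_one'
  rw [hR] at h1
  have h2 := congrArg (fun y : ↥R => (y : G)) h1
  simpa using h2

/-- the reductions of the proof of S1428 -/
theorem s1428_core [Finite G] (hG : IsMinSimpleOddOrder G) (hU : UniquenessThm G)
    (h1406 : H1406 G) (h1411 : H1411 G) (h1414 : H1414 G) (h1417a : H1417a G)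
    (h1417e : H1417e G) (h1418 : H1418full G) (h1424 : H1424 G) (h1427 : H1427 G)
    (hZ : ∀ M H : Subgroup G, IsCoatom M → IsCoatom H → ∀ p : ℕ, p ∈ tau1 M → p ∈ sigma H →
      p ∉ beta H → ∀ q ∈ sigma M, q ∉ sigma H)
    (hY : ∀ (p : ℕ) [Fact p.Prime] (T : Sylow p G), IsCyclic ↥(T : Subgroup G) →
      ∀ P₁ : Subgroup G, P₁ ≤ (T : Subgroup G) → Nat.card P₁ = p →
        ¬ Subgroup.normalizer ((T : Subgroup G) : Set G) ≤ Subgroup.centralizer (P₁ : Set G))
    (hg1 : ∀ M L : Subgroup G, IsCoatom M → IsCoatom L → ∀ (p q : ℕ) [Fact p.Prime]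
      [Fact q.Prime], p ∈ tau1 M → PRankLE p 2 G → q ∈ sigma M → ∀ X : Subgroup G, X ≤ M →
      Nat.card X = q → Subgroup.normalizer (X : Set G) ≤ L → ∀ T : Subgroup G, IsPGroup p T →
        T ≤ L → ¬ IsCyclic ↥T → ∀ P₁ : Subgroup G, P₁ ≤ T → P₁ ≤ M → Nat.card P₁ = p → False)
    (hg2 : ∀ M L : Subgroup G, IsCoatom M → IsCoatom L → ∀ (p q : ℕ) [Fact p.Prime]
      [Fact q.Prime], p ∈ tau1 M → q ∈ sigma M → ∀ X : Subgroup G, X ≤ M →
      Nat.card X = q → Subgroup.normalizer (X : Set G) ≤ L → ∀ T : Sylow p G,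
        IsCyclic ↥(T : Subgroup G) → (T : Subgroup G) ≤ L → ∀ P₁ : Subgroup G,
          P₁ ≤ (T : Subgroup G) → P₁ ≤ M → Nat.card P₁ = p → ∀ y : G,
            y ∈ Subgroup.normalizer ((T : Subgroup G) : Set G) → y ∈ L →
              y ∉ Subgroup.centralizer (P₁ : Set G) → False)
    (hAL1 : ∀ (M H : Subgroup G) (p q r : ℕ) [Fact p.Prime] [Fact q.Prime] [Fact r.Prime]
      (P Q R : Subgroup G), MainSetting M H p q r P Q R → p ∈ alpha H →
        ∃ S : Sylow q G, q ∈ sigma H ∧ Subgroup.normalizer ((S : Subgroup G) : Set G) ≤ M ∧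
          Subgroup.normalizer ((S : Subgroup G) : Set G) ≤ H)
    (M : Subgroup G) (hM : IsCoatom M) (E : Subgroup G) (hE : IsComplIn E (sigmaCore M) M)
    (p : ℕ) (hp : p ∈ tau1 M) (P : Subgroup G) (hPE : P ≤ E) (hP : Nat.card P = p)
    (R : Subgroup G) (hRE : R ≤ E ⊓ Subgroup.centralizer (P : Set G))
    (hR : (Nat.card R).Prime) :
    sigmaCore M ⊓ Subgroup.centralizer (P : Set G) ≤
      sigmaCore M ⊓ Subgroup.centralizer (R : Set G) := by
  have hpp : p.Prime := hp.1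
  have : Fact p.Prime := ⟨hpp⟩
  obtain ⟨r, hr⟩ : ∃ r : ℕ, Nat.card R = r := ⟨_, rfl⟩
  rw [hr] at hR
  have : Fact r.Prime := ⟨hR⟩
  have hs : IsSimpleGroup G := hG.2.1
  refine le_inf inf_le_left ?_
  obtain ⟨Y₀, hY₀⟩ : ∃ Y₀ : Subgroup G, Y₀ = sigmaCore M ⊓ Subgroup.centralizer (P : Set G) :=
    ⟨_, rfl⟩
  rw [← hY₀]
  have hY₀σ : Y₀ ≤ sigmaCore M := by rw [hY₀]; exact inf_le_left
  have hY₀P : Y₀ ≤ Subgroup.centralizer (P : Set G) := by rw [hY₀]; exact inf_le_right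
  have hPM : P ≤ M := hPE.trans hE.1
  have hRM : R ≤ M := (hRE.trans inf_le_left).trans hE.1
  have hRP : R ≤ Subgroup.centralizer (P : Set G) := hRE.trans inf_le_right
  have hPp : IsPGroup p P := IsPGroup.of_card (n := 1) (by rw [hP, pow_one])
  have hRr : IsPGroup r R := IsPGroup.of_card (n := 1) (by rw [hr, pow_one])
  have hP1 : P ≠ ⊥ := by
    intro h
    rw [h, Subgroup.card_bot] at hP
    exact hpp.one_lt.ne hP
  have hPT : P ≠ ⊤ := Cfsg.Agent.Lib.Helper54.ne_top_of_isPGroup hG.2.1 hG.2.2.1 hPp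
  have hp2 : p ≠ 2 := by
    have h1 := Cfsg.Agent.Lib.Helper34.dvd_card_of_isPGroup_ne_bot hPp hP1
    exact Cfsg.Agent.Lib.Helper54.ne_two_of_dvd_of_odd hG.1
      (h1.trans (Subgroup.card_subgroup_dvd_card _))
  have hHallM := (Cfsg.Agent.Lib.Helper54.sigmaCore_hall_of hG hU M hM).1
  have hrM : r ∉ sigma M := by
    intro h
    apply Cfsg.Agent.Lib.Helper97.BGTwelve.not_dvd_card_of_isComplIn hE hHallM hR h
    rw [← hr]
    exact Subgroup.card_dvd_of_le (hRE.trans inf_le_left)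
  have hpσM : p ∉ sigma M := hp.2.1
  -- the case `r = p`
  by_cases hrp : r = p
  · subst hrp
    have h1 : R ≤ P := le_of_card_eq_prime_of_pRankLE_one hp2 hp.2.2.2.2 hPM hRM hP hr
      (hRP.trans (Subgroup.centralizer_le_normalizer _))
    exact hY₀P.trans (Subgroup.centralizer_le (by exact_mod_cast h1))
  -- a maximal subgroup over `N_G(P)`
  obtain ⟨H₀, hH₀, hNH₀⟩ := Cfsg.Agent.Lib.Helper54.exists_isCoatom_ge
    (Cfsg.Agent.Lib.Helper54.normalizer_ne_top_of_simple hG.2.1 hP1 hPT)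
  have hnc₀ := Cfsg.Agent.Lib.Helper54.not_conj_of_normalizer_le hG hU M H₀ hM p P hPp hP1 hPM hNH₀
    (Or.inr (Or.inl hp))
  have hCH₀ : Subgroup.centralizer (P : Set G) ≤ H₀ :=
    (Subgroup.centralizer_le_normalizer _).trans hNH₀
  have hRY₀ : R ≤ Subgroup.normalizer (Y₀ : Set G) := by
    rw [hY₀]
    exact Cfsg.Agent.Lib.Helper54.le_normalizer_inf
      (hRM.trans (Cfsg.Agent.Lib.Helper54.le_normalizer_sigmaCore M))
      (hRP.trans Subgroup.le_normalizer)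
  have hPY₀ : P ≤ Subgroup.normalizer (Y₀ : Set G) := by
    rw [hY₀]
    exact Cfsg.Agent.Lib.Helper54.le_normalizer_inf
      (hPM.trans (Cfsg.Agent.Lib.Helper54.le_normalizer_sigmaCore M))
      ((Subgroup.le_normalizer).trans
        (Cfsg.Agent.Lib.Helper9.normalizer_le_normalizer_centralizer P))
  have h1418' : Cfsg.Agent.Lib.Helper97.BGThirteen.H1418 G := by
    intro L hL E' hE' q _ hq A hA
    have := h1418 L hL E' hE' q hq A hA
    exact ⟨this.1.1, this.2.1.2.2⟩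
  -- reduction to a maximal subgroup `H` with `p ∈ σ(H)`
  have hred : Y₀ ≤ Subgroup.centralizer (R : Set G) ∨
      ∃ H : Subgroup G, IsCoatom H ∧ (∀ g : G, MulAut.conj g • M ≠ H) ∧ p ∈ sigma H ∧ Y₀ ≤ H ∧
        P ≤ H ∧ R ≤ H := by
    rcases Cfsg.Agent.Lib.Helper54.mem_sigma_or_tau2_of_normalizer_le hG hU H₀ hH₀ p P hPp hP1 hNH₀
      with hσ | hτ
    · exact Or.inr ⟨H₀, hH₀, hnc₀, hσ, hY₀P.trans hCH₀, Subgroup.le_normalizer.trans hNH₀,
        hRP.trans hCH₀⟩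
    · by_cases hrH : r ∈ sigma H₀ ∨ r ∈ tau2 H₀
      · left
        have := Cfsg.Agent.Lib.Helper97.BGThirteen.comm_of_sigma_or_tau2 hG hU h1417a h1418' M H₀ hM
          hH₀ hnc₀ r hrM hrH Y₀ R hY₀σ hRr hRY₀ (hY₀P.trans hCH₀) (hRP.trans hCH₀)
        intro c hc
        rw [Subgroup.mem_centralizer_iff]
        intro s hs
        exact this c hc s hs
      · right
        push Not at hrH
        have hrσ : r ∉ sigma H₀ := hrH.1
        obtain ⟨A₀, hA₀⟩ :=
          Cfsg.Agent.Lib.Helper97.BGTwelve.exists_elemAb_sq_of_not_pRankLE_one H₀ hτ.2.2.2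
        have hnil := h1417a H₀ hH₀ p hτ A₀ hA₀
        have hnc₀' : ∀ g : G, MulAut.conj g • H₀ ≠ M := by
          intro g hg
          apply hnc₀ g⁻¹
          rw [← hg, ← mul_smul, ← map_mul, inv_mul_cancel, map_one, one_smul]
        have hdisj := ((Cfsg.Agent.Lib.Helper54.sigma_disjoint hG hU H₀ M hH₀ hM hnc₀').2 hnil).1
        have hPR : R ≤ Subgroup.normalizer (P : Set G) :=
          hRP.trans (Subgroup.centralizer_le_normalizer _)
        have hKH : Y₀ ⊔ (P ⊔ R) ≤ H₀ :=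
          sup_le (hY₀P.trans hCH₀) (sup_le (Subgroup.le_normalizer.trans hNH₀) (hRP.trans hCH₀))
        have hKpi : ∀ k : ℕ, k.Prime → k ∣ Nat.card (Y₀ ⊔ (P ⊔ R) : Subgroup G) →
            k ∉ sigma H₀ := by
          intro k hk hkd
          have h1 := hkd.trans (Cfsg.Agent.Lib.Helper22.card_sup_dvd_mul_of_le_normalizer
            (sup_le hPY₀ hRY₀))
          rcases (Nat.Prime.dvd_mul hk).mp h1 with h | h
          · intro hkH
            exact hdisj k hkH (Cfsg.Agent.Lib.Helper54.sigmaCore_isPi M k hk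
              (h.trans (Subgroup.card_dvd_of_le hY₀σ)))
          · have h2 := h.trans (Cfsg.Agent.Lib.Helper22.card_sup_dvd_mul_of_le_normalizer hPR)
            rcases (Nat.Prime.dvd_mul hk).mp h2 with h | h
            · rw [prime_eq_of_dvd_card_isPGroup hPp hk h]; exact hτ.2.1
            · rw [prime_eq_of_dvd_card_isPGroup hRr hk h]; exact hrσ
        have hHallH₀ := (Cfsg.Agent.Lib.Helper54.sigmaCore_hall_of hG hU H₀ hH₀).1
        obtain ⟨E₀, hE₀, hKE₀⟩ := Cfsg.Agent.Lib.Helper97.BGTwelve.exists_complIn_ge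
          (hG.2.2.2 H₀ hH₀.1) hHallH₀ hKH hKpi
        have hrk : ¬ PRankLE p 1 ↥E₀ :=
          Cfsg.Agent.Lib.Helper97.BGTwelve.not_pRankLE_complement hE₀
            (Cfsg.Agent.Lib.Helper54.sigmaCore_isPi H₀) hτ.2.1 hτ.2.2.2
        obtain ⟨A, hAE, hAe, hAc⟩ :=
          Cfsg.Agent.Lib.Helper97.BGTwelve.exists_elemAb_sq_of_not_pRankLE_one E₀ hrk
        obtain ⟨hEN, -⟩ := h1418' H₀ hH₀ E₀ hE₀ p hτ A ⟨hAE, hAe, hAc⟩
        have hAp : IsPGroup p A := Cfsg.Agent.Lib.Helper34.isPGroup_of_isElementaryAbelian hAe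
        have hA1 : A ≠ ⊥ := by
          intro h
          rw [h, Subgroup.card_bot] at hAc
          have := Nat.one_lt_pow (n := 2) (by norm_num) hpp.one_lt
          omega
        have hAT : A ≠ ⊤ := Cfsg.Agent.Lib.Helper54.ne_top_of_isPGroup hG.2.1 hG.2.2.1 hAp
        obtain ⟨L, hL, hNL⟩ := Cfsg.Agent.Lib.Helper54.exists_isCoatom_ge
          (Cfsg.Agent.Lib.Helper54.normalizer_ne_top_of_simple hG.2.1 hA1 hAT)
        have hpL : p ∈ sigma L :=
          Cfsg.Agent.Lib.Helper97.BGThirteen.mem_sigma_of_normalizer_elemAb_le hG hU h1418' L hL p A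
            hAe hAc hNL
        have hKL : Y₀ ⊔ (P ⊔ R) ≤ L := hKE₀.trans (hEN.trans hNL)
        refine ⟨L, hL, ?_, hpL, le_sup_left.trans hKL, (le_sup_left.trans le_sup_right).trans hKL,
          (le_sup_right.trans le_sup_right).trans hKL⟩
        intro g hg
        apply hpσM
        have := Cfsg.Agent.Lib.Helper24.mem_sigma_conj_smul hpL g⁻¹
        rwa [← hg, ← mul_smul, ← map_mul, inv_mul_cancel, map_one, one_smul] at this
  rcases hred with hdone | ⟨H, hH, hnc, hpH, hY₀H, hPH, hRH⟩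
  · exact hdone
  -- the prime `r` in `H`
  by_cases hrH : r ∈ sigma H ∨ r ∈ tau2 H
  · have := Cfsg.Agent.Lib.Helper97.BGThirteen.comm_of_sigma_or_tau2 hG hU h1417a h1418' M H hM hH hnc
      r hrM hrH Y₀ R hY₀σ hRr hRY₀ hY₀H hRH
    intro c hc
    rw [Subgroup.mem_centralizer_iff]
    intro s hs
    exact this c hc s hs
  push Not at hrH
  have hrσH : r ∉ sigma H := hrH.1
  have hrH1 : PRankLE r 1 ↥H := by
    by_contra h
    exact hrH.2 ⟨hR, hrσH, Cfsg.Agent.Lib.Helper34.pRankLE_two_of_not_mem_sigma hU hH hrσH, h⟩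
  -- the bad prime
  by_contra hnot
  have hcopY : (Nat.card Y₀).Coprime r := by
    rw [Nat.coprime_comm, Nat.Prime.coprime_iff_not_dvd hR]
    intro h
    exact hrM (Cfsg.Agent.Lib.Helper54.sigmaCore_isPi M r hR (h.trans (Subgroup.card_dvd_of_le hY₀σ)))
  obtain ⟨q, hqF, Q, hQY, hQq, hQ1, hRQ, hQR⟩ := exists_bad_prime hRr hRY₀ hcopY hnot
  have hq : q.Prime := hqF.out
  have hqM : q ∈ sigma M := by
    have h1 := Cfsg.Agent.Lib.Helper34.dvd_card_of_isPGroup_ne_bot hQq hQ1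
    exact Cfsg.Agent.Lib.Helper54.sigmaCore_isPi M q hq
      (h1.trans (Subgroup.card_dvd_of_le (hQY.trans hY₀σ)))
  have hset : MainSetting M H p q r P Q R :=
    ⟨hM, hH, hnc, hp, hpH, hrM, hrσH, hrH1, hqM, hP, hr, hPM, hPH, hRM, hRH, hRP, hQq, hQ1,
      hQY.trans hY₀σ, hQY.trans hY₀H, hQY.trans hY₀P, hRQ, hQR⟩
  by_cases hpα : p ∈ alpha H
  · obtain ⟨S, hqH, hNM, hNH⟩ := hAL1 M H p q r P Q R hset hpα
    exact alpha_false hG hU h1406 h1411 h1417a h1427 M H hM hH hnc p q hp hpα hqM hqH P hPM hPH hP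
      S hNM hNH
  · -- `G` has `p`-rank at most two
    have hp2G : PRankLE p 2 G := by
      obtain ⟨-, -, P₀, h0⟩ := hpH
      obtain ⟨Q₀, hQ₀⟩ := Cfsg.Agent.Lib.Helper34.exists_sylow_eq_map_of_normalizer_le P₀ h0
      apply Cfsg.Agent.Lib.Helper54.pRankLE_of_sylow Q₀
      have hQ₀H : (Q₀ : Subgroup G) ≤ H := by rw [hQ₀]; exact Subgroup.map_subtype_le _
      have hr2 : PRankLE p 2 ↥H := by
        by_contra h
        exact hpα ⟨hpp, h⟩
      exact Cfsg.Agent.Lib.Helper54.pRankLE_of_le hQ₀H hr2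
    exact nonalpha_false hG hU h1414 h1417e h1418 h1424 hset hpα
      (hZ M H hM hH p hp hpH (fun h => hpα h.1)) (hY p)
      (fun L hL X hXM hXc hNX T hTp hTL hTnc P₁ h1 h2 h3 =>
        hg1 M L hM hL p q hp hp2G hqM X hXM hXc hNX T hTp hTL hTnc P₁ h1 h2 h3)
      (fun L hL X hXM hXc hNX T hTc hTL P₁ h1 h2 h3 y hy1 hy2 hy3 =>
        hg2 M L hM hL p q hp hqM X hXM hXc hNX T hTc hTL P₁ h1 h2 h3 y hy1 hy2 hy3)

end Cfsg.Agent.Lib.Helper10.BG13
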