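import Mathlib
import Cfsg.Agent.Lib.Helper10.BGThirteenMain
import Cfsg.Agent.Lib.Helper10.BGThirteenA1
import Cfsg.Agent.Lib.Helper10.BGThirteenK
import Cfsg.Agent.Lib.Helper47.BGThirteenZ

/-!
# Bender–Glauberman Lemma 13.4 (statement S1428), assembled  (helper10)

`s1428_of`: the conclusion of S1428 from the Uniqueness Theorem (S1403) and (clauses of) S1406, S1411, S1414,
S1416, S1417, S1418, S1424, S1427, all given as hypotheses for the fixed group `G`.
-/

set_option autoImplicit false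

open scoped Pointwise

namespace Cfsg.Agent.Lib.Helper10.BG13

open Cfsg
open Cfsg.Agent.Lib.Helper34 (UniquenessThm)
open Cfsg.Agent.Lib.Helper51.BG12 (H1406 H1411)
open Cfsg.Agent.Lib.Helper97.BGThirteen (H1417a)
open Cfsg.Agent.Lib.Helper50 (CentSqLE)

variable {G : Type*} [Group G]

theorem lemmaZ0_of [Finite G] (hG : IsMinSimpleOddOrder G) (hU : UniquenessThm G)
    (h1414 : H1414 G) : LemmaZ0 G :=
  fun M L hM hL p q _ _ hpq hpL hpβ hqM hqL T hT hTL =>
    Cfsg.Agent.Lib.Helper47.BG13Z.exists_conj_ge_of_mem_sigma_inter hG hU h1414 M L hM hL p q hpq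
      hpL hpβ hqM hqL T hT hTL

/-- **Bender–Glauberman Lemma 13.4** (statement S1428), from literal earlier statements. -/
theorem s1428_of [Finite G] (hG : IsMinSimpleOddOrder G) (hU : UniquenessThm G)
    (h1406 : H1406 G) (h1411 : H1411 G) (h1414 : H1414 G) (hC : CentSqLE G) (h1417a : H1417a G)
    (h1417e : H1417e G) (h1418 : H1418full G) (h1424 : H1424 G) (h1427 : H1427 G)
    (M : Subgroup G) (hM : IsCoatom M) (E : Subgroup G) (hE : IsComplIn E (sigmaCore M) M)
    (p : ℕ) (hp : p ∈ tau1 M) (P : Subgroup G) (hPE : P ≤ E) (hP : Nat.card P = p)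
    (R : Subgroup G) (hRE : R ≤ E ⊓ Subgroup.centralizer (P : Set G))
    (hR : (Nat.card R).Prime) :
    sigmaCore M ⊓ Subgroup.centralizer (P : Set G) ≤
      sigmaCore M ⊓ Subgroup.centralizer (R : Set G) := by
  have hZ0 := lemmaZ0_of hG hU h1414
  exact s1428_core hG hU h1406 h1411 h1414 h1417a h1417e h1418 h1424 h1427
    (fun M H hM hH p hpM hpH hpβ =>
      Cfsg.Agent.Lib.Helper47.BG13Z.sigma_inter_eq_empty hG hU h1414 M H hM hH p hpM hpH hpβ)
    (fun p _ T hTc P₁ hPT hP₁ =>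
      Cfsg.Agent.Lib.Helper47.BG13Z.not_normalizer_le_centralizer_of_isCyclic hG p T hTc P₁ hPT hP₁)
    (fun M L hM hL p q _ _ hpM hp2 hqM X hXM hX hNX T hT hTL hTnc P₁ h1 h2 h3 =>
      nonalpha_noncyclic hG hU hC h1417e h1418 h1424 hZ0 M L hM hL p q hpM hp2 hqM X hXM hX hNX T hT
        hTL hTnc P₁ h1 h2 h3)
    (fun M L hM hL p q _ _ hpM hqM X hXM hX hNX T hTc hTL P₁ h1 h2 h3 y hy1 hy2 hy3 =>
      nonalpha_cyclic hG hU hC h1417e h1418 h1424 hZ0 M L hM hL p q hpM hqM X hXM hX hNX T hTc hTL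
        P₁ h1 h2 h3 y hy1 hy2 hy3)
    (fun M H p q r _ _ _ P Q R hset hpα =>
      alpha_exists_sylow hG hU h1406 h1417e h1424 hset hpα)
    M hM E hE p hp P hPE hP R hRE hR

end Cfsg.Agent.Lib.Helper10.BG13
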