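import Mathlib
import Cfsg.Prelude.Def_Transfer
import Cfsg.Agent.S0592

set_option autoImplicit false

/-!
# Quadratic pairs: from a faithful group on an elementary abelian `p`-group to `SL₂` (helper10)

`exists_hom_sl2`: if `H = ⟨a, b⟩` acts faithfully on the elementary abelian `p`-subgroup `V`, `a`, `b`
act quadratically and `H` is not a `p`-group, there is a finite field `K` of characteristic `p` and a
homomorphism `H → SL₂(K)` whose image is not a `p`-group; moreover `a ^ p = b ^ p = 1`.
-/

universe u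

open scoped TensorProduct commutatorElement

namespace Cfsg.Agent.Lib.Helper10

/-- An elementary abelian `p`-subgroup `V` normalized by `H`, as a `ZMod p`-representation of `H`. -/
theorem exists_conj_rep {G : Type u} [Group G] (p : ℕ) [Fact p.Prime] (V H : Subgroup G)
    (hV : Cfsg.IsElementaryAbelian p V) (hHV : H ≤ Subgroup.normalizer (V : Set G)) :
    ∃ (A : Type u) (_ : AddCommGroup A) (_ : Module (ZMod p) A) (e : V ≃ A)
      (ρ : Representation (ZMod p) H A),
      (∀ a b : V, e (a * b) = e a + e b) ∧ (e 1 = 0) ∧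
      (∀ (x : H) (n : V), ((e.symm (ρ x (e n)) : V) : G) = (x : G) * (n : G) * (x : G)⁻¹) := by
  obtain ⟨hc, hpw⟩ := hV
  let instC : CommGroup V := { (inferInstance : Group V) with mul_comm := fun a b => hc.is_comm.comm a b }
  obtain ⟨instM⟩ : Nonempty (Module (ZMod p) (Additive V)) :=
    ⟨AddCommGroup.zmodModule (n := p) (by
      intro x
      have h := hpw ((Additive.toMul x : V) : G) (Additive.toMul x : V).2
      have h' : (Additive.toMul x : V) ^ p = 1 := Subtype.ext h
      change Additive.ofMul ((Additive.toMul x : V) ^ p) = 0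
      rw [h']
      rfl)⟩
  let α : H →* MulAut V := V.normalizerMonoidHom.comp (Subgroup.inclusion hHV)
  have hα : ∀ (x : H) (n : V), ((α x n : V) : G) = (x : G) * (n : G) * (x : G)⁻¹ := fun x n => rfl
  let F : H → Module.End (ZMod p) (Additive V) := fun x =>
    ((α x : MulAut V).toMonoidHom.toAdditive).toZModLinearMap p
  have hF : ∀ (x : H) (a : Additive V),
      (F x) a = Additive.ofMul ((α x : MulAut V) (Additive.toMul a)) :=
    fun _ _ => rfl
  have h1 : F 1 = 1 := by
    apply LinearMap.ext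
    intro a
    rw [hF, map_one]
    rfl
  have h2 : ∀ x y, F (x * y) = F x * F y := by
    intro x y
    apply LinearMap.ext
    intro a
    rw [Module.End.mul_apply, hF, hF, hF, map_mul]
    rfl
  refine ⟨Additive V, inferInstance, instM, Additive.ofMul,
    { toFun := F, map_one' := h1, map_mul' := h2 }, ?_, ?_, ?_⟩
  · intro a b
    rfl
  · rfl
  · intro x n
    exact hα x n


theorem closure_pair_subtype_eq_top {G : Type*} [Group G] (H : Subgroup G) (a b : G)
    (hab : H = Subgroup.closure {a, b}) (haH : a ∈ H) (hbH : b ∈ H) :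
    Subgroup.closure {(⟨a, haH⟩ : H), ⟨b, hbH⟩} = ⊤ := by
  rw [eq_top_iff]
  rintro ⟨g, hg⟩ -
  have hg' : g ∈ Subgroup.closure {a, b} := hab ▸ hg
  induction hg' using Subgroup.closure_induction with
  | mem g hg1 =>
    apply Subgroup.subset_closure
    rcases hg1 with rfl | hg1
    · exact Set.mem_insert _ _
    · rw [Set.mem_singleton_iff] at hg1
      subst hg1
      exact Set.mem_insert_of_mem _ (Set.mem_singleton _)
  | one => exact Subgroup.one_mem _
  | mul g h hg1 hh1 ihg ihh =>
    have hgH : g ∈ H := hab ▸ hg1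
    have hhH : h ∈ H := hab ▸ hh1
    exact Subgroup.mul_mem _ (ihg hgH) (ihh hhH)
  | inv g hg1 ihg =>
    have hgH : g ∈ H := hab ▸ hg1
    exact Subgroup.inv_mem _ (ihg hgH)

/-- quadratic action in commutator form gives a quadratic endomorphism -/
theorem quad_of_commutator {G : Type u} [Group G] {p : ℕ} [Fact p.Prime] (V H : Subgroup G)
    {A : Type u} [AddCommGroup A] [Module (ZMod p) A] (e : V ≃ A)
    (ρ : Representation (ZMod p) H A)
    (hadd : ∀ a b : V, e (a * b) = e a + e b) (he1 : e 1 = 0)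
    (hρ : ∀ (x : H) (n : V), ((e.symm (ρ x (e n)) : V) : G) = (x : G) * (n : G) * (x : G)⁻¹)
    (x : H) (hx : ⁅⁅V, Subgroup.zpowers (x : G)⁆, Subgroup.zpowers (x : G)⁆ = ⊥) :
    ∀ v : A, ρ x (ρ x v - v) = ρ x v - v := by
  intro v
  obtain ⟨n, rfl⟩ := e.surjective v
  have hinv : ∀ a : V, e a⁻¹ = - e a := by
    intro a
    have := hadd a a⁻¹
    rw [mul_inv_cancel, he1] at this
    exact (neg_eq_of_add_eq_zero_right this.symm).symm
  set n' : V := e.symm (ρ x (e n)) with hn'
  have hn'e : ρ x (e n) = e n' := by rw [hn', Equiv.apply_symm_apply]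
  have hn'v : (n' : G) = (x : G) * (n : G) * (x : G)⁻¹ := hρ x n
  have hsub : ρ x (e n) - e n = e (n' * n⁻¹) := by
    rw [hadd, hinv, hn'e, sub_eq_add_neg]
  rw [hsub]
  set w : V := n' * n⁻¹ with hw
  have hwv : (w : G) = ⁅(x : G), (n : G)⁆ := by
    rw [hw, Subgroup.coe_mul, hn'v, Subgroup.coe_inv, commutatorElement_def]
  have hwmem : (w : G) ∈ ⁅V, Subgroup.zpowers (x : G)⁆ := by
    rw [hwv, Subgroup.commutator_comm]
    exact Subgroup.commutator_mem_commutator (Subgroup.mem_zpowers _) n.2
  have hcomm : ⁅(w : G), (x : G)⁆ = 1 := by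
    have : ⁅(w : G), (x : G)⁆ ∈ ⁅⁅V, Subgroup.zpowers (x : G)⁆, Subgroup.zpowers (x : G)⁆ :=
      Subgroup.commutator_mem_commutator hwmem (Subgroup.mem_zpowers _)
    rw [hx] at this
    exact Subgroup.mem_bot.1 this
  rw [commutatorElement_eq_one_iff_commute] at hcomm
  have hfix : e.symm (ρ x (e w)) = w := by
    apply Subtype.ext
    rw [hρ x w]
    have := hcomm.eq
    rw [← this, mul_inv_cancel_right]
  have := congrArg e hfix
  rwa [Equiv.apply_symm_apply] at this


/-- base change of a quadratic endomorphism is quadratic -/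
theorem quad_baseChange {R : Type*} [CommRing R] (K : Type*) [CommRing K] [Algebra R K]
    {A : Type*} [AddCommGroup A] [Module R A] (T : Module.End R A)
    (hT : ∀ v, T (T v - v) = T v - v) :
    ∀ w : K ⊗[R] A, T.baseChange K (T.baseChange K w - w) = T.baseChange K w - w := by
  have h0 : (T - 1) * (T - 1) = 0 := by
    apply LinearMap.ext
    intro v
    simp only [Module.End.mul_apply, LinearMap.sub_apply, Module.End.one_apply, map_sub,
      LinearMap.zero_apply]
    have := hT v
    rw [map_sub] at this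
    rw [this, sub_self]
  have h1 : (T.baseChange K - 1) * (T.baseChange K - 1) = 0 := by
    have := congrArg (LinearMap.baseChange K) h0
    rw [LinearMap.baseChange_mul, LinearMap.baseChange_sub, LinearMap.baseChange_one,
      LinearMap.baseChange_zero] at this
    exact this
  intro w
  have := congrArg (fun f => f w) h1
  simp only [Module.End.mul_apply, LinearMap.sub_apply, Module.End.one_apply, map_sub,
    LinearMap.zero_apply] at this
  rw [map_sub]
  exact sub_eq_zero.1 this

theorem baseChange_eq_one_iff {p : ℕ} [Fact p.Prime] (K : Type*) [Field K] [Algebra (ZMod p) K]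
    {A : Type*} [AddCommGroup A] [Module (ZMod p) A] (T : Module.End (ZMod p) A) :
    T.baseChange K = 1 ↔ T = 1 := by
  constructor
  · intro h
    have hinj := LinearMap.baseChangeHom_injective (ZMod p) A K (N := A)
    apply hinj
    show T.baseChange K = (1 : Module.End (ZMod p) A).baseChange K
    rw [h, LinearMap.baseChange_one]
  · intro h
    rw [h, LinearMap.baseChange_one]

/-- number theory: for `k` prime to `p` there is `f ≠ 0` with `k ∣ p ^ f - 1` -/
theorem exists_dvd_pow_sub_one {p k : ℕ} (hp : p.Prime) (hk : ¬ p ∣ k) (hk0 : k ≠ 0) :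
    ∃ f : ℕ, f ≠ 0 ∧ k ∣ p ^ f - 1 := by
  have hcop : Nat.Coprime p k := (Nat.Prime.coprime_iff_not_dvd hp).2 hk
  refine ⟨Nat.totient k, (Nat.totient_pos.2 (Nat.pos_of_ne_zero hk0)).ne', ?_⟩
  have h := Nat.ModEq.pow_totient hcop
  exact (Nat.modEq_iff_dvd' (Nat.one_le_pow _ _ hp.pos)).1 h.symm

theorem exists_hom_sl2 {G : Type u} [Group G] [Finite G] {p : ℕ} [Fact p.Prime]
    (V H : Subgroup G) (hV : Cfsg.IsElementaryAbelian p V)
    (hHV : H ≤ Subgroup.normalizer (V : Set G))
    (hf : H ⊓ Subgroup.centralizer (V : Set G) = ⊥) (a b : G)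
    (hab : H = Subgroup.closure {a, b})
    (ha : ⁅⁅V, Subgroup.zpowers a⁆, Subgroup.zpowers a⁆ = ⊥)
    (hb : ⁅⁅V, Subgroup.zpowers b⁆, Subgroup.zpowers b⁆ = ⊥) (hnp : ¬ IsPGroup p H) :
    ∃ (K : Type) (_ : Field K) (_ : Fintype K) (_ : CharP K p)
      (φ : H →* Matrix.SpecialLinearGroup (Fin 2) K),
      ¬ IsPGroup p φ.range ∧ a ^ p = 1 ∧ b ^ p = 1 := by
  have hp : p.Prime := Fact.out
  have haH : a ∈ H := hab ▸ Subgroup.subset_closure (Set.mem_insert _ _)
  have hbH : b ∈ H :=
    hab ▸ Subgroup.subset_closure (Set.mem_insert_of_mem _ (Set.mem_singleton _))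
  obtain ⟨A, _, _, e, ρ₀, hadd, he1, hρ⟩ := exists_conj_rep p V H hV hHV
  have hfinA : Finite A := Finite.of_equiv V e
  set x : H := ⟨a, haH⟩ with hx
  set y : H := ⟨b, hbH⟩ with hy
  have hxy : Subgroup.closure {x, y} = ⊤ := closure_pair_subtype_eq_top H a b hab haH hbH
  have hqx : ∀ v : A, ρ₀ x (ρ₀ x v - v) = ρ₀ x v - v :=
    quad_of_commutator V H e ρ₀ hadd he1 hρ x ha
  have hqy : ∀ v : A, ρ₀ y (ρ₀ y v - v) = ρ₀ y v - v :=
    quad_of_commutator V H e ρ₀ hadd he1 hρ y hb
  -- faithful
  have hfaith : ∀ g : H, ρ₀ g = 1 → g = 1 := by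
    intro g hg
    have hgc : (g : G) ∈ Subgroup.centralizer (V : Set G) := by
      rw [Subgroup.mem_centralizer_iff]
      intro n hn
      have h1 := hρ g ⟨n, hn⟩
      rw [hg, Module.End.one_apply, Equiv.symm_apply_apply] at h1
      have h2 : n = (g : G) * n * (g : G)⁻¹ := h1
      calc n * (g : G) = (g : G) * n * (g : G)⁻¹ * (g : G) := by rw [← h2]
        _ = (g : G) * n := by group
    have : (g : G) ∈ H ⊓ Subgroup.centralizer (V : Set G) := ⟨g.2, hgc⟩
    rw [hf] at this
    exact Subtype.ext (Subgroup.mem_bot.1 this)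
  have hxp : x ^ p = 1 := by
    apply hfaith
    rw [map_pow]
    exact S0592.quad_pow_char (K := ZMod p) (p := p) (ρ₀ x) hqx
  have hyp : y ^ p = 1 := by
    apply hfaith
    rw [map_pow]
    exact S0592.quad_pow_char (K := ZMod p) (p := p) (ρ₀ y) hqy
  -- the order of x * y
  have ho : orderOf (x * y) ≠ 0 := (orderOf_pos (x * y)).ne'
  obtain ⟨e', k, hk, hek⟩ := Nat.exists_eq_pow_mul_and_not_dvd ho p hp.ne_one
  have hk0 : k ≠ 0 := by
    rintro rfl
    exact hk (dvd_zero p)
  obtain ⟨f, hf0, hkf⟩ := exists_dvd_pow_sub_one hp hk hk0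
  -- the field
  let K := GaloisField p f
  let _ : Fintype K := Fintype.ofFinite K
  have hcard : Fintype.card K = p ^ f := by
    rw [← Nat.card_eq_fintype_card]; exact GaloisField.card p f hf0
  -- base change
  let ρ : Representation K H (K ⊗[ZMod p] A) :=
    { toFun := fun g => (ρ₀ g).baseChange K
      map_one' := by rw [map_one]; exact LinearMap.baseChange_one _ _
      map_mul' := fun g h => by rw [map_mul]; exact LinearMap.baseChange_mul _ _ }
  have hρK : ∀ g : H, ρ g = (ρ₀ g).baseChange K := fun g => rfl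
  have hnp' : ¬ ∀ g : H, ∃ j : ℕ, ρ (g ^ (p ^ j)) = 1 := by
    intro h
    apply hnp
    intro g
    obtain ⟨j, hj⟩ := h g
    refine ⟨j, hfaith _ ?_⟩
    rw [hρK] at hj
    exact (baseChange_eq_one_iff K _).1 hj
  obtain ⟨φ, hφ⟩ := S0592.key (p := p) x y hxy _ (K ⊗[ZMod p] A) ρ rfl
    (quad_baseChange K (ρ₀ x) hqx) (quad_baseChange K (ρ₀ y) hqy)
    ⟨e', k, by rw [hcard]; exact hkf, by rw [← hek, pow_orderOf_eq_one, map_one]⟩ hnp'
  refine ⟨K, inferInstance, inferInstance, inferInstance, φ, hφ, ?_, ?_⟩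
  · exact congrArg Subtype.val hxp
  · exact congrArg Subtype.val hyp


end Cfsg.Agent.Lib.Helper10
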