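import Mathlib
import Cfsg.Prelude.Def_PLocal
import Cfsg.Prelude.Def_LocalEven
import Cfsg.Agent.Lib.Helper10.CentralNat
import Cfsg.Agent.Lib.Helper10.HyperStable
import Cfsg.Agent.Lib.Helper33.StabChain

/-!
# Lemma F for all odd primes (helper10)

`false_of_natural_over_central_odd`: the statement of `false_of_natural_over_central` for every odd
prime `p` (with the slightly stronger hypothesis that the whole preimage `R₁` of the image of `E`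
centralizes `K`).

Proof: a `2`-element `z ∈ ⟨a, a'⟩` inducing `-1` centralizes `K`, and `z²` centralizes `R₁`.
Modifying `a`, `a'` by elements acting trivially on `R₁ / K` we get `c ↦ u(-1)`, `b ↦ l(1)` commuting
with `z` in their action on `R₁`.  With `ζ = [m, m']` and `Z₀ = ⟨ζ⟩ = [R₁, R₁]`, the subgroup
`T = {r ∈ R₁ | z r z⁻¹ r ∈ Z₀}` satisfies `T K = R₁`, `T ∩ K = Z₀`, is normalized by `c` and `b`, and
a suitable `x ∈ T c` is quadratic on `T`; stability gives the same contradiction as for `p ≥ 5`.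
-/

set_option autoImplicit false
set_option linter.unusedSectionVars false

namespace Cfsg.Agent.Lib.Helper10

open Cfsg
open scoped commutatorElement
open Cfsg.Agent.Lib.Helper41

section abstract

/-- an involution `z`, an element `a` with `a z a⁻¹ = z y`, `y` of odd order: `y^((q+1)/2) a`
commutes with `z` -/
theorem conj_eq_of_odd_twist {A : Type*} [Group A] (z y a : A) (q : ℕ) (hq : Odd q)
    (hz : z ^ 2 = 1) (hy : y ^ q = 1) (ha : a * z * a⁻¹ = z * y) :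
    (y ^ ((q + 1) / 2) * a) * z * (y ^ ((q + 1) / 2) * a)⁻¹ = z := by
  have hzinv : z⁻¹ = z := by
    apply inv_eq_of_mul_eq_one_left
    rw [← pow_two]; exact hz
  have h1 : (z * y) ^ 2 = 1 := by
    rw [← ha, conj_pow, hz]; group
  have h2 : z * y * z⁻¹ = y⁻¹ := by
    rw [hzinv]
    apply eq_inv_of_mul_eq_one_left
    rw [pow_two] at h1
    rw [← h1]; group
  obtain ⟨k, hk⟩ := hq
  have hh : (q + 1) / 2 = k + 1 := by omega
  rw [hh]
  have h3 : z * y ^ (k + 1) * z⁻¹ = (y ^ (k + 1))⁻¹ := by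
    rw [← conj_pow, h2, inv_pow]
  have h4 : y ^ (k + 1) * y ^ (k + 1) = y := by
    rw [← pow_add]
    have : k + 1 + (k + 1) = q + 1 := by omega
    rw [this, pow_succ, hy, one_mul]
  have h5 : z⁻¹ * y ^ (k + 1) * z = (y ^ (k + 1))⁻¹ := by
    have := h3
    rw [hzinv] at this ⊢
    nth_rewrite 2 [← hzinv] at this
    rw [hzinv] at this
    exact this
  have hcomm : Commute (y ^ (k + 1)) y := (Commute.refl y).pow_left _
  calc (y ^ (k + 1) * a) * z * (y ^ (k + 1) * a)⁻¹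
      = y ^ (k + 1) * (a * z * a⁻¹) * (y ^ (k + 1))⁻¹ := by group
    _ = y ^ (k + 1) * (z * y) * (y ^ (k + 1))⁻¹ := by rw [ha]
    _ = z * (z⁻¹ * y ^ (k + 1) * z) * y * (y ^ (k + 1))⁻¹ := by group
    _ = z * (y ^ (k + 1))⁻¹ * y * (y ^ (k + 1))⁻¹ := by rw [h5]
    _ = z * ((y ^ (k + 1))⁻¹ * (y ^ (k + 1) * y ^ (k + 1)) * (y ^ (k + 1))⁻¹) := by
        rw [h4]; group
    _ = z := by group

/-- `g` normalizes `T` if `g` and `g⁻¹` conjugate `T` into `T` -/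
theorem mem_normalizer_of_conj_le {G : Type*} [Group G] (T : Subgroup G) (g : G)
    (h1 : ∀ t ∈ T, g * t * g⁻¹ ∈ T) (h2 : ∀ t ∈ T, g⁻¹ * t * g ∈ T) :
    g ∈ Subgroup.normalizer (T : Set G) := by
  rw [Subgroup.mem_normalizer_iff]
  intro t
  refine ⟨h1 t, fun h => ?_⟩
  have := h2 _ h
  have e : g⁻¹ * (g * t * g⁻¹) * g = t := by group
  rwa [e] at this

end abstract

section classtwo

variable {G : Type*} [Group G] (R K : Subgroup G)
  (hcen : ∀ k ∈ K, ∀ r ∈ R, k * r = r * k)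
  (hcomm : ∀ r ∈ R, ∀ s ∈ R, ⁅r, s⁆ ∈ K)

include hcen hcomm

theorem c2_mul_left {r s t : G} (hr : r ∈ R) (hs : s ∈ R) (ht : t ∈ R) :
    ⁅r * s, t⁆ = ⁅r, t⁆ * ⁅s, t⁆ := by
  have h1 : ⁅r * s, t⁆ = r * ⁅s, t⁆ * r⁻¹ * ⁅r, t⁆ := by
    simp only [commutatorElement_def]; group
  have h2 : ⁅s, t⁆ * r = r * ⁅s, t⁆ := hcen _ (hcomm s hs t ht) r hr
  have h3 : ⁅s, t⁆ * ⁅r, t⁆ = ⁅r, t⁆ * ⁅s, t⁆ :=
    hcen _ (hcomm s hs t ht) _ (by
      rw [commutatorElement_def]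
      exact R.mul_mem (R.mul_mem (R.mul_mem hr ht) (R.inv_mem hr)) (R.inv_mem ht))
  rw [h1, ← h2, mul_inv_cancel_right, h3]

theorem c2_mul_right {r s t : G} (hr : r ∈ R) (hs : s ∈ R) (ht : t ∈ R) :
    ⁅r, s * t⁆ = ⁅r, s⁆ * ⁅r, t⁆ := by
  have h1 : ⁅r, s * t⁆ = ⁅r, s⁆ * (s * ⁅r, t⁆ * s⁻¹) := by
    simp only [commutatorElement_def]; group
  have h2 : ⁅r, t⁆ * s = s * ⁅r, t⁆ := hcen _ (hcomm r hr t ht) s hs
  rw [h1, ← h2, mul_inv_cancel_right]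

theorem c2_central_left {k t : G} (hk : k ∈ K) (ht : t ∈ R) : ⁅k, t⁆ = 1 := by
  rw [commutatorElement_eq_one_iff_commute]
  exact hcen k hk t ht

theorem c2_central_right {k t : G} (hk : k ∈ K) (ht : t ∈ R) : ⁅t, k⁆ = 1 := by
  rw [commutatorElement_eq_one_iff_commute]
  exact (hcen k hk t ht).symm

theorem c2_pow_left {r t : G} (hr : r ∈ R) (ht : t ∈ R) (n : ℕ) : ⁅r ^ n, t⁆ = ⁅r, t⁆ ^ n := by
  induction n with
  | zero => simp
  | succ n ih =>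
    rw [pow_succ, c2_mul_left R K hcen hcomm (R.pow_mem hr n) hr ht, ih, pow_succ]

theorem c2_pow_right {r t : G} (hr : r ∈ R) (ht : t ∈ R) (n : ℕ) : ⁅r, t ^ n⁆ = ⁅r, t⁆ ^ n := by
  induction n with
  | zero => simp
  | succ n ih =>
    rw [pow_succ, c2_mul_right R K hcen hcomm hr (R.pow_mem ht n) ht, ih, pow_succ]

theorem c2_inv_right {r t : G} (hr : r ∈ R) (ht : t ∈ R) : ⁅r, t⁻¹⁆ = ⁅r, t⁆⁻¹ := by
  have h := c2_mul_right R K hcen hcomm hr ht (R.inv_mem ht)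
  rw [mul_inv_cancel] at h
  have h0 : ⁅r, (1 : G)⁆ = 1 := by simp
  rw [h0] at h
  exact (inv_eq_of_mul_eq_one_right h.symm).symm

end classtwo

section lemmaFodd

variable {Γ : Type*} [Group Γ] {p : ℕ} [Fact p.Prime]

theorem coe_diagSL_neg_one_mulVec (h : (-1 : ZMod p) ≠ 0) (x : Fin 2 → ZMod p) :
    ((diagSL (-1 : ZMod p) h : Matrix.SpecialLinearGroup (Fin 2) (ZMod p)) :
      Matrix (Fin 2) (Fin 2) (ZMod p)).mulVec x = -x := by
  rw [coe_diagSL, Cfsg.Agent.Lib.Helper46.mulVec_two]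
  funext i
  fin_cases i <;> simp [inv_neg]

/-- **Lemma F for odd `p`.** -/
theorem false_of_natural_over_central_odd [Finite Γ] (hp2 : p ≠ 2)
    (hst : IsNormalizerPStable p Γ) (K : Subgroup Γ) [hKn : K.Normal] (hKp : IsPGroup p K)
    (E : (Fin 2 → ZMod p) → Γ ⧸ K) (hE_add : ∀ x y, E (x + y) = E x * E y)
    (hE_inj : Function.Injective E)
    (hRK : ∀ v : Γ, (∃ x, E x = QuotientGroup.mk' K v) → ∀ k ∈ K, k * v = v * k)
    (a a' : Γ)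
    (ha : (a, upperU (-1 : ZMod p)) ∈ liftPairs K E)
    (ha' : (a', lowerU (1 : ZMod p)) ∈ liftPairs K E)
    (hcop : ∀ g ∈ Subgroup.closure ({a, a'} : Set Γ), (orderOf g).Coprime p →
      g ∈ Subgroup.centralizer (K : Set Γ)) : False := by
  classical
  have hpp : p.Prime := Fact.out
  have hpodd : Odd p := hpp.odd_of_ne_two hp2
  have hneg1 : (-1 : ZMod p) ≠ 0 := neg_ne_zero.mpr one_ne_zero
  obtain ⟨π, hπ⟩ : ∃ π : Γ →* Γ ⧸ K, π = QuotientGroup.mk' K := ⟨_, rfl⟩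
  have hπsurj : Function.Surjective π := by rw [hπ]; exact QuotientGroup.mk'_surjective K
  have hπK : ∀ g, π g = 1 ↔ g ∈ K := by
    intro g; rw [hπ, QuotientGroup.mk'_apply, QuotientGroup.eq_one_iff]
  obtain ⟨𝔓, h𝔓⟩ : ∃ 𝔓, 𝔓 = liftPairs K E := ⟨_, rfl⟩
  have hmem : ∀ g s, (g, s) ∈ 𝔓 ↔ ∀ x, π g * E x * (π g)⁻¹ =
      E ((s : Matrix (Fin 2) (Fin 2) (ZMod p)).mulVec x) := by
    intro g s; rw [h𝔓, hπ]; exact mem_liftPairs K E g s
  rw [← h𝔓] at ha ha'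
  obtain ⟨𝔈, h𝔈⟩ : ∃ 𝔈 : Subgroup (Γ × Matrix.SpecialLinearGroup (Fin 2) (ZMod p)),
    𝔈 = Subgroup.closure {(a, upperU (-1 : ZMod p)), (a', lowerU (1 : ZMod p))} := ⟨_, rfl⟩
  have h𝔈le : 𝔈 ≤ 𝔓 := by
    rw [h𝔈, Subgroup.closure_le]
    rintro z (rfl | rfl)
    exacts [ha, ha']
  have hsnd : 𝔈.map (MonoidHom.snd Γ (Matrix.SpecialLinearGroup (Fin 2) (ZMod p))) = ⊤ := by
    apply sl2_eq_top_of_mem
    · exact ⟨(a, upperU (-1)), by rw [h𝔈]; exact Subgroup.subset_closure (by simp), rfl⟩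
    · exact ⟨(a', lowerU 1), by rw [h𝔈]; exact Subgroup.subset_closure (by simp), rfl⟩
  have hfst : ∀ z ∈ 𝔈, z.1 ∈ Subgroup.closure ({a, a'} : Set Γ) := by
    intro z hz
    have h1 : z.1 ∈ 𝔈.map (MonoidHom.fst Γ (Matrix.SpecialLinearGroup (Fin 2) (ZMod p))) :=
      ⟨z, hz, rfl⟩
    rw [h𝔈, MonoidHom.map_closure] at h1
    refine Subgroup.closure_mono ?_ h1
    rintro _ ⟨w, (rfl | rfl), rfl⟩ <;> simp
  have hCn : (Subgroup.centralizer (K : Set Γ)).Normal := Subgroup.normal_centralizer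
  have hcommK : ∀ g ∈ Subgroup.centralizer (K : Set Γ), ∀ k ∈ K, k * g = g * k := by
    intro g hg k hk
    exact (Subgroup.mem_centralizer_iff.mp hg) k hk
  -- the `p`-subgroup `R₁`
  obtain ⟨R₁, hR₁⟩ : ∃ R₁ : Subgroup Γ, R₁ = (rangeSub E hE_add).comap (QuotientGroup.mk' K) :=
    ⟨_, rfl⟩
  have hR₁mem : ∀ v, v ∈ R₁ ↔ ∃ x, E x = π v := by
    intro v; rw [hR₁, hπ]; exact Iff.rfl
  have hR₁p : IsPGroup p R₁ := by
    rw [hR₁]
    apply IsPGroup.comap_of_ker_isPGroup (isPGroup_rangeSub E hE_add)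
    rw [QuotientGroup.ker_mk']
    exact hKp
  have hN : ∀ g s, (g, s) ∈ 𝔓 → g ∈ Subgroup.normalizer (R₁ : Set Γ) := by
    intro g s h
    rw [hR₁]
    rw [h𝔓] at h
    exact mem_normalizer_of_mem_liftPairs K E hE_add h
  have hKR₁ : K ≤ R₁ := by
    intro k hk
    rw [hR₁mem]
    exact ⟨0, by rw [addHom_zero E hE_add, (hπK k).mpr hk]⟩
  have hcen : ∀ k ∈ K, ∀ r ∈ R₁, k * r = r * k := by
    intro k hk r hr
    apply hRK r _ k hk
    rw [← hπ]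
    exact (hR₁mem r).mp hr
  have hEcomm : ∀ x y, E x * E y = E y * E x := by
    intro x y
    rw [← hE_add, ← hE_add, add_comm]
  have hcommR : ∀ r ∈ R₁, ∀ s ∈ R₁, ⁅r, s⁆ ∈ K := by
    intro r hr s hs
    obtain ⟨x, hx⟩ := (hR₁mem r).mp hr
    obtain ⟨y, hy⟩ := (hR₁mem s).mp hs
    rw [← hπK, map_commutatorElement, ← hx, ← hy, commutatorElement_eq_one_iff_commute]
    exact hEcomm x y
  -- the basis lifts
  obtain ⟨m, hm⟩ := hπsurj (E ![1, 0])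
  obtain ⟨m', hm'⟩ := hπsurj (E ![0, 1])
  have hmR : m ∈ R₁ := (hR₁mem m).mpr ⟨_, hm.symm⟩
  have hm'R : m' ∈ R₁ := (hR₁mem m').mpr ⟨_, hm'.symm⟩
  have hrepr : ∀ r ∈ R₁, ∃ i j : ℕ, ∃ k ∈ K, r = m ^ i * m' ^ j * k := by
    intro r hr
    obtain ⟨x, hx⟩ := (hR₁mem r).mp hr
    refine ⟨(x 0).val, (x 1).val, (m ^ (x 0).val * m' ^ (x 1).val)⁻¹ * r, ?_, by group⟩
    rw [← hπK, map_mul, map_inv, map_mul, map_pow, map_pow, hm, hm', ← hx,
      ← addHom_nsmul E hE_add, ← addHom_nsmul E hE_add, ← hE_add]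
    have e : (x 0).val • ![(1 : ZMod p), 0] + (x 1).val • ![(0 : ZMod p), 1] = x := by
      funext i
      fin_cases i <;> simp
    rw [e, inv_mul_cancel]
  obtain ⟨ζ, hζ⟩ : ∃ ζ, ζ = ⁅m, m'⁆ := ⟨_, rfl⟩
  have hζK : ζ ∈ K := by rw [hζ]; exact hcommR m hmR m' hm'R
  have hζ' : ⁅m', m⁆ = ζ⁻¹ := by rw [hζ, commutatorElement_inv]
  -- all commutators lie in `⟨ζ⟩`
  have hcommZ : ∀ r ∈ R₁, ∀ s ∈ R₁, ⁅r, s⁆ ∈ Subgroup.zpowers ζ := by
    intro r hr s hs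
    obtain ⟨i, j, k, hk, rfl⟩ := hrepr r hr
    obtain ⟨i', j', k', hk', rfl⟩ := hrepr s hs
    have hmi : m ^ i ∈ R₁ := R₁.pow_mem hmR i
    have hmj : m' ^ j ∈ R₁ := R₁.pow_mem hm'R j
    have hmi' : m ^ i' ∈ R₁ := R₁.pow_mem hmR i'
    have hmj' : m' ^ j' ∈ R₁ := R₁.pow_mem hm'R j'
    have hs' : m ^ i' * m' ^ j' * k' ∈ R₁ := R₁.mul_mem (R₁.mul_mem hmi' hmj') (hKR₁ hk')
    have key : ∀ t ∈ R₁, ⁅t, m ^ i' * m' ^ j' * k'⁆ = ⁅t, m⁆ ^ i' * ⁅t, m'⁆ ^ j' := by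
      intro t ht
      rw [c2_mul_right R₁ K hcen hcommR ht (R₁.mul_mem hmi' hmj') (hKR₁ hk'),
        c2_central_right R₁ K hcen hcommR hk' ht, mul_one,
        c2_mul_right R₁ K hcen hcommR ht hmi' hmj',
        c2_pow_right R₁ K hcen hcommR ht hmR, c2_pow_right R₁ K hcen hcommR ht hm'R]
    rw [c2_mul_left R₁ K hcen hcommR (R₁.mul_mem hmi hmj) (hKR₁ hk) hs',
      c2_central_left R₁ K hcen hcommR hk hs', mul_one,
      c2_mul_left R₁ K hcen hcommR hmi hmj hs',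
      c2_pow_left R₁ K hcen hcommR hmR hs', c2_pow_left R₁ K hcen hcommR hm'R hs',
      key m hmR, key m' hm'R, ← hζ, hζ']
    have h1 : ⁅m, m⁆ = 1 := by simp
    have h2 : ⁅m', m'⁆ = 1 := by simp
    rw [h1, h2, one_pow, one_pow, one_mul, mul_one]
    exact mul_mem (pow_mem (pow_mem (Subgroup.mem_zpowers ζ) _) _)
      (pow_mem (pow_mem (inv_mem (Subgroup.mem_zpowers ζ)) _) _)
  -- the `2`-element inducing `-1`
  obtain ⟨D, hD⟩ : ∃ D : Matrix.SpecialLinearGroup (Fin 2) (ZMod p),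
    D = diagSL (-1 : ZMod p) hneg1 := ⟨_, rfl⟩
  have hDD : D * D = 1 := by
    rw [hD, ← diagSL_mul]
    have e : (-1 : ZMod p) * -1 = 1 := by ring
    rw [diagSL_congr _ e]
    exact diagSL_one
  have hDvec : ∀ x : Fin 2 → ZMod p, (D : Matrix (Fin 2) (Fin 2) (ZMod p)).mulVec x = -x := by
    intro x; rw [hD]; exact coe_diagSL_neg_one_mulVec hneg1 x
  have hDcomm : ∀ s : Matrix.SpecialLinearGroup (Fin 2) (ZMod p), s * D * s⁻¹ = D := by
    intro s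
    have h1 : s * D = D * s := by
      rw [hD]
      apply Subtype.ext
      rw [Matrix.SpecialLinearGroup.coe_mul, Matrix.SpecialLinearGroup.coe_mul, coe_diagSL]
      ext i j
      fin_cases i <;> fin_cases j <;> simp [Matrix.mul_apply, Fin.sum_univ_two, inv_neg]
    rw [h1]; group
  obtain ⟨z₀, hz₀𝔈, hz₀D⟩ : ∃ z ∈ 𝔈, z.2 = D := by
    have h1 : D ∈ 𝔈.map (MonoidHom.snd Γ (Matrix.SpecialLinearGroup (Fin 2) (ZMod p))) := by
      rw [hsnd]; trivial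
    obtain ⟨z, hz, hz2⟩ := h1
    exact ⟨z, hz, hz2⟩
  obtain ⟨e, o, ho, heo⟩ := Nat.exists_eq_pow_mul_and_not_dvd (orderOf_pos z₀.1).ne' 2
    (by norm_num)
  obtain ⟨z, hz⟩ : ∃ z, z = z₀.1 ^ o := ⟨_, rfl⟩
  have hzD : (z, D) ∈ 𝔈 := by
    have h1 := 𝔈.pow_mem hz₀𝔈 o
    have e1 : z₀ ^ o = (z, D) := by
      apply Prod.ext
      · rw [Prod.pow_fst, hz]
      · rw [Prod.pow_snd, hz₀D]
        obtain ⟨k, hk⟩ : Odd o := Nat.odd_iff.mpr (by omega)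
        rw [hk, pow_succ, pow_mul, pow_two, hDD, one_pow, one_mul]
    rwa [e1] at h1
  have hz2e : z ^ (2 ^ e) = 1 := by
    rw [hz, ← pow_mul, mul_comm, ← heo]; exact pow_orderOf_eq_one _
  have hzcop : (orderOf z).Coprime p := by
    have h1 : orderOf z ∣ 2 ^ e := orderOf_dvd_of_pow_eq_one hz2e
    apply Nat.Coprime.coprime_dvd_left h1
    apply Nat.Coprime.pow_left
    rw [Nat.coprime_primes Nat.prime_two hpp]; exact fun h => hp2 h.symm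
  have hzK : z ∈ Subgroup.centralizer (K : Set Γ) := hcop z (hfst _ hzD) hzcop
  have hzP : (z, D) ∈ 𝔓 := h𝔈le hzD
  have htriv : ∀ g : Γ, (g, (1 : Matrix.SpecialLinearGroup (Fin 2) (ZMod p))) ∈ 𝔓 →
      ∀ r ∈ R₁, g * r * g⁻¹ * r⁻¹ ∈ K := by
    intro g hg r hr
    obtain ⟨x, hx⟩ := (hR₁mem r).mp hr
    have h3 := (hmem _ _).mp hg x
    rw [Matrix.SpecialLinearGroup.coe_one, Matrix.one_mulVec, hx] at h3
    rw [← hπK, map_mul, map_mul, map_mul, map_inv, map_inv, h3, mul_inv_cancel]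
  have hz2R : z ^ 2 ∈ Subgroup.centralizer (R₁ : Set Γ) := by
    apply mem_centralizer_of_coprime_of_series R₁ K hR₁p hKR₁ (z ^ 2)
    · exact Nat.Coprime.coprime_dvd_left (orderOf_pow_dvd 2) hzcop
    · exact pow_mem hzK 2
    · apply htriv
      have h2 := 𝔓.mul_mem hzP hzP
      have e1 : (z, D) * (z, D) = (z ^ 2, 1) := by
        apply Prod.ext
        · show z * z = z ^ 2
          rw [pow_two]
        · exact hDD
      rwa [e1] at h2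
  -- the action on `R₁`
  obtain ⟨φ, hφ⟩ : ∃ φ : ↥(Subgroup.normalizer (R₁ : Set Γ)) →* MulAut ↥R₁,
    φ = R₁.normalizerMonoidHom := ⟨_, rfl⟩
  have hφa : ∀ (g : ↥(Subgroup.normalizer (R₁ : Set Γ))) (r : ↥R₁),
      ((φ g r : ↥R₁) : Γ) = (g : Γ) * r * (g : Γ)⁻¹ := by
    intro g r; rw [hφ]; rfl
  have hφ1 : ∀ g : ↥(Subgroup.normalizer (R₁ : Set Γ)),
      (g : Γ) ∈ Subgroup.centralizer (R₁ : Set Γ) → φ g = 1 := by
    intro g hg
    ext r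
    rw [hφa, MulAut.one_apply]
    have := (Subgroup.mem_centralizer_iff.mp hg) r r.2
    rw [← this]; group
  -- modification of an element so that it commutes with `z` on `R₁`
  have key4 : ∀ (g : Γ) (s : Matrix.SpecialLinearGroup (Fin 2) (ZMod p)), (g, s) ∈ 𝔓 →
      ∃ c : Γ, (c, s) ∈ 𝔓 ∧
        ∀ r ∈ R₁, z * (c * r * c⁻¹) * z⁻¹ = c * (z * r * z⁻¹) * c⁻¹ := by
    intro g s hgs
    obtain ⟨y, hy⟩ : ∃ y, y = z⁻¹ * (g * z * g⁻¹) := ⟨_, rfl⟩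
    have hyP : (y, (1 : Matrix.SpecialLinearGroup (Fin 2) (ZMod p))) ∈ 𝔓 := by
      have h1 := 𝔓.mul_mem (𝔓.inv_mem hzP) (𝔓.mul_mem (𝔓.mul_mem hgs hzP) (𝔓.inv_mem hgs))
      have e1 : (z, D)⁻¹ * ((g, s) * (z, D) * (g, s)⁻¹) = (y, 1) := by
        apply Prod.ext
        · rw [hy]; rfl
        · show D⁻¹ * (s * D * s⁻¹) = 1
          rw [hDcomm, inv_mul_cancel]
      rwa [e1] at h1
    have hyK : y ∈ Subgroup.centralizer (K : Set Γ) := by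
      rw [hy]; exact mul_mem (inv_mem hzK) (hCn.conj_mem z hzK g)
    obtain ⟨q, hq⟩ : ∃ q, q = Nat.card K := ⟨_, rfl⟩
    have hqodd : Odd q := by
      obtain ⟨n, hn⟩ := IsPGroup.iff_card.mp hKp
      rw [hq, hn]; exact hpodd.pow
    have hyq : y ^ q ∈ Subgroup.centralizer (R₁ : Set Γ) := by
      rw [Subgroup.mem_centralizer_iff]
      intro r hr
      have hκ : y * r * y⁻¹ * r⁻¹ ∈ K := htriv y hyP r hr
      have h4 := Cfsg.Agent.Lib.Helper33.pow_conj_of_mem_centralizer K hyK hκ q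
      have h5 : (y * r * y⁻¹ * r⁻¹) ^ q = 1 := by
        have h := pow_card_eq_one' (G := ↥K) (x := ⟨_, hκ⟩)
        have h' := congrArg Subtype.val h
        rw [Subgroup.coe_pow, Subgroup.coe_one] at h'
        rw [hq]
        exact h'
      rw [h5, one_mul] at h4
      calc r * y ^ q = (y ^ q * r * (y ^ q)⁻¹) * y ^ q := by rw [h4]
        _ = y ^ q * r := by group
    have hzN := hN _ _ hzP
    have hgN := hN _ _ hgs
    have hyN := hN _ _ hyP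
    have h6 := conj_eq_of_odd_twist (φ ⟨z, hzN⟩) (φ ⟨y, hyN⟩) (φ ⟨g, hgN⟩) q hqodd
      (by rw [← map_pow]; exact hφ1 _ (by simpa using hz2R))
      (by rw [← map_pow]; exact hφ1 _ (by simpa using hyq))
      (by
        rw [← map_inv, ← map_mul, ← map_mul, ← map_mul]
        congr 1
        apply Subtype.ext
        simp only [Subgroup.coe_mul, Subgroup.coe_inv]
        rw [hy]; group)
    refine ⟨y ^ ((q + 1) / 2) * g, ?_, ?_⟩
    · have h1 := 𝔓.mul_mem (𝔓.pow_mem hyP ((q + 1) / 2)) hgs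
      have e1 : (y, (1 : Matrix.SpecialLinearGroup (Fin 2) (ZMod p))) ^ ((q + 1) / 2) * (g, s) =
          (y ^ ((q + 1) / 2) * g, s) := by
        apply Prod.ext
        · rw [Prod.fst_mul, Prod.pow_fst]
        · rw [Prod.snd_mul, Prod.pow_snd, one_pow, one_mul]
      rwa [e1] at h1
    · intro r hr
      have h7 : (φ ⟨y, hyN⟩ ^ ((q + 1) / 2) * φ ⟨g, hgN⟩) * φ ⟨z, hzN⟩ =
          φ ⟨z, hzN⟩ * (φ ⟨y, hyN⟩ ^ ((q + 1) / 2) * φ ⟨g, hgN⟩) := by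
        calc _ = ((φ ⟨y, hyN⟩ ^ ((q + 1) / 2) * φ ⟨g, hgN⟩) * φ ⟨z, hzN⟩ *
              (φ ⟨y, hyN⟩ ^ ((q + 1) / 2) * φ ⟨g, hgN⟩)⁻¹) *
              (φ ⟨y, hyN⟩ ^ ((q + 1) / 2) * φ ⟨g, hgN⟩) := by group
          _ = _ := by rw [h6]
      rw [← map_pow, ← map_mul, ← map_mul, ← map_mul] at h7
      have h8 := congrArg (fun f : MulAut ↥R₁ => ((f ⟨r, hr⟩ : ↥R₁) : Γ)) h7
      simp only [hφa] at h8
      simp only [Subgroup.coe_mul, Subgroup.coe_pow] at h8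
      calc z * (y ^ ((q + 1) / 2) * g * r * (y ^ ((q + 1) / 2) * g)⁻¹) * z⁻¹
          = z * (y ^ ((q + 1) / 2) * g) * r * (z * (y ^ ((q + 1) / 2) * g))⁻¹ := by group
        _ = y ^ ((q + 1) / 2) * g * z * r * (y ^ ((q + 1) / 2) * g * z)⁻¹ := h8.symm
        _ = _ := by group
  obtain ⟨c, hcP, hcz⟩ := key4 a _ ha
  obtain ⟨b, hbP, hbz⟩ := key4 a' _ ha'
  have hzN := hN _ _ hzP
  have hzR : ∀ r ∈ R₁, z * r * z⁻¹ ∈ R₁ := fun r hr =>
    (Subgroup.mem_normalizer_iff.mp hzN r).mp hr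
  have hzk : ∀ k ∈ K, z * k * z⁻¹ = k := by
    intro k hk
    have := hcommK z hzK k hk
    rw [← this]; group
  -- exponent of `K`
  obtain ⟨q, hq⟩ : ∃ q, q = Nat.card K := ⟨_, rfl⟩
  have hqodd : Odd q := by
    obtain ⟨n, hn⟩ := IsPGroup.iff_card.mp hKp
    rw [hq, hn]; exact hpodd.pow
  have hKq : ∀ k ∈ K, k ^ q = 1 := by
    intro k hk
    have h := pow_card_eq_one' (G := ↥K) (x := ⟨k, hk⟩)
    have h' := congrArg Subtype.val h
    rw [Subgroup.coe_pow, Subgroup.coe_one] at h'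
    rw [hq]
    exact h'
  obtain ⟨q', hq'⟩ := hqodd
  have hsqrt : ∀ k ∈ K, (k ^ (q' + 1)) * (k ^ (q' + 1)) = k := by
    intro k hk
    rw [← pow_add]
    have : q' + 1 + (q' + 1) = q + 1 := by omega
    rw [this, pow_succ, hKq k hk, one_mul]
  -- `Z₀ = ⟨ζ⟩`
  obtain ⟨Z₀, hZ₀⟩ : ∃ Z₀ : Subgroup Γ, Z₀ = Subgroup.zpowers ζ := ⟨_, rfl⟩
  have hZ₀K : Z₀ ≤ K := by rw [hZ₀, Subgroup.zpowers_le]; exact hζK
  have hcommZ' : ∀ r ∈ R₁, ∀ s ∈ R₁, ⁅r, s⁆ ∈ Z₀ := by rw [hZ₀]; exact hcommZ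
  have hZ₀cen : ∀ k ∈ Z₀, ∀ r ∈ R₁, k * r = r * k := fun k hk r hr => hcen k (hZ₀K hk) r hr
  -- the subgroup `T`
  obtain ⟨T, hT⟩ : ∃ T : Subgroup Γ, ∀ r, r ∈ T ↔ (r ∈ R₁ ∧ z * r * z⁻¹ * r ∈ Z₀) := by
    refine ⟨{ carrier := {r | r ∈ R₁ ∧ z * r * z⁻¹ * r ∈ Z₀}
              mul_mem' := ?_
              one_mem' := ?_
              inv_mem' := ?_ }, fun r => Iff.rfl⟩
    · rintro r r' ⟨hr, hr2⟩ ⟨hr', hr2'⟩
      refine ⟨R₁.mul_mem hr hr', ?_⟩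
      have e : z * (r * r') * z⁻¹ * (r * r') =
          (z * r * z⁻¹) * ⁅z * r' * z⁻¹, r⁆ * r * (z * r' * z⁻¹ * r') := by
        simp only [commutatorElement_def]; group
      have hc1 : ⁅z * r' * z⁻¹, r⁆ ∈ Z₀ := hcommZ' _ (hzR r' hr') _ hr
      have hc2 : ⁅z * r' * z⁻¹, r⁆ * (z * r * z⁻¹) = (z * r * z⁻¹) * ⁅z * r' * z⁻¹, r⁆ :=
        hZ₀cen _ hc1 _ (hzR r hr)
      show z * (r * r') * z⁻¹ * (r * r') ∈ Z₀
      rw [e, ← hc2, mul_assoc (⁅z * r' * z⁻¹, r⁆), mul_assoc]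
      exact Z₀.mul_mem hc1 (Z₀.mul_mem hr2 hr2')
    · refine ⟨R₁.one_mem, ?_⟩
      show z * 1 * z⁻¹ * 1 ∈ Z₀
      simp only [mul_one, mul_inv_cancel]
      exact Z₀.one_mem
    · rintro r ⟨hr, hr2⟩
      refine ⟨R₁.inv_mem hr, ?_⟩
      have e : z * r⁻¹ * z⁻¹ * r⁻¹ = (⁅r, z * r * z⁻¹⁆ * (z * r * z⁻¹ * r))⁻¹ := by
        simp only [commutatorElement_def]; group
      show z * r⁻¹ * z⁻¹ * r⁻¹ ∈ Z₀
      rw [e]
      exact Z₀.inv_mem (Z₀.mul_mem (hcommZ' _ hr _ (hzR r hr)) hr2)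
  have hTR : T ≤ R₁ := fun r hr => ((hT r).mp hr).1
  have hTp : IsPGroup p T := hR₁p.to_le hTR
  have hTK : ∀ k ∈ T, k ∈ K → k ∈ Z₀ := by
    intro k hkT hkK
    have h1 := ((hT k).mp hkT).2
    rw [hzk k hkK] at h1
    have h2 := Z₀.mul_mem (Z₀.pow_mem h1 q') h1
    have e : (k * k) ^ q' * (k * k) = k ^ (q' + 1) * k ^ (q' + 1) := by
      rw [← pow_succ, ← pow_two, ← pow_mul, ← pow_add]
      congr 1; ring
    rw [e, hsqrt k hkK] at h2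
    exact h2
  have hzE : ∀ r ∈ R₁, r * (z * r * z⁻¹) ∈ K := by
    intro r hr
    obtain ⟨x, hx⟩ := (hR₁mem r).mp hr
    have h3 := (hmem _ _).mp hzP x
    rw [hDvec, addHom_neg E hE_add, hx] at h3
    rw [← hπK, map_mul, map_mul, map_mul, map_inv, h3, mul_inv_cancel]
  have hR₁T : ∀ r ∈ R₁, ∃ t ∈ T, ∃ k ∈ K, r = t * k := by
    intro r hr
    obtain ⟨κ, hκ⟩ : ∃ κ, κ = r * (z * r * z⁻¹) := ⟨_, rfl⟩
    have hκK : κ ∈ K := by rw [hκ]; exact hzE r hr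
    obtain ⟨h, hh⟩ : ∃ h, h = κ ^ (q' + 1) := ⟨_, rfl⟩
    have hhK : h ∈ K := by rw [hh]; exact K.pow_mem hκK _
    have hhh : h * h = r * (z * r * z⁻¹) := by rw [hh, hsqrt κ hκK, hκ]
    refine ⟨r * h⁻¹, ?_, h, hhK, by group⟩
    rw [hT]
    refine ⟨R₁.mul_mem hr (R₁.inv_mem (hKR₁ hhK)), ?_⟩
    have hzh : z * h⁻¹ * z⁻¹ = h⁻¹ := hzk _ (K.inv_mem hhK)
    have hhr : h⁻¹ * r = r * h⁻¹ := hcen _ (K.inv_mem hhK) r hr
    have e : z * (r * h⁻¹) * z⁻¹ * (r * h⁻¹) = ⁅z * r * z⁻¹, r⁆ := by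
      calc z * (r * h⁻¹) * z⁻¹ * (r * h⁻¹)
          = (z * r * z⁻¹) * (z * h⁻¹ * z⁻¹) * (r * h⁻¹) := by group
        _ = (z * r * z⁻¹) * h⁻¹ * (r * h⁻¹) := by rw [hzh]
        _ = (z * r * z⁻¹) * (h⁻¹ * r) * h⁻¹ := by group
        _ = (z * r * z⁻¹) * (r * h⁻¹) * h⁻¹ := by rw [hhr]
        _ = (z * r * z⁻¹) * r * (h * h)⁻¹ := by group
        _ = (z * r * z⁻¹) * r * (r * (z * r * z⁻¹))⁻¹ := by rw [hhh]
        _ = ⁅z * r * z⁻¹, r⁆ := by rw [commutatorElement_def]; group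
    rw [e]
    exact hcommZ' _ (hzR r hr) _ hr
  -- elements normalizing `T`
  have hnormT : ∀ (g : Γ) (s : Matrix.SpecialLinearGroup (Fin 2) (ZMod p)), (g, s) ∈ 𝔓 →
      g * ζ * g⁻¹ = ζ → (∀ r ∈ R₁, z * (g * r * g⁻¹) * z⁻¹ = g * (z * r * z⁻¹) * g⁻¹) →
      g ∈ Subgroup.normalizer (T : Set Γ) := by
    intro g s hgs hgζ hgz
    have hgN := hN _ _ hgs
    have hgR : ∀ r ∈ R₁, g * r * g⁻¹ ∈ R₁ := fun r hr =>
      (Subgroup.mem_normalizer_iff.mp hgN r).mp hr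
    have hgR' : ∀ r ∈ R₁, g⁻¹ * r * g ∈ R₁ := fun r hr => by
      have := (Subgroup.mem_normalizer_iff.mp (inv_mem hgN) r).mp hr
      simpa using this
    have hgZ : ∀ k ∈ Z₀, g * k * g⁻¹ = k := by
      intro k hk
      rw [hZ₀] at hk
      obtain ⟨n, rfl⟩ := Subgroup.mem_zpowers_iff.mp hk
      rw [← conj_zpow, hgζ]
    have hgZ' : ∀ k ∈ Z₀, g⁻¹ * k * g = k := by
      intro k hk
      have := hgZ k hk
      nth_rewrite 1 [← this]
      group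
    apply mem_normalizer_of_conj_le
    · intro t ht
      obtain ⟨htR, ht2⟩ := (hT t).mp ht
      rw [hT]
      refine ⟨hgR t htR, ?_⟩
      rw [hgz t htR]
      have e : g * (z * t * z⁻¹) * g⁻¹ * (g * t * g⁻¹) = g * (z * t * z⁻¹ * t) * g⁻¹ := by group
      rw [e, hgZ _ ht2]
      exact ht2
    · intro t ht
      obtain ⟨htR, ht2⟩ := (hT t).mp ht
      rw [hT]
      refine ⟨hgR' t htR, ?_⟩
      have h1 := hgz (g⁻¹ * t * g) (hgR' t htR)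
      have e1 : g * (g⁻¹ * t * g) * g⁻¹ = t := by group
      rw [e1] at h1
      have h2 : z * (g⁻¹ * t * g) * z⁻¹ = g⁻¹ * (z * t * z⁻¹) * g := by
        rw [h1]; group
      rw [h2]
      have e : g⁻¹ * (z * t * z⁻¹) * g * (g⁻¹ * t * g) = g⁻¹ * (z * t * z⁻¹ * t) * g := by group
      rw [e, hgZ' _ ht2]
      exact ht2
  -- the action on the basis
  have hvec1 : ((upperU (-1 : ZMod p) : Matrix.SpecialLinearGroup (Fin 2) (ZMod p)) :
      Matrix (Fin 2) (Fin 2) (ZMod p)).mulVec ![1, 0] = ![1, 0] := by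
    rw [coe_upperU, Cfsg.Agent.Lib.Helper46.mulVec_two]
    funext i; fin_cases i <;> simp
  have hvec2 : ((upperU (-1 : ZMod p) : Matrix.SpecialLinearGroup (Fin 2) (ZMod p)) :
      Matrix (Fin 2) (Fin 2) (ZMod p)).mulVec ![0, 1] = ![0, 1] + -![1, 0] := by
    rw [coe_upperU, Cfsg.Agent.Lib.Helper46.mulVec_two]
    funext i; fin_cases i <;> simp
  have hvec3 : ((lowerU (1 : ZMod p) : Matrix.SpecialLinearGroup (Fin 2) (ZMod p)) :
      Matrix (Fin 2) (Fin 2) (ZMod p)).mulVec ![1, 0] = ![1, 0] + ![0, 1] := by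
    rw [coe_lowerU, Cfsg.Agent.Lib.Helper46.mulVec_two]
    funext i; fin_cases i <;> simp
  have hvec4 : ((lowerU (1 : ZMod p) : Matrix.SpecialLinearGroup (Fin 2) (ZMod p)) :
      Matrix (Fin 2) (Fin 2) (ZMod p)).mulVec ![0, 1] = ![0, 1] := by
    rw [coe_lowerU, Cfsg.Agent.Lib.Helper46.mulVec_two]
    funext i; fin_cases i <;> simp
  have hmm : ⁅m, m⁆ = 1 := by simp
  have hm'm' : ⁅m', m'⁆ = 1 := by simp
  have hcζ : c * ζ * c⁻¹ = ζ := by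
    have hcN := hN _ _ hcP
    have hcR : ∀ r ∈ R₁, c * r * c⁻¹ ∈ R₁ := fun r hr =>
      (Subgroup.mem_normalizer_iff.mp hcN r).mp hr
    obtain ⟨k₁, hk₁, hk₁e⟩ : ∃ k₁ ∈ K, c * m * c⁻¹ = m * k₁ := by
      refine ⟨m⁻¹ * (c * m * c⁻¹), ?_, by group⟩
      have h1 := (hmem _ _).mp hcP ![1, 0]
      rw [hvec1, ← hm] at h1
      rw [← hπK, map_mul, map_inv, map_mul, map_mul, map_inv, h1, inv_mul_cancel]
    obtain ⟨k₂, hk₂, hk₂e⟩ : ∃ k₂ ∈ K, c * m' * c⁻¹ = m' * m⁻¹ * k₂ := by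
      refine ⟨(m' * m⁻¹)⁻¹ * (c * m' * c⁻¹), ?_, by group⟩
      have h1 := (hmem _ _).mp hcP ![0, 1]
      rw [hvec2, hE_add, addHom_neg E hE_add, ← hm, ← hm'] at h1
      rw [← hπK, map_mul, map_inv, map_mul, map_inv, map_mul, map_mul, map_inv, h1, inv_mul_cancel]
    have e : c * ζ * c⁻¹ = ⁅c * m * c⁻¹, c * m' * c⁻¹⁆ := by
      rw [hζ]; simp only [commutatorElement_def]; group
    rw [e, hk₁e, hk₂e]
    have hminv : m⁻¹ ∈ R₁ := R₁.inv_mem hmR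
    have h2 : m' * m⁻¹ * k₂ ∈ R₁ := R₁.mul_mem (R₁.mul_mem hm'R hminv) (hKR₁ hk₂)
    rw [c2_mul_left R₁ K hcen hcommR hmR (hKR₁ hk₁) h2,
      c2_central_left R₁ K hcen hcommR hk₁ h2, mul_one,
      c2_mul_right R₁ K hcen hcommR hmR (R₁.mul_mem hm'R hminv) (hKR₁ hk₂),
      c2_central_right R₁ K hcen hcommR hk₂ hmR, mul_one,
      c2_mul_right R₁ K hcen hcommR hmR hm'R hminv,
      c2_inv_right R₁ K hcen hcommR hmR hmR, hmm, inv_one, mul_one, hζ]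
  have hbζ : b * ζ * b⁻¹ = ζ := by
    obtain ⟨k₁, hk₁, hk₁e⟩ : ∃ k₁ ∈ K, b * m * b⁻¹ = m * m' * k₁ := by
      refine ⟨(m * m')⁻¹ * (b * m * b⁻¹), ?_, by group⟩
      have h1 := (hmem _ _).mp hbP ![1, 0]
      rw [hvec3, hE_add, ← hm, ← hm'] at h1
      rw [← hπK, map_mul, map_inv, map_mul, map_mul, map_mul, map_inv, h1, inv_mul_cancel]
    obtain ⟨k₂, hk₂, hk₂e⟩ : ∃ k₂ ∈ K, b * m' * b⁻¹ = m' * k₂ := by
      refine ⟨m'⁻¹ * (b * m' * b⁻¹), ?_, by group⟩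
      have h1 := (hmem _ _).mp hbP ![0, 1]
      rw [hvec4, ← hm'] at h1
      rw [← hπK, map_mul, map_inv, map_mul, map_mul, map_inv, h1, inv_mul_cancel]
    have e : b * ζ * b⁻¹ = ⁅b * m * b⁻¹, b * m' * b⁻¹⁆ := by
      rw [hζ]; simp only [commutatorElement_def]; group
    rw [e, hk₁e, hk₂e]
    have h2 : m' * k₂ ∈ R₁ := R₁.mul_mem hm'R (hKR₁ hk₂)
    rw [c2_mul_left R₁ K hcen hcommR (R₁.mul_mem hmR hm'R) (hKR₁ hk₁) h2,
      c2_central_left R₁ K hcen hcommR hk₁ h2, mul_one,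
      c2_mul_left R₁ K hcen hcommR hmR hm'R h2,
      c2_mul_right R₁ K hcen hcommR hmR hm'R (hKR₁ hk₂),
      c2_central_right R₁ K hcen hcommR hk₂ hmR, mul_one,
      c2_mul_right R₁ K hcen hcommR hm'R hm'R (hKR₁ hk₂),
      c2_central_right R₁ K hcen hcommR hk₂ hm'R, mul_one, hm'm', mul_one, hζ]
  have hcT : c ∈ Subgroup.normalizer (T : Set Γ) := hnormT c _ hcP hcζ hcz
  have hbT : b ∈ Subgroup.normalizer (T : Set Γ) := hnormT b _ hbP hbζ hbz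
  -- lifts of the basis inside `T`
  obtain ⟨v, hvT, kv, hkv, hmv⟩ := hR₁T m hmR
  obtain ⟨w, hwT, kw, hkw, hmw⟩ := hR₁T m' hm'R
  have hvR : v ∈ R₁ := hTR hvT
  have hwR : w ∈ R₁ := hTR hwT
  have hπv : π v = E ![1, 0] := by
    rw [← hm, hmv, map_mul, (hπK kv).mpr hkv, mul_one]
  have hwv : ⁅w, v⁆ = ζ⁻¹ := by
    have h1 : ⁅m', m⁆ = ⁅w, v⁆ := by
      rw [hmw, hmv,
        c2_mul_left R₁ K hcen hcommR hwR (hKR₁ hkw) (R₁.mul_mem hvR (hKR₁ hkv)),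
        c2_central_left R₁ K hcen hcommR hkw (R₁.mul_mem hvR (hKR₁ hkv)), mul_one,
        c2_mul_right R₁ K hcen hcommR hwR hvR (hKR₁ hkv),
        c2_central_right R₁ K hcen hcommR hkv hwR, mul_one]
    rw [← h1, hζ']
  -- the correction
  obtain ⟨k₁, hk₁Z, hk₁e⟩ : ∃ k₁ ∈ Z₀, c * v * c⁻¹ = v * k₁ := by
    refine ⟨v⁻¹ * (c * v * c⁻¹), ?_, by group⟩
    have hcv : c * v * c⁻¹ ∈ T := (Subgroup.mem_normalizer_iff.mp hcT v).mp hvT
    apply hTK _ (T.mul_mem (T.inv_mem hvT) hcv)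
    have h1 := (hmem _ _).mp hcP ![1, 0]
    rw [hvec1, ← hπv] at h1
    rw [← hπK, map_mul, map_inv, map_mul, map_mul, map_inv, h1, inv_mul_cancel]
  obtain ⟨j, hj⟩ : ∃ j : ℕ, ζ ^ j = k₁ := by
    rw [hZ₀, ← mem_powers_iff_mem_zpowers] at hk₁Z
    exact (Submonoid.mem_powers_iff _ _).mp hk₁Z
  obtain ⟨x, hx⟩ : ∃ x, x = w ^ j * c := ⟨_, rfl⟩
  have hwjT : w ^ j ∈ T := T.pow_mem hwT j
  have hwjR : w ^ j ∈ R₁ := hTR hwjT
  have hxT : x ∈ Subgroup.normalizer (T : Set Γ) := by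
    rw [hx]; exact mul_mem (Subgroup.le_normalizer hwjT) hcT
  have hxv : x * v * x⁻¹ = v := by
    have h1 : ⁅w ^ j, v⁆ = (ζ⁻¹) ^ j := by
      rw [c2_pow_left R₁ K hcen hcommR hwR hvR, hwv]
    have h2 : w ^ j * v * (w ^ j)⁻¹ = (ζ⁻¹) ^ j * v := by
      rw [← h1, commutatorElement_def]; group
    have h3 : w ^ j * k₁ * (w ^ j)⁻¹ = k₁ := by
      have := hcen k₁ (hZ₀K hk₁Z) _ hwjR
      rw [← this]; group
    have h4 : (ζ⁻¹) ^ j * v = v * (ζ⁻¹) ^ j :=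
      hcen _ (K.pow_mem (K.inv_mem hζK) j) v hvR
    calc x * v * x⁻¹ = w ^ j * (c * v * c⁻¹) * (w ^ j)⁻¹ := by rw [hx]; group
      _ = (w ^ j * v * (w ^ j)⁻¹) * (w ^ j * k₁ * (w ^ j)⁻¹) := by rw [hk₁e]; group
      _ = v * ((ζ⁻¹) ^ j * ζ ^ j) := by rw [h2, h3, h4, hj, mul_assoc]
      _ = v := by rw [inv_pow, inv_mul_cancel, mul_one]
  have hxζ : x * ζ * x⁻¹ = ζ := by
    have h1 : w ^ j * ζ * (w ^ j)⁻¹ = ζ := by
      have := hcen ζ hζK _ hwjR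
      rw [← this]; group
    calc x * ζ * x⁻¹ = w ^ j * (c * ζ * c⁻¹) * (w ^ j)⁻¹ := by rw [hx]; group
      _ = ζ := by rw [hcζ, h1]
  have hwjP : (w ^ j, (1 : Matrix.SpecialLinearGroup (Fin 2) (ZMod p))) ∈ 𝔓 := by
    rw [hmem]
    intro y
    rw [Matrix.SpecialLinearGroup.coe_one, Matrix.one_mulVec]
    obtain ⟨y', hy'⟩ := (hR₁mem _).mp hwjR
    rw [← hy', hEcomm, mul_inv_cancel_right]
  have hxP : (x, upperU (-1 : ZMod p)) ∈ 𝔓 := by
    have h1 := 𝔓.mul_mem hwjP hcP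
    have e1 : (w ^ j, (1 : Matrix.SpecialLinearGroup (Fin 2) (ZMod p))) * (c, upperU (-1 : ZMod p)) =
        (x, upperU (-1 : ZMod p)) := by
      apply Prod.ext
      · rw [hx]; rfl
      · show 1 * upperU (-1 : ZMod p) = upperU (-1 : ZMod p)
        rw [one_mul]
    rwa [e1] at h1
  -- `x` acts quadratically on `T`
  have hquad : ⁅⁅T, Subgroup.zpowers x⁆, Subgroup.zpowers x⁆ = ⊥ := by
    rw [Cfsg.Agent.Lib.Helper97.quad_iff]
    intro t ht y hy y₂ hy₂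
    obtain ⟨s, hs, hys⟩ : ∃ s ∈ fixSnd p, (y, s) ∈ 𝔓 := by
      have h1 : (x, upperU (-1 : ZMod p)) ∈ 𝔓 ⊓ (fixSnd p).comap
          (MonoidHom.snd Γ (Matrix.SpecialLinearGroup (Fin 2) (ZMod p))) :=
        ⟨hxP, upperU_mem_fixSnd (-1)⟩
      obtain ⟨i, rfl⟩ := Subgroup.mem_zpowers_iff.mp hy
      have h2 := Subgroup.zpow_mem _ h1 i
      refine ⟨((x, upperU (-1 : ZMod p)) ^ i).2, h2.2, ?_⟩
      have : (x ^ i, ((x, upperU (-1 : ZMod p)) ^ i).2) = (x, upperU (-1 : ZMod p)) ^ i := by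
        apply Prod.ext
        · rfl
        · rfl
      rw [this]
      exact h2.1
    have hyN : y ∈ Subgroup.normalizer (T : Set Γ) := (Subgroup.zpowers_le.mpr hxT) hy
    have hy₂v : y₂ * v = v * y₂ := by
      have h1 : Subgroup.zpowers x ≤ Subgroup.centralizer ({v} : Set Γ) := by
        rw [Subgroup.zpowers_le, Subgroup.mem_centralizer_iff]
        intro h hh
        rw [Set.mem_singleton_iff] at hh
        rw [hh]
        calc v * x = (x * v * x⁻¹) * x := by rw [hxv]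
          _ = x * v := by group
      have := (Subgroup.mem_centralizer_iff.mp (h1 hy₂)) v rfl
      exact this.symm
    have hy₂ζ : ∀ k ∈ Z₀, y₂ * k = k * y₂ := by
      have h1 : Subgroup.zpowers x ≤ Subgroup.centralizer ({ζ} : Set Γ) := by
        rw [Subgroup.zpowers_le, Subgroup.mem_centralizer_iff]
        intro h hh
        rw [Set.mem_singleton_iff] at hh
        rw [hh]
        calc ζ * x = (x * ζ * x⁻¹) * x := by rw [hxζ]
          _ = x * ζ := by group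
      have h2 := (Subgroup.mem_centralizer_iff.mp (h1 hy₂)) ζ rfl
      intro k hk
      rw [hZ₀] at hk
      obtain ⟨n, rfl⟩ := Subgroup.mem_zpowers_iff.mp hk
      exact ((Commute.zpow_right (show Commute y₂ ζ from h2.symm) n) : _)
    -- the commutator `⁅t, y⁆` lies in `⟨v⟩ Z₀`
    have htR : t ∈ R₁ := hTR ht
    obtain ⟨x₀, hx₀⟩ := (hR₁mem t).mp htR
    have h1 := (hmem y s).mp hys (-x₀)
    rw [addHom_neg E hE_add] at h1
    obtain ⟨cc, hcc⟩ : ∃ cc : ZMod p, x₀ + (s : Matrix (Fin 2) (Fin 2) (ZMod p)).mulVec (-x₀) =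
        cc.val • ![1, 0] := by
      refine ⟨x₀ 0 + ((s : Matrix (Fin 2) (Fin 2) (ZMod p)).mulVec (-x₀)) 0, ?_⟩
      funext i
      fin_cases i
      · simp
      · have := hs (-x₀)
        simp only [Fin.mk_one, Fin.isValue, Pi.add_apply, Pi.smul_apply]
        rw [this]
        simp
    have h2 : π ⁅t, y⁆ = π (v ^ cc.val) := by
      rw [commutatorElement_def, map_mul, map_mul, map_mul, map_inv, map_inv, map_pow, hπv,
        ← addHom_nsmul E hE_add, ← hcc, hE_add, ← hx₀]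
      rw [mul_assoc, mul_assoc, ← mul_assoc (π y), h1]
    have hty : ⁅t, y⁆ ∈ T := by
      rw [commutatorElement_def]
      have h3 : y * t⁻¹ * y⁻¹ ∈ T := (Subgroup.mem_normalizer_iff.mp hyN t⁻¹).mp (T.inv_mem ht)
      have e : t * y * t⁻¹ * y⁻¹ = t * (y * t⁻¹ * y⁻¹) := by group
      rw [e]
      exact T.mul_mem ht h3
    obtain ⟨k, hk, hvk⟩ : ∃ k ∈ Z₀, ⁅t, y⁆ = v ^ cc.val * k := by
      refine ⟨(v ^ cc.val)⁻¹ * ⁅t, y⁆, ?_, by group⟩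
      apply hTK _ (T.mul_mem (T.inv_mem (T.pow_mem hvT _)) hty)
      rw [← hπK, map_mul, map_inv, h2, inv_mul_cancel]
    rw [hvk, commutatorElement_eq_one_iff_commute]
    show v ^ cc.val * k * y₂ = y₂ * (v ^ cc.val * k)
    have hzmp : y₂ * v ^ cc.val = v ^ cc.val * y₂ := ((Commute.pow_right hy₂v (cc.val)) : _)
    rw [mul_assoc, ← hy₂ζ k hk, ← mul_assoc, ← hzmp, mul_assoc]
  -- `p`-stability
  have hstab := hst T hTp x hxT hquad
  have hpn : (pCore p (↥(Subgroup.normalizer (T : Set Γ)) ⧸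
      (Subgroup.centralizer (T : Set Γ)).subgroupOf (Subgroup.normalizer (T : Set Γ)))).Normal :=
    Cfsg.Agent.Lib.Helper97.pCore_normal p
  have h2 := hpn.conj_mem _ hstab (QuotientGroup.mk (⟨b, hbT⟩ : ↥(Subgroup.normalizer (T : Set Γ))))
  have h3 := mul_mem hstab h2
  obtain ⟨k, hk⟩ := (Cfsg.Agent.Lib.Helper97.isPGroup_pCore p _) ⟨_, h3⟩
  have h4 := congrArg Subtype.val hk
  rw [Subgroup.coe_pow, Subgroup.coe_one] at h4
  simp only [] at h4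
  rw [← QuotientGroup.mk_inv, ← QuotientGroup.mk_mul, ← QuotientGroup.mk_mul, ← QuotientGroup.mk_mul,
    ← QuotientGroup.mk_pow, QuotientGroup.eq_one_iff, Subgroup.mem_subgroupOf] at h4
  obtain ⟨ww, hww⟩ : ∃ ww, ww = x * (b * x * b⁻¹) := ⟨_, rfl⟩
  have hwC : ww ^ (p ^ k) ∈ Subgroup.centralizer (T : Set Γ) := by
    rw [hww]
    exact h4
  obtain ⟨M, hM⟩ : ∃ M : Matrix.SpecialLinearGroup (Fin 2) (ZMod p),
      M = upperU (-1 : ZMod p) * (lowerU 1 * upperU (-1 : ZMod p) * (lowerU 1)⁻¹) := ⟨_, rfl⟩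
  have hwP : (ww, M) ∈ 𝔓 := by
    have h5 := 𝔓.mul_mem hxP (𝔓.mul_mem (𝔓.mul_mem hbP hxP) (𝔓.inv_mem hbP))
    have e : (x, upperU (-1 : ZMod p)) * ((b, lowerU (1 : ZMod p)) * (x, upperU (-1 : ZMod p)) *
        (b, lowerU (1 : ZMod p))⁻¹) = (ww, M) := by
      apply Prod.ext
      · rw [hww]; rfl
      · rw [hM]; rfl
    rwa [e] at h5
  have hwkP : (ww ^ (p ^ k), M ^ (p ^ k)) ∈ 𝔓 := by
    have h5 := 𝔓.pow_mem hwP (p ^ k)
    have e : (ww, M) ^ (p ^ k) = (ww ^ (p ^ k), M ^ (p ^ k)) := by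
      apply Prod.ext
      · rw [Prod.pow_fst]
      · rw [Prod.pow_snd]
    rwa [e] at h5
  have hM1 : M ^ (p ^ k) = 1 := by
    apply eq_one_of_mulVec
    intro y
    apply hE_inj
    rw [← (hmem _ _).mp hwkP y]
    obtain ⟨r, hr⟩ := hπsurj (E y)
    have hrR : r ∈ R₁ := (hR₁mem r).mpr ⟨y, hr.symm⟩
    obtain ⟨t, htT, kt, hkt, hrt⟩ := hR₁T r hrR
    have hπt : π t = E y := by
      rw [← hr, hrt, map_mul, (hπK kt).mpr hkt, mul_one]
    have hcv := (Subgroup.mem_centralizer_iff.mp hwC) t htT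
    rw [← hπt, ← map_inv, ← map_mul, ← map_mul, ← hcv]
    congr 1
    group
  have htr := trace_eq_two_of_pow_eq_one M k hM1
  rw [hM, trace_upU_conj] at htr
  have h6 : (1 : ZMod p) = 0 := by linear_combination -htr
  exact one_ne_zero h6

end lemmaFodd

end Cfsg.Agent.Lib.Helper10
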