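import Mathlib
import Cfsg.Prelude.Def_LocalEven
import Cfsg.Agent.Lib.Helper88.Involves

/-!
# Lifting normalizers of `p`-subgroups through surjections (Frattini argument) (helper10)

* `exists_pgroup_lift`: `f : A →* B` surjective, `A` finite, `P ≤ B` a `p`-subgroup: there is a
  `p`-subgroup `Q ≤ A` with `f(Q) = P` and `N_B(P) ≤ f(N_A(Q))`.
* `involves_normalizer_of_section`: if `T` is involved in `N_X(P)` for a `p`-subgroup `P ≠ 1` of a
  section `X = K/R` of the finite group `G`, then `T` is involved in `N_G(P₀)` for a `p`-subgroup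
  `P₀ ≠ 1` of `G`.
-/

set_option autoImplicit false
open Cfsg

namespace Cfsg.Agent.Lib.Helper10

universe u v w

theorem exists_pgroup_lift {A : Type u} {B : Type v} [Group A] [Group B] [Finite A] {p : ℕ}
    [Fact p.Prime] (f : A →* B) (hf : Function.Surjective f) (P : Subgroup B)
    (hP : IsPGroup p P) :
    ∃ Q : Subgroup A, IsPGroup p Q ∧ Q.map f = P ∧
      Subgroup.normalizer (P : Set B) ≤ (Subgroup.normalizer (Q : Set A)).map f := by
  obtain ⟨M, hM⟩ : ∃ M : Subgroup A, M = (Subgroup.normalizer (P : Set B)).comap f := ⟨_, rfl⟩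
  obtain ⟨Ph, hPh⟩ : ∃ Ph : Subgroup A, Ph = P.comap f := ⟨_, rfl⟩
  have hmemM : ∀ a : A, a ∈ M ↔ f a ∈ Subgroup.normalizer (P : Set B) := by
    intro a; rw [hM]; rfl
  have hmemPh : ∀ a : A, a ∈ Ph ↔ f a ∈ P := by
    intro a; rw [hPh]; rfl
  have hPM : Ph ≤ M := by
    intro a ha
    rw [hmemM]
    exact Subgroup.le_normalizer ((hmemPh a).1 ha)
  have hN'n : (Ph.subgroupOf M).Normal := by
    constructor
    intro n hn g
    rw [Subgroup.mem_subgroupOf] at hn ⊢
    rw [hmemPh] at hn ⊢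
    have hg : f (g : A) ∈ Subgroup.normalizer (P : Set B) := (hmemM _).1 g.2
    have h1 := (Subgroup.mem_normalizer_iff.1 hg (f (n : A))).1 hn
    simpa using h1
  obtain ⟨Q₁⟩ : Nonempty (Sylow p ↥(Ph.subgroupOf M)) := inferInstance
  have hfr := Sylow.normalizer_sup_eq_top Q₁
  obtain ⟨Q₂, hQ₂⟩ : ∃ Q₂ : Subgroup ↥M,
      Q₂ = (Q₁ : Subgroup ↥(Ph.subgroupOf M)).map (Ph.subgroupOf M).subtype := ⟨_, rfl⟩
  rw [← hQ₂] at hfr
  have hQ₂p : IsPGroup p Q₂ := by rw [hQ₂]; exact Q₁.2.map _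
  have hQ₂le : Q₂ ≤ Ph.subgroupOf M := by
    rw [hQ₂]; exact Subgroup.map_subtype_le _
  -- the image of Q₂ is P
  have himg : ∀ b ∈ P, ∃ q ∈ Q₂, f ((q : ↥M) : A) = b := by
    intro b hb
    let g : ↥(Ph.subgroupOf M) →* ↥P :=
      ((f.comp M.subtype).comp (Ph.subgroupOf M).subtype).codRestrict P (fun x => by
        have := x.2
        rw [Subgroup.mem_subgroupOf, hmemPh] at this
        exact this)
    have hg : Function.Surjective g := by
      rintro ⟨c, hc⟩
      obtain ⟨a, rfl⟩ := hf c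
      have ha : a ∈ Ph := (hmemPh a).2 hc
      exact ⟨⟨⟨a, hPM ha⟩, by rw [Subgroup.mem_subgroupOf]; exact ha⟩, rfl⟩
    have htop : ((Q₁.mapSurjective hg : Sylow p ↥P) : Subgroup ↥P) = ⊤ := by
      have hp : IsPGroup p (⊤ : Subgroup ↥P) := by
        intro x
        obtain ⟨k, hk⟩ := hP (x : ↥P)
        exact ⟨k, Subtype.ext (by simpa using hk)⟩
      exact ((Q₁.mapSurjective hg).is_maximal' hp le_top).symm
    rw [Sylow.coe_mapSurjective] at htop
    have hb' : (⟨b, hb⟩ : ↥P) ∈ (Q₁ : Subgroup ↥(Ph.subgroupOf M)).map g := by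
      rw [htop]; exact Subgroup.mem_top _
    obtain ⟨q, hq, hqb⟩ := hb'
    refine ⟨(q : ↥M), ?_, ?_⟩
    · rw [hQ₂]; exact ⟨q, hq, rfl⟩
    · exact congrArg Subtype.val hqb
  have hQimg : (Q₂.map M.subtype).map f = P := by
    apply le_antisymm
    · rintro _ ⟨_, ⟨q, hq, rfl⟩, rfl⟩
      have := hQ₂le hq
      rw [Subgroup.mem_subgroupOf, hmemPh] at this
      exact this
    · intro b hb
      obtain ⟨q, hq, hqb⟩ := himg b hb
      exact ⟨_, ⟨q, hq, rfl⟩, hqb⟩
  refine ⟨Q₂.map M.subtype, hQ₂p.map _, hQimg, ?_⟩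
  intro n hn
  obtain ⟨m, rfl⟩ := hf n
  have hm : m ∈ M := (hmemM m).2 hn
  have hmem : (⟨m, hm⟩ : ↥M) ∈ Subgroup.normalizer (Q₂ : Set ↥M) ⊔ Ph.subgroupOf M := by
    rw [hfr]; exact Subgroup.mem_top _
  rw [Subgroup.mem_sup_of_normal_right] at hmem
  obtain ⟨y, hy, z, hz, hyz⟩ := hmem
  have hzP : f ((z : ↥M) : A) ∈ P := by
    rw [Subgroup.mem_subgroupOf, hmemPh] at hz
    exact hz
  obtain ⟨q, hq, hqz⟩ := himg _ hzP
  have hyN : ((y : ↥M) : A) ∈ Subgroup.normalizer ((Q₂.map M.subtype : Subgroup A) : Set A) :=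
    Subgroup.le_normalizer_map M.subtype ⟨y, hy, rfl⟩
  have hqN : ((q : ↥M) : A) ∈ Subgroup.normalizer ((Q₂.map M.subtype : Subgroup A) : Set A) :=
    Subgroup.le_normalizer ⟨q, hq, rfl⟩
  refine ⟨(y : A) * (q : A), Subgroup.mul_mem _ hyN hqN, ?_⟩
  rw [map_mul, hqz, ← map_mul]
  have := congrArg Subtype.val hyz
  rw [Subgroup.coe_mul] at this
  rw [this]

/-- transport of involvement along a hom whose range contains a subgroup -/
theorem involves_of_le_map {T : Type w} [Group T] {A : Type u} {B : Type v} [Group A] [Group B]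
    (f : A →* B) (S : Subgroup A) (N : Subgroup B) (hN : N ≤ S.map f) (h : Involves T ↥N) :
    Involves T ↥S := by
  rw [Cfsg.Agent.Lib.Helper88.involves_iff_exists_surj] at h ⊢
  obtain ⟨K, φ, hφ⟩ := h
  -- the restriction of f to S
  let f' : ↥S →* B := f.comp S.subtype
  let K' : Subgroup B := K.map N.subtype
  let e : ↥K ≃* ↥K' := K.equivMapOfInjective N.subtype N.subtype_injective
  have hK' : K' ≤ f'.range := by
    rintro _ ⟨k, hk, rfl⟩
    obtain ⟨s, hs, hsk⟩ := hN k.2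
    exact ⟨⟨s, hs⟩, hsk⟩
  let g : ↥(K'.comap f') →* ↥K' := f'.subgroupComap K'
  have hg : Function.Surjective g := by
    rintro ⟨c, hc⟩
    obtain ⟨s, rfl⟩ := hK' hc
    exact ⟨⟨s, hc⟩, rfl⟩
  exact ⟨K'.comap f', (φ.comp e.symm.toMonoidHom).comp g,
    (hφ.comp e.symm.surjective).comp hg⟩

/-- If `T` is involved in the normalizer of a nontrivial `p`-subgroup of a section of the finite
group `G`, it is involved in the normalizer of a nontrivial `p`-subgroup of `G`. -/
theorem involves_normalizer_of_section {T : Type w} [Group T] {G : Type u} [Group G] [Finite G]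
    {p : ℕ} [Fact p.Prime] (K R : Subgroup G) [hR : (R.subgroupOf K).Normal]
    (P : Subgroup (↥K ⧸ R.subgroupOf K)) (hP : IsPGroup p P) (hP1 : P ≠ ⊥)
    (h : Involves T ↥(Subgroup.normalizer (P : Set (↥K ⧸ R.subgroupOf K)))) :
    ∃ P₀ : Subgroup G, IsPGroup p P₀ ∧ P₀ ≠ ⊥ ∧
      Involves T ↥(Subgroup.normalizer (P₀ : Set G)) := by
  obtain ⟨Q, hQp, hQP, hQN⟩ := exists_pgroup_lift (QuotientGroup.mk' (R.subgroupOf K))
    (QuotientGroup.mk'_surjective _) P hP
  have h1 : Involves T ↥(Subgroup.normalizer (Q : Set ↥K)) :=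
    involves_of_le_map (QuotientGroup.mk' (R.subgroupOf K)) _ _ hQN h
  refine ⟨Q.map K.subtype, hQp.map _, ?_, ?_⟩
  · intro hbot
    apply hP1
    rw [← hQP, (Subgroup.map_eq_bot_iff_of_injective Q K.subtype_injective).1 hbot,
      Subgroup.map_bot]
  · -- N_K(Q) embeds in N_G(Q.map)
    have hle : (Subgroup.normalizer (Q : Set ↥K)).map K.subtype ≤
        Subgroup.normalizer ((Q.map K.subtype : Subgroup G) : Set G) :=
      Subgroup.le_normalizer_map K.subtype
    let ι : ↥(Subgroup.normalizer (Q : Set ↥K)) →*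
        ↥(Subgroup.normalizer ((Q.map K.subtype : Subgroup G) : Set G)) :=
      (K.subtype.comp (Subgroup.normalizer (Q : Set ↥K)).subtype).codRestrict _
        (fun x => hle ⟨x, x.2, rfl⟩)
    have hι : Function.Injective ι := by
      intro x y hxy
      have h2 : ((x : ↥K) : G) = ((y : ↥K) : G) :=
        congrArg (fun z : ↥(Subgroup.normalizer ((Q.map K.subtype : Subgroup G) : Set G)) =>
          (z : G)) hxy
      exact Subtype.ext (Subtype.ext h2)
    exact Cfsg.Agent.Lib.Helper88.Involves.of_injective ι hι h1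

end Cfsg.Agent.Lib.Helper10
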