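import Mathlib
import Cfsg.Prelude.Def_PLocal
import Cfsg.Prelude.Def_LocalEven
import Cfsg.Agent.Lib.Helper10.CentralNatOdd
import Cfsg.Agent.Lib.Helper10.NatData
import Cfsg.Agent.Lib.Helper10.StrongDicksonProof
import Cfsg.Agent.Lib.Helper33.SylIn
import Cfsg.Agent.Lib.Helper76.PCore
import Cfsg.Agent.S3836
import Cfsg.Agent.S0274

/-!
# Quotients of `p`-stable groups by hypercentral normal `p`-subgroups, all odd `p` (helper10)

The statements of `HyperStable` for every odd prime (using `CentralNatOdd` and S0274).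

* `centralizes_of_quadratic_mod_hyper`: in a `p`-stable group `Γ` (`p ≥ 5`) with a normal subgroup
  `Q₀` centralized by all `p'`-elements, if `a` acts quadratically on `R / (R ∩ Q₀)` for a normal
  `p`-subgroup `R`, then the `p'`-elements of the normal closure of `a` centralize `R`.
* `isNormalizerPStable_quotient_of_hyper`: `G ⧸ Q` is again `p`-stable in the normalizer form.
-/

set_option autoImplicit false
set_option linter.style.haveILetI false

namespace Cfsg.Agent.Lib.Helper10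

open Cfsg
open scoped commutatorElement
open Cfsg.Agent.Lib.Helper11 Cfsg.Agent.Lib.Helper41

universe u

/-- **Key lemma.** -/
theorem centralizes_of_quadratic_mod_hyper_odd {Γ : Type u} [Group Γ] [Finite Γ] {p : ℕ} [Fact p.Prime]
    (hp2 : p ≠ 2) (hst : IsNormalizerPStable p Γ)
    (Q₀ : Subgroup Γ) [hQ₀n : Q₀.Normal]
    (hQ₀ : ∀ y : Γ, (orderOf y).Coprime p → y ∈ Subgroup.centralizer (Q₀ : Set Γ))
    (a : Γ) :
    ∀ n : ℕ, ∀ R : Subgroup Γ, R.Normal → IsPGroup p R → Nat.card R = n →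
      ⁅⁅R, Subgroup.zpowers a⁆, Subgroup.zpowers a⁆ ≤ Q₀ →
      ∀ y ∈ Subgroup.normalClosure ({a} : Set Γ), (orderOf y).Coprime p →
        y ∈ Subgroup.centralizer (R : Set Γ) := by
  classical
  have hpp : p.Prime := Fact.out
  intro n
  induction n using Nat.strong_induction_on with
  | _ n IH =>
  intro R hRn hRp hcard hquad y₀ hy₀Y hy₀cop
  by_contra hbad
  obtain ⟨Y, hY⟩ : ∃ Y : Subgroup Γ, Y = Subgroup.normalClosure ({a} : Set Γ) := ⟨_, rfl⟩
  have hYn : Y.Normal := by rw [hY]; infer_instance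
  have haY : a ∈ Y := by rw [hY]; exact Subgroup.subset_normalClosure (Set.mem_singleton a)
  rw [← hY] at hy₀Y
  -- the largest proper normal subgroup
  obtain ⟨Qs, hQs⟩ : ∃ Qs : Subgroup Γ, Qs = sSup {R' : Subgroup Γ | R'.Normal ∧ R' < R} :=
    ⟨_, rfl⟩
  have hQsn : Qs.Normal := by rw [hQs]; exact Subgroup.sSup_normal _ (fun _ h => h.1)
  have hQsR : Qs ≤ R := by rw [hQs]; exact sSup_le (fun R' h => h.2.le)
  have hmax : ∀ R' : Subgroup Γ, R'.Normal → R' ≤ R → R' ≠ R → R' ≤ Qs := by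
    intro R' h1 h2 h3
    rw [hQs]
    exact le_sSup ⟨h1, lt_of_le_of_ne h2 h3⟩
  have hsub : ∀ R' : Subgroup Γ, R'.Normal → R' < R → ∀ y ∈ Y, (orderOf y).Coprime p →
      y ∈ Subgroup.centralizer (R' : Set Γ) := by
    intro R' h1 h2 y hy hyc
    refine IH (Nat.card R') ?_ R' h1 (hRp.to_le h2.le) rfl ?_ y (by rw [← hY]; exact hy) hyc
    · rw [← hcard]; exact Cfsg.Agent.Lib.Helper33.card_lt_card_of_lt h2
    · exact (Subgroup.commutator_mono (Subgroup.commutator_mono h2.le le_rfl) le_rfl).trans hquad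
  have hQscent : ∀ y ∈ Y, (orderOf y).Coprime p → y ∈ Subgroup.centralizer (Qs : Set Γ) := by
    intro y hy hyc
    have : Qs ≤ Subgroup.centralizer ((Subgroup.zpowers y : Subgroup Γ) : Set Γ) := by
      rw [hQs]
      apply sSup_le
      rintro R' ⟨h1, h2⟩
      rw [Subgroup.le_centralizer_iff, Subgroup.zpowers_le]
      exact hsub R' h1 h2 y hy hyc
    rw [Subgroup.le_centralizer_iff, Subgroup.zpowers_le] at this
    exact this
  have hQsne : Qs ≠ R := by
    intro h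
    apply hbad
    rw [← h]
    exact hQscent y₀ hy₀Y hy₀cop
  -- `Q₀ ⊓ R ≤ Qs`
  have hQ₀R : Q₀ ⊓ R ≤ Qs := by
    have hn : (Q₀ ⊓ R).Normal := inferInstance
    apply hmax _ hn inf_le_right
    intro h
    apply hbad
    have hRQ₀ : R ≤ Q₀ := by rw [← h]; exact inf_le_left
    exact Subgroup.centralizer_le (SetLike.coe_subset_coe.mpr hRQ₀) (hQ₀ y₀ hy₀cop)
  -- Frattini
  have hΦn : (Cfsg.Agent.Lib.Helper70.frattiniIn R).Normal := inferInstance
  have hΦ : Cfsg.Agent.Lib.Helper70.frattiniIn R ≤ Qs := by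
    apply hmax _ hΦn (Cfsg.Agent.Lib.Helper70.frattiniIn_le R)
    intro h
    have h1 : frattini ↥R = ⊤ := by
      rw [eq_top_iff]
      intro x _
      have hx : (x : Γ) ∈ Cfsg.Agent.Lib.Helper70.frattiniIn R := by rw [h]; exact x.2
      exact (Cfsg.Agent.Lib.Helper70.mem_frattiniIn x.2).mp hx
    have h2 : (⊥ : Subgroup ↥R) = ⊤ := frattini_nongenerating (by rw [h1]; simp)
    apply hbad
    rw [Subgroup.mem_centralizer_iff]
    intro r hr
    have : (⟨r, hr⟩ : ↥R) ∈ (⊥ : Subgroup ↥R) := by rw [h2]; trivial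
    have hr1 : r = 1 := by simpa using congrArg Subtype.val (Subgroup.mem_bot.mp this)
    rw [hr1]; simp
  have hcomm : ⁅R, R⁆ ≤ Qs :=
    (Cfsg.Agent.Lib.Helper97.commutator_le_map_frattini hRp).trans hΦ
  have hpow : ∀ x ∈ R, x ^ p ∈ Qs :=
    fun x hx => hΦ (Cfsg.Agent.Lib.Helper97.pow_prime_mem_map_frattini hRp hx)
  -- `Qs` is central in `R`
  have hRcent : R ≤ Subgroup.centralizer (Qs : Set Γ) := by
    by_contra hnot
    have hZn : (R ⊓ Subgroup.centralizer (Qs : Set Γ)).Normal := inferInstance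
    have hZ : R ⊓ Subgroup.centralizer (Qs : Set Γ) ≤ Qs := by
      apply hmax _ hZn inf_le_left
      intro h
      apply hnot
      rw [← h]; exact inf_le_right
    apply hbad
    apply mem_centralizer_of_coprime_of_series R Qs hRp hQsR y₀ hy₀cop (hQscent y₀ hy₀Y hy₀cop)
    intro r hr
    apply hZ
    refine ⟨?_, ?_⟩
    · exact R.mul_mem (hRn.conj_mem r hr y₀) (R.inv_mem hr)
    · show y₀ * r * y₀⁻¹ * r⁻¹ ∈ Subgroup.centralizer (Qs : Set Γ)
      rw [Subgroup.mem_centralizer_iff]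
      intro q hq
      have hy₀q : ∀ q' ∈ Qs, q' * y₀ = y₀ * q' :=
        Subgroup.mem_centralizer_iff.mp (hQscent y₀ hy₀Y hy₀cop)
      have hq' : r⁻¹ * q * r ∈ Qs := by
        have := hQsn.conj_mem q hq r⁻¹
        simpa using this
      have e1 := hy₀q q hq
      have e2 := hy₀q _ hq'
      have e3 : y₀⁻¹ * (r⁻¹ * q * r) * y₀ = r⁻¹ * q * r := by
        rw [mul_assoc, e2]; group
      have e4 : y₀ * q * y₀⁻¹ = q := by rw [← e1]; group
      have key : (y₀ * r * y₀⁻¹ * r⁻¹) * q * (y₀ * r * y₀⁻¹ * r⁻¹)⁻¹ = q := by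
        calc _ = y₀ * r * (y₀⁻¹ * (r⁻¹ * q * r) * y₀) * r⁻¹ * y₀⁻¹ := by group
          _ = y₀ * r * (r⁻¹ * q * r) * r⁻¹ * y₀⁻¹ := by rw [e3]
          _ = y₀ * q * y₀⁻¹ := by group
          _ = q := e4
      calc q * (y₀ * r * y₀⁻¹ * r⁻¹)
          = ((y₀ * r * y₀⁻¹ * r⁻¹) * q * (y₀ * r * y₀⁻¹ * r⁻¹)⁻¹) * (y₀ * r * y₀⁻¹ * r⁻¹) := by
            rw [key]
        _ = (y₀ * r * y₀⁻¹ * r⁻¹) * q := by group
  have hRcomm : ∀ r ∈ R, ∀ q ∈ Qs, q * r = r * q :=
    fun r hr q hq => (Subgroup.mem_centralizer_iff.mp (hRcent hr)) q hq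
  -- the quotient
  have hsurj := QuotientGroup.mk'_surjective Qs
  obtain ⟨V', hV'⟩ : ∃ V' : Subgroup (Γ ⧸ Qs), V' = R.map (QuotientGroup.mk' Qs) := ⟨_, rfl⟩
  have hVn : V'.Normal := by rw [hV']; exact hRn.map _ hsurj
  have hVel : IsElementaryAbelian p V' := by
    rw [hV']
    refine ⟨⟨⟨?_⟩⟩, ?_⟩
    · rintro ⟨_, x, hx, rfl⟩ ⟨_, y, hy, rfl⟩
      apply Subtype.ext
      show (QuotientGroup.mk' Qs) x * (QuotientGroup.mk' Qs) y =
        (QuotientGroup.mk' Qs) y * (QuotientGroup.mk' Qs) x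
      have h1 : ⁅x, y⁆ ∈ Qs := hcomm (Subgroup.commutator_mem_commutator hx hy)
      have h2 : (QuotientGroup.mk' Qs) ⁅x, y⁆ = 1 := (QuotientGroup.eq_one_iff _).mpr h1
      rw [map_commutatorElement, commutatorElement_eq_one_iff_commute] at h2
      exact h2.eq
    · rintro _ ⟨x, hx, rfl⟩
      rw [← map_pow]
      exact (QuotientGroup.eq_one_iff _).mpr (hpow x hx)
  have hquad' : ⁅⁅V', Subgroup.zpowers ((QuotientGroup.mk' Qs) a)⁆,
      Subgroup.zpowers ((QuotientGroup.mk' Qs) a)⁆ = ⊥ := by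
    rw [hV', ← MonoidHom.map_zpowers, ← Subgroup.map_commutator, ← Subgroup.map_commutator,
      eq_bot_iff]
    have h1 : ⁅⁅R, Subgroup.zpowers a⁆, Subgroup.zpowers a⁆ ≤ Qs := by
      refine le_trans (le_inf hquad ?_) hQ₀R
      exact (Subgroup.commutator_mono (Subgroup.commutator_le_left R _) le_rfl).trans
        (Subgroup.commutator_le_left R _)
    calc _ ≤ Qs.map (QuotientGroup.mk' Qs) := Subgroup.map_mono h1
      _ = ⊥ := QuotientGroup.map_mk'_self Qs
  have hcV : ∀ x y : ↥V', x * y = y * x := fun x y => hVel.1.is_comm.comm x y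
  have hVexp : ∀ v : ↥V', v ^ p = 1 := fun v => Subtype.ext (by simpa using hVel.2 _ v.2)
  obtain ⟨φ, hφ⟩ : ∃ φ : (Γ ⧸ Qs) →* MulAut ↥V', φ = MulAut.conjNormal := ⟨_, rfl⟩
  have hφa : ∀ (g : Γ ⧸ Qs) (v : ↥V'), ((φ g v : ↥V') : Γ ⧸ Qs) = g * v * g⁻¹ := by
    intro g v
    rw [hφ]
    exact MulAut.conjNormal_apply g v
  have hquadφ : ∀ c : Γ ⧸ Qs, ⁅⁅V', Subgroup.zpowers c⁆, Subgroup.zpowers c⁆ = ⊥ →
      ∀ v : ↥V', φ c (φ c v) * v = φ c v * φ c v := by
    intro c hc v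
    have hq1 := (Cfsg.Agent.Lib.Helper97.quad_iff V' c).mp hc v v.2 c
      (Subgroup.mem_zpowers c) c (Subgroup.mem_zpowers c)
    have e1 : ⁅⁅(v : Γ ⧸ Qs), c⁆, c⁆ =
        (v : Γ ⧸ Qs) * (c * v * c⁻¹)⁻¹ * ((c * (c * v * c⁻¹) * c⁻¹) * (c * v * c⁻¹)⁻¹) := by
      rw [commutatorElement_def, commutatorElement_def]
      group
    rw [e1] at hq1
    have hq2 : v * (φ c v)⁻¹ * (φ c (φ c v) * (φ c v)⁻¹) = 1 := by
      apply Subtype.ext
      simp only [Subgroup.coe_mul, Subgroup.coe_inv, hφa, Subgroup.coe_one]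
      exact hq1
    exact Cfsg.Agent.Lib.Helper97.comm_rearr hcV _ _ _ hq2
  -- trivial action on `R / Qs` of a `p'`-element of `Y` is impossible
  have hnotriv : ∀ z ∈ Y, (orderOf z).Coprime p →
      (QuotientGroup.mk' Qs z) ∈ Subgroup.centralizer (V' : Set (Γ ⧸ Qs)) →
      z ∈ Subgroup.centralizer (R : Set Γ) := by
    intro z hzY hzcop hz
    apply mem_centralizer_of_coprime_of_series R Qs hRp hQsR z hzcop (hQscent z hzY hzcop)
    intro r hr
    rw [← QuotientGroup.eq_one_iff, ← QuotientGroup.mk'_apply]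
    have h1 := (Subgroup.mem_centralizer_iff.mp hz) (QuotientGroup.mk' Qs r)
      (by rw [hV']; exact Subgroup.mem_map_of_mem _ hr)
    simp only [map_mul, map_inv]
    rw [← h1]
    group
  by_cases hpairs : ∀ g : Γ ⧸ Qs, ∀ h ∈ Subgroup.closure
      ({QuotientGroup.mk' Qs a, g * QuotientGroup.mk' Qs a * g⁻¹} : Set (Γ ⧸ Qs)),
      ∃ k : ℕ, h ^ (p ^ k) ∈ Subgroup.centralizer (V' : Set (Γ ⧸ Qs))
  · -- Baer--Suzuki case
    have h1 : QuotientGroup.mk' Qs a ∈ stabCore p V' := mem_stabCore_of_pairs V' _ hpairs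
    have h2 : Y.map (QuotientGroup.mk' Qs) ≤ stabCore p V' := by
      rw [Subgroup.map_le_iff_le_comap, hY]
      apply Subgroup.normalClosure_le_normal
      rintro _ rfl
      exact h1
    obtain ⟨k, hk⟩ := exists_pow_mem_centralizer_of_mem_stabCore p V'
      (h2 (Subgroup.mem_map_of_mem _ hy₀Y))
    have hzcop : (orderOf (y₀ ^ (p ^ k))).Coprime p :=
      Nat.Coprime.coprime_dvd_left (orderOf_pow_dvd _) hy₀cop
    have hzY : y₀ ^ (p ^ k) ∈ Y := pow_mem hy₀Y _
    have hzR := hnotriv _ hzY hzcop (by rw [map_pow]; exact hk)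
    have hcop' : (p ^ k).Coprime (orderOf y₀) := (Nat.Coprime.pow_right k hy₀cop).symm
    obtain ⟨m, hm⟩ := exists_pow_eq_self_of_coprime hcop'
    apply hbad
    rw [← hm]
    exact pow_mem hzR m
  · -- natural `SL₂(p)` case
    obtain ⟨g', hg'⟩ := not_forall.mp hpairs
    letI : CommGroup ↥V' := { (inferInstance : Group ↥V') with mul_comm := hcV }
    obtain ⟨hb, E, hhb, hE_add, hE_inj, hE_range, hEa, hEa'⟩ :=
      exists_natural_data (strongDickson_of_weak p hp2
        (fun F _ _ _ H hH => Cfsg.Agent.S0274.result p hp2 H hH)) (A := ↥V') hVexp φ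
        V'.subtype V'.subtype_injective (fun g v => hφa g v)
        (QuotientGroup.mk' Qs a) (g' * QuotientGroup.mk' Qs a * g'⁻¹)
        (hquadφ _ hquad') (hquadφ _ (Cfsg.Agent.Lib.Helper97.quad_conj hquad' g'))
        (by
          intro hall
          apply hg'
          intro h hh
          obtain ⟨k, hk⟩ := hall h hh
          refine ⟨k, ?_⟩
          rw [hφ] at hk
          exact (mem_ker_conjNormal V' _).mp hk)
    obtain ⟨h₁, hh₁⟩ := hsurj hb
    obtain ⟨m, hmR, hm⟩ : ∃ m ∈ R, QuotientGroup.mk' Qs m = E ![1, 0] := by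
      obtain ⟨v, hv⟩ := hE_range ![1, 0]
      have hv2 : (v : Γ ⧸ Qs) ∈ R.map (QuotientGroup.mk' Qs) := by rw [← hV']; exact v.2
      obtain ⟨m, hmR, hm⟩ := hv2
      exact ⟨m, hmR, by rw [hm]; exact hv⟩
    have ha' : QuotientGroup.mk' Qs (h₁ * a * h₁⁻¹) = hb * QuotientGroup.mk' Qs a * hb⁻¹ := by
      rw [map_mul, map_mul, map_inv, hh₁]
    refine false_of_natural_over_central_odd hp2 hst Qs (hRp.to_le hQsR) E hE_add hE_inj ?_
      a (h₁ * a * h₁⁻¹) ?_ ?_ ?_
    · rintro v ⟨x, hx⟩ k hk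
      have hvR : v ∈ R := by
        obtain ⟨u, hu⟩ := hE_range x
        have hu2 : (u : Γ ⧸ Qs) ∈ R.map (QuotientGroup.mk' Qs) := by rw [← hV']; exact u.2
        obtain ⟨r, hrR, hr⟩ := hu2
        have h1 : QuotientGroup.mk' Qs (r⁻¹ * v) = 1 := by
          rw [map_mul, map_inv, hr, ← hx, ← hu]
          exact inv_mul_cancel _
        have h2 : r⁻¹ * v ∈ Qs := (QuotientGroup.eq_one_iff _).mp h1
        have e : v = r * (r⁻¹ * v) := by group
        rw [e]
        exact R.mul_mem hrR (hQsR h2)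
      exact hRcomm v hvR k hk
    · rw [mem_liftPairs]
      exact hEa
    · rw [mem_liftPairs, ha']
      exact hEa'
    · intro g hg hgc
      refine hQscent g ?_ hgc
      refine (Subgroup.closure_le Y).mpr ?_ hg
      rintro x (rfl | rfl)
      · exact haY
      · exact hYn.conj_mem _ haY h₁

/-- **Lemma Z'.** If all `p'`-elements of the `p`-stable group `G` (`p ≥ 5`) centralize the normal
`p`-subgroup `Q`, then `G ⧸ Q` is `p`-stable in the normalizer form. -/
theorem isNormalizerPStable_quotient_of_hyper_odd {G : Type u} [Group G] [Finite G] {p : ℕ}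
    [Fact p.Prime] (hp2 : p ≠ 2) (hst : IsNormalizerPStable p G) (Q : Subgroup G) [hQn : Q.Normal]
    (hQp : IsPGroup p Q)
    (hQc : ∀ y : G, (orderOf y).Coprime p → y ∈ Subgroup.centralizer (Q : Set G)) :
    IsNormalizerPStable p (G ⧸ Q) := by
  classical
  have hpp : p.Prime := Fact.out
  intro Pb hPb gb hgb hquad
  have hsurj := QuotientGroup.mk'_surjective Q
  obtain ⟨g, hg⟩ := hsurj gb
  obtain ⟨Nb, hNb⟩ : ∃ Nb : Subgroup (G ⧸ Q), Nb = Subgroup.normalizer (Pb : Set (G ⧸ Q)) :=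
    ⟨_, rfl⟩
  obtain ⟨N, hN⟩ : ∃ N : Subgroup G, N = Nb.comap (QuotientGroup.mk' Q) := ⟨_, rfl⟩
  obtain ⟨P, hP⟩ : ∃ P : Subgroup G, P = Pb.comap (QuotientGroup.mk' Q) := ⟨_, rfl⟩
  have hPp : IsPGroup p P := by
    rw [hP]
    apply hPb.comap_of_ker_isPGroup
    rw [QuotientGroup.ker_mk']
    exact hQp
  have hPN : P ≤ N := by
    rw [hP, hN, hNb]
    exact Subgroup.comap_mono Subgroup.le_normalizer
  have hgN : g ∈ N := by
    rw [hN, Subgroup.mem_comap, hg, hNb]
    exact hgb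
  have hPmap : P.map (QuotientGroup.mk' Q) = Pb := by
    rw [hP]; exact Subgroup.map_comap_eq_self_of_surjective hsurj Pb
  -- quadratic action modulo `Q`
  have hq1 : ⁅⁅P, Subgroup.zpowers g⁆, Subgroup.zpowers g⁆ ≤ Q := by
    have h1 : (⁅⁅P, Subgroup.zpowers g⁆, Subgroup.zpowers g⁆).map (QuotientGroup.mk' Q) = ⊥ := by
      rw [Subgroup.map_commutator, Subgroup.map_commutator, MonoidHom.map_zpowers, hPmap, hg]
      exact hquad
    rw [Subgroup.map_eq_bot_iff, QuotientGroup.ker_mk'] at h1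
    exact h1
  have hstN : IsNormalizerPStable p ↥N := Cfsg.Agent.S3836.result hst N
  have hRn : (P.subgroupOf N).Normal := by
    have h1 : (Pb.subgroupOf Nb).Normal := by rw [hNb]; exact Subgroup.normal_in_normalizer
    have h2 : P.subgroupOf N = (Pb.subgroupOf Nb).comap
        ((QuotientGroup.mk' Q).subgroupComap Nb |>.comp (MulEquiv.subgroupCongr hN).toMonoidHom) := by
      ext x
      rw [Subgroup.mem_subgroupOf, Subgroup.mem_comap, Subgroup.mem_subgroupOf, hP]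
      rfl
    rw [h2]
    exact h1.comap _
  have hRp : IsPGroup p ↥(P.subgroupOf N) := hPp.comap_subtype
  have hq2 : ⁅⁅P.subgroupOf N, Subgroup.zpowers (⟨g, hgN⟩ : ↥N)⁆,
      Subgroup.zpowers (⟨g, hgN⟩ : ↥N)⁆ ≤ Q.subgroupOf N := by
    show _ ≤ Q.comap N.subtype
    rw [← Subgroup.map_le_iff_le_comap]
    rw [Subgroup.map_commutator, Subgroup.map_commutator, MonoidHom.map_zpowers,
      Subgroup.map_subgroupOf_eq_of_le hPN]
    exact hq1
  have hQ₀ : ∀ y : ↥N, (orderOf y).Coprime p →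
      y ∈ Subgroup.centralizer ((Q.subgroupOf N : Subgroup ↥N) : Set ↥N) := by
    intro y hy
    rw [Subgroup.mem_centralizer_iff]
    intro x hx
    have h1 := hQc (y : G) (by rw [Subgroup.orderOf_coe]; exact hy)
    apply Subtype.ext
    exact (Subgroup.mem_centralizer_iff.mp h1) (x : G) (Subgroup.mem_subgroupOf.mp hx)
  have key := centralizes_of_quadratic_mod_hyper_odd hp2 hstN (Q.subgroupOf N) hQ₀ ⟨g, hgN⟩
    (Nat.card ↥(P.subgroupOf N)) (P.subgroupOf N) hRn hRp rfl hq2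
  -- the homomorphism to the quotient
  subst hN
  obtain ⟨f, hf⟩ : ∃ f : ↥(Nb.comap (QuotientGroup.mk' Q)) →* ↥Nb,
    f = (QuotientGroup.mk' Q).subgroupComap Nb := ⟨_, rfl⟩
  have hfsurj : Function.Surjective f := by
    rw [hf]; exact MonoidHom.subgroupComap_surjective_of_surjective _ _ hsurj
  have hfa : ∀ x, ((f x : ↥Nb) : G ⧸ Q) = QuotientGroup.mk' Q (x : G) := by
    intro x; rw [hf]; rfl
  subst hNb
  set C' := (Subgroup.centralizer (Pb : Set (G ⧸ Q))).subgroupOf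
    (Subgroup.normalizer (Pb : Set (G ⧸ Q))) with hC'
  set ψ := (QuotientGroup.mk' C').comp f with hψ
  have hψsurj : Function.Surjective ψ := (QuotientGroup.mk'_surjective C').comp hfsurj
  set D := Subgroup.normalClosure ({(⟨g, hgN⟩ : ↥((Subgroup.normalizer (Pb : Set (G ⧸ Q))).comap
    (QuotientGroup.mk' Q)))} : Set _) with hD
  have hDn : (D.map ψ).Normal := Subgroup.Normal.map inferInstance ψ hψsurj
  have hDp : IsPGroup p ↥(D.map ψ) := by
    rintro ⟨_, d, hd, rfl⟩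
    have ho : orderOf d ≠ 0 := (orderOf_pos d).ne'
    obtain ⟨m, n', hn', hmn⟩ := Nat.exists_eq_pow_mul_and_not_dvd ho p hpp.ne_one
    have hzo : orderOf (d ^ (p ^ m)) ∣ n' := by
      apply orderOf_dvd_of_pow_eq_one
      rw [← pow_mul, ← hmn]
      exact pow_orderOf_eq_one d
    have hcop : (orderOf (d ^ (p ^ m))).Coprime p :=
      Nat.Coprime.coprime_dvd_left hzo ((Nat.Prime.coprime_iff_not_dvd hpp).mpr hn').symm
    have hzC := key (d ^ (p ^ m)) (pow_mem hd _) hcop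
    refine ⟨m, Subtype.ext ?_⟩
    rw [Subgroup.coe_pow, Subgroup.coe_one, ← map_pow]
    show (QuotientGroup.mk' C') (f (d ^ (p ^ m))) = 1
    refine (QuotientGroup.eq_one_iff _).mpr ?_
    rw [hC', Subgroup.mem_subgroupOf, Subgroup.mem_centralizer_iff]
    intro xb hxb
    rw [← hPmap] at hxb
    obtain ⟨x, hx, rfl⟩ := hxb
    have h1 := (Subgroup.mem_centralizer_iff.mp hzC) ⟨x, hPN hx⟩ (by
      rw [SetLike.mem_coe, Subgroup.mem_subgroupOf]; exact hx)
    have h2 := congrArg (fun t : ↥((Subgroup.normalizer (Pb : Set (G ⧸ Q))).comap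
      (QuotientGroup.mk' Q)) => QuotientGroup.mk' Q (t : G)) h1
    simp only [Subgroup.coe_mul, map_mul] at h2
    rw [hfa]
    exact h2
  have hmem := Cfsg.Agent.Lib.Helper97.le_pCore_of_normal hDn hDp
    (Subgroup.mem_map_of_mem ψ (Subgroup.subset_normalClosure (Set.mem_singleton _)))
  have hψa : ψ ⟨g, hgN⟩ = QuotientGroup.mk (s := C') (⟨gb, hgb⟩ : ↥(Subgroup.normalizer
      (Pb : Set (G ⧸ Q)))) := by
    show QuotientGroup.mk' C' (f ⟨g, hgN⟩) = _
    rw [QuotientGroup.mk'_apply]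
    congr 1
    apply Subtype.ext
    rw [hfa]
    exact hg
  rw [hψa] at hmem
  exact hmem

end Cfsg.Agent.Lib.Helper10
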