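import Mathlib
import Cfsg.Agent.S0199

/-!
# Groups in which no element inverts an element of odd prime order

`NoInv G`: no `v : G` inverts (by conjugation) an element `x` of odd prime order.
Such a group has all involutions in a normal 2-subgroup (Baer--Suzuki), the property passes to
quotients by normal 2-subgroups, hence (with the odd order theorem as a hypothesis `ft`) such a
group is solvable.  Used for S4159.
-/

set_option autoImplicit false

namespace Cfsg.Agent.Lib.Helper10.NoInvert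

universe u

open scoped Pointwise

/-- No element inverts an element of odd prime order. -/
def NoInv (G : Type*) [Group G] : Prop :=
  ∀ (r : ℕ) (x v : G), r.Prime → r ≠ 2 → orderOf x = r → v * x * v⁻¹ = x⁻¹ → False

section basic

variable {G : Type*} [Group G]

theorem conj_odd_pow {x v : G} (h : v * x * v⁻¹ = x⁻¹) {j : ℕ} (hj : Odd j) :
    v ^ j * x * (v ^ j)⁻¹ = x⁻¹ := by
  have h2 : Commute (v ^ 2) x := by
    have h3 : v ^ 2 * x * (v ^ 2)⁻¹ = x := by
      have e1 : v ^ 2 * x * (v ^ 2)⁻¹ = v * (v * x * v⁻¹) * v⁻¹ := by rw [pow_two]; group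
      rw [e1, h]
      have e2 : v * x⁻¹ * v⁻¹ = (v * x * v⁻¹)⁻¹ := by group
      rw [e2, h, inv_inv]
    show v ^ 2 * x = x * v ^ 2
    calc v ^ 2 * x = (v ^ 2 * x * (v ^ 2)⁻¹) * v ^ 2 := by group
      _ = x * v ^ 2 := by rw [h3]
  obtain ⟨i, rfl⟩ := hj
  have hc : Commute ((v ^ 2) ^ i) x⁻¹ := (h2.pow_left i).inv_right
  have e3 : v ^ (2 * i + 1) = (v ^ 2) ^ i * v := by rw [pow_succ, pow_mul]
  rw [e3]
  calc (v ^ 2) ^ i * v * x * ((v ^ 2) ^ i * v)⁻¹
      = (v ^ 2) ^ i * (v * x * v⁻¹) * ((v ^ 2) ^ i)⁻¹ := by group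
    _ = (v ^ 2) ^ i * x⁻¹ * ((v ^ 2) ^ i)⁻¹ := by rw [h]
    _ = x⁻¹ := by rw [hc.eq]; group

theorem conj_pow_inv {x v : G} (h : v * x * v⁻¹ = x⁻¹) (j : ℕ) :
    v * x ^ j * v⁻¹ = (x ^ j)⁻¹ := by
  rw [← conj_pow, h, inv_pow]

theorem conj_zpow_inv {x v : G} (h : v * x * v⁻¹ = x⁻¹) (j : ℤ) :
    v * x ^ j * v⁻¹ = (x ^ j)⁻¹ := by
  rw [← conj_zpow, h, inv_zpow]

theorem inv_conj_of_inverts {x v : G} (h : v * x * v⁻¹ = x⁻¹) : v⁻¹ * x * v⁻¹⁻¹ = x⁻¹ := by
  have e : x = v⁻¹ * x⁻¹ * v := by rw [← h]; group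
  calc v⁻¹ * x * v⁻¹⁻¹ = (v⁻¹ * x⁻¹ * v)⁻¹ := by group
    _ = x⁻¹ := by rw [← e]

theorem mem_normalizer_zpowers_of_inverts {x v : G} (h : v * x * v⁻¹ = x⁻¹) :
    v ∈ Subgroup.normalizer (Subgroup.zpowers x : Set G) := by
  rw [Subgroup.mem_normalizer_iff]
  intro y
  constructor
  · rintro ⟨k, rfl⟩
    rw [conj_zpow_inv h]
    exact (Subgroup.zpowers x).inv_mem ⟨k, rfl⟩
  · rintro ⟨k, hk⟩
    have hy : y = v⁻¹ * x ^ k * v⁻¹⁻¹ := by
      have : x ^ k = v * y * v⁻¹ := hk
      rw [this]; group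
    rw [hy, conj_zpow_inv (inv_conj_of_inverts h)]
    exact (Subgroup.zpowers x).inv_mem ⟨k, rfl⟩

/-- an element which is both an `r`-element and a `2`-element (`r` odd prime) is trivial -/
theorem eq_one_of_pow_pow {r : ℕ} (hr : r.Prime) (hr2 : r ≠ 2) {u : G} {k l : ℕ}
    (h1 : u ^ (r ^ k) = 1) (h2 : u ^ (2 ^ l) = 1) : u = 1 := by
  have d1 := orderOf_dvd_of_pow_eq_one h1
  have d2 := orderOf_dvd_of_pow_eq_one h2
  have hcop : Nat.Coprime (r ^ k) (2 ^ l) :=
    Nat.Coprime.pow _ _ ((Nat.coprime_primes hr Nat.prime_two).mpr hr2)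
  have := Nat.eq_one_of_dvd_coprimes hcop d1 d2
  exact orderOf_eq_one_iff.mp this

end basic

section stepA

variable {G : Type*} [Group G] [Finite G]

/-- Step A, the 2-element case. -/
theorem false_of_classSizes_aux
    (h : ∀ (H : Subgroup G) (x y : H),
      1 < (Subgroup.centralizer ({x} : Set H)).index →
      1 < (Subgroup.centralizer ({y} : Set H)).index →
      ¬ ((Subgroup.centralizer ({x} : Set H)).index).Coprime
        (Subgroup.centralizer ({y} : Set H)).index)
    {r a : ℕ} {x v : G} (hr : r.Prime) (hr2 : r ≠ 2) (hx : orderOf x = r)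
    (hv : orderOf v = 2 ^ a) (hinv : v * x * v⁻¹ = x⁻¹) : False := by
  classical
  set A : Subgroup G := Subgroup.zpowers x with hA
  set V : Subgroup G := Subgroup.zpowers v with hV
  have hVA : V ≤ Subgroup.normalizer (A : Set G) :=
    Subgroup.zpowers_le.mpr (mem_normalizer_zpowers_of_inverts hinv)
  set H : Subgroup G := V ⊔ A with hH
  have hxH : x ∈ H := Subgroup.mem_sup_right (Subgroup.mem_zpowers x)
  have hvH : v ∈ H := Subgroup.mem_sup_left (Subgroup.mem_zpowers v)
  have hcop : Nat.Coprime (2 ^ a) r :=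
    Nat.Coprime.pow_left _ ((Nat.coprime_primes Nat.prime_two hr).mpr (Ne.symm hr2))
  -- cardinality of H
  have hcardA : Nat.card A = r := by rw [hA, Nat.card_zpowers, hx]
  have hcardV : Nat.card V = 2 ^ a := by rw [hV, Nat.card_zpowers, hv]
  have hle : Nat.card H ≤ 2 ^ a * r := by
    have e1 : Nat.card H = Nat.card ((H : Set G)) := rfl
    rw [e1, hH, Subgroup.coe_mul_of_left_le_normalizer_right V A hVA]
    calc Nat.card ((V : Set G) * (A : Set G)) ≤ Nat.card (V : Set G) * Nat.card (A : Set G) :=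
          Set.natCard_mul_le
      _ = 2 ^ a * r := by
          have e2 : Nat.card (V : Set G) = Nat.card V := rfl
          have e3 : Nat.card (A : Set G) = Nat.card A := rfl
          rw [e2, e3, hcardA, hcardV]
  have hdvd : 2 ^ a * r ∣ Nat.card H := by
    apply Nat.Coprime.mul_dvd_of_dvd_of_dvd hcop
    · rw [← hcardV]; exact Subgroup.card_dvd_of_le le_sup_left
    · rw [← hcardA]; exact Subgroup.card_dvd_of_le le_sup_right
  have hcardH : Nat.card H = 2 ^ a * r :=
    le_antisymm hle (Nat.le_of_dvd Nat.card_pos hdvd)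
  -- the two elements of H
  set xH : H := ⟨x, hxH⟩ with hxH'
  set vH : H := ⟨v, hvH⟩ with hvH'
  have hox : orderOf xH = r := by rw [← hx, ← Subgroup.orderOf_coe]
  have hov : orderOf vH = 2 ^ a := by rw [← hv, ← Subgroup.orderOf_coe]
  -- they do not commute
  have hnc : xH * vH ≠ vH * xH := by
    intro hc
    have hc' : x * v = v * x := congrArg Subtype.val hc
    have e : x = x⁻¹ := by
      calc x = v * x * v⁻¹ := by rw [← hc']; group
        _ = x⁻¹ := hinv
    have hx2 : x ^ 2 = 1 := by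
      rw [pow_two]
      calc x * x = x * x⁻¹ := by rw [← e]
        _ = 1 := mul_inv_cancel x
    have := orderOf_dvd_of_pow_eq_one hx2
    rw [hx] at this
    exact hr2 ((Nat.prime_dvd_prime_iff_eq hr Nat.prime_two).mp this)
  have hix : 1 < (Subgroup.centralizer ({xH} : Set H)).index := by
    rw [Nat.one_lt_iff_ne_zero_and_ne_one]
    refine ⟨Subgroup.index_ne_zero_of_finite, fun h1 => hnc ?_⟩
    rw [Subgroup.index_eq_one] at h1
    have : vH ∈ Subgroup.centralizer ({xH} : Set H) := h1 ▸ Subgroup.mem_top vH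
    exact (Subgroup.mem_centralizer_singleton_iff.mp this).symm
  have hiv : 1 < (Subgroup.centralizer ({vH} : Set H)).index := by
    rw [Nat.one_lt_iff_ne_zero_and_ne_one]
    refine ⟨Subgroup.index_ne_zero_of_finite, fun h1 => hnc ?_⟩
    rw [Subgroup.index_eq_one] at h1
    have : xH ∈ Subgroup.centralizer ({vH} : Set H) := h1 ▸ Subgroup.mem_top xH
    exact Subgroup.mem_centralizer_singleton_iff.mp this
  -- divisibility of the indices
  have hdx : (Subgroup.centralizer ({xH} : Set H)).index ∣ 2 ^ a := by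
    have hle' : Subgroup.zpowers xH ≤ Subgroup.centralizer ({xH} : Set H) :=
      Subgroup.zpowers_le.mpr (Subgroup.mem_centralizer_singleton_iff.mpr rfl)
    obtain ⟨c, hc⟩ := Subgroup.card_dvd_of_le hle'
    rw [Nat.card_zpowers, hox] at hc
    have hmul := Subgroup.index_mul_card (Subgroup.centralizer ({xH} : Set H))
    rw [hc, hcardH] at hmul
    refine ⟨c, ?_⟩
    have hrpos : 0 < r := hr.pos
    have : r * ((Subgroup.centralizer ({xH} : Set H)).index * c) = r * 2 ^ a := by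
      rw [mul_comm r (2 ^ a), ← hmul]; ring
    exact (Nat.eq_of_mul_eq_mul_left hrpos this).symm
  have hdv : (Subgroup.centralizer ({vH} : Set H)).index ∣ r := by
    have hle' : Subgroup.zpowers vH ≤ Subgroup.centralizer ({vH} : Set H) :=
      Subgroup.zpowers_le.mpr (Subgroup.mem_centralizer_singleton_iff.mpr rfl)
    obtain ⟨c, hc⟩ := Subgroup.card_dvd_of_le hle'
    rw [Nat.card_zpowers, hov] at hc
    have hmul := Subgroup.index_mul_card (Subgroup.centralizer ({vH} : Set H))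
    rw [hc, hcardH] at hmul
    refine ⟨c, ?_⟩
    have hpos : 0 < 2 ^ a := by positivity
    have : 2 ^ a * ((Subgroup.centralizer ({vH} : Set H)).index * c) = 2 ^ a * r := by
      rw [← hmul]; ring
    exact (Nat.eq_of_mul_eq_mul_left hpos this).symm
  exact h H xH vH hix hiv (Nat.Coprime.of_dvd hdx hdv hcop)

/-- Step A: the class-size hypothesis gives `NoInv`. -/
theorem noInv_of_classSizes
    (h : ∀ (H : Subgroup G) (x y : H),
      1 < (Subgroup.centralizer ({x} : Set H)).index →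
      1 < (Subgroup.centralizer ({y} : Set H)).index →
      ¬ ((Subgroup.centralizer ({x} : Set H)).index).Coprime
        (Subgroup.centralizer ({y} : Set H)).index) : NoInv G := by
  intro r x v0 hr hr2 hx hinv
  obtain ⟨a, m, hm, hov⟩ := Nat.exists_eq_two_pow_mul_odd (orderOf_pos v0).ne'
  have hm0 : m ≠ 0 := fun h0 => by rw [h0] at hm; exact absurd hm (by decide)
  have hv : orderOf (v0 ^ m) = 2 ^ a := by
    rw [orderOf_pow_of_dvd hm0 ⟨2 ^ a, by rw [hov]; ring⟩, hov]
    exact Nat.mul_div_cancel _ (Nat.pos_of_ne_zero hm0)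
  exact false_of_classSizes_aux h hr hr2 hx hv (conj_odd_pow hinv hm)

end stepA

section step1

variable {G : Type*} [Group G] [Finite G]

/-- Step 1: in a `NoInv` group an involution and any conjugate of it generate a 2-group. -/
theorem isPGroup_sup_conj_of_noInv (hG : NoInv G) {s : G} (hs : orderOf s = 2) (g : G) :
    IsPGroup 2 ↥(Subgroup.zpowers s ⊔
      (Subgroup.zpowers s).map (MulAut.conj g).toMonoidHom) := by
  have : Fact (Nat.Prime 2) := ⟨Nat.prime_two⟩
  have hss : s * s = 1 := by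
    have := pow_orderOf_eq_one s
    rwa [hs, pow_two] at this
  have hsinv : s⁻¹ = s := inv_eq_of_mul_eq_one_left hss
  obtain ⟨t, ht⟩ : ∃ t : G, t = g * s * g⁻¹ := ⟨_, rfl⟩
  have htt : t * t = 1 := by
    calc t * t = g * (s * s) * g⁻¹ := by rw [ht]; group
      _ = 1 := by rw [hss]; group
  have htinv : t⁻¹ = t := inv_eq_of_mul_eq_one_left htt
  obtain ⟨w, hw⟩ : ∃ w : G, w = s * t := ⟨_, rfl⟩
  have hinv : s * w * s⁻¹ = w⁻¹ := by
    calc s * w * s⁻¹ = (s * s) * t * s⁻¹ := by rw [hw]; group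
      _ = t⁻¹ * s⁻¹ := by rw [hss, one_mul, htinv]
      _ = w⁻¹ := by rw [hw, mul_inv_rev]
  -- the order of `w` is a power of 2
  have hwpow : orderOf w = 2 ^ (orderOf w).primeFactorsList.length := by
    apply Nat.eq_prime_pow_of_unique_prime_dvd (orderOf_pos w).ne'
    intro r hr hrd
    by_contra hr2
    have hx : orderOf (w ^ (orderOf w / r)) = r :=
      orderOf_pow_orderOf_div (orderOf_pos w).ne' hrd
    exact hG r _ s hr hr2 hx (conj_pow_inv hinv _)
  have hW : IsPGroup 2 (Subgroup.zpowers w) :=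
    IsPGroup.of_card (n := (orderOf w).primeFactorsList.length)
      (by rw [Nat.card_zpowers]; exact hwpow)
  have hS : IsPGroup 2 (Subgroup.zpowers s) :=
    IsPGroup.of_card (n := 1) (by rw [Nat.card_zpowers, hs, pow_one])
  have hSW : Subgroup.zpowers s ≤ Subgroup.normalizer (Subgroup.zpowers w : Set G) :=
    Subgroup.zpowers_le.mpr (mem_normalizer_zpowers_of_inverts hinv)
  have hsup : IsPGroup 2 ↥(Subgroup.zpowers s ⊔ Subgroup.zpowers w) :=
    IsPGroup.to_sup_of_normal_right' hS hW hSW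
  refine hsup.to_le (sup_le le_sup_left ?_)
  rw [MonoidHom.map_zpowers, Subgroup.zpowers_le]
  have e : (MulAut.conj g).toMonoidHom s = s⁻¹ * w := by
    simp only [MulEquiv.toMonoidHom_eq_coe, MonoidHom.coe_coe, MulAut.conj_apply]
    rw [hw, ht]; group
  rw [e]
  exact Subgroup.mul_mem _ (Subgroup.inv_mem _ (Subgroup.mem_sup_left (Subgroup.mem_zpowers s)))
    (Subgroup.mem_sup_right (Subgroup.mem_zpowers w))

end step1

section lifting

variable {G : Type*} [Group G] [Finite G]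

/-- Lifting: `NoInv` passes to the quotient by a normal 2-subgroup. -/
theorem noInv_quotient (hG : NoInv G) (Q : Subgroup G) [Q.Normal] (hQ : IsPGroup 2 Q) :
    NoInv (G ⧸ Q) := by
  intro r X V hr hr2 hX hinv
  have : Fact r.Prime := ⟨hr⟩
  obtain ⟨x0, rfl⟩ := QuotientGroup.mk_surjective X
  obtain ⟨v0, rfl⟩ := QuotientGroup.mk_surjective V
  -- a lift `x` of order `r`
  have hx0r : x0 ^ r ∈ Q := by
    rw [← QuotientGroup.eq_one_iff, QuotientGroup.mk_pow, ← hX]
    exact pow_orderOf_eq_one _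
  obtain ⟨l, hl⟩ := hQ ⟨x0 ^ r, hx0r⟩
  have hl' : (x0 ^ r) ^ (2 ^ l) = 1 := by
    have := congrArg Subtype.val hl
    simpa using this
  have hcop : Nat.Coprime (2 ^ l) r :=
    Nat.Coprime.pow_left _ ((Nat.coprime_primes Nat.prime_two hr).mpr (Ne.symm hr2))
  obtain ⟨c, -, hc⟩ := Nat.exists_mul_mod_eq_one_of_coprime hcop hr.one_lt
  obtain ⟨x, hxdef⟩ : ∃ x : G, x = x0 ^ (2 ^ l * c) := ⟨_, rfl⟩
  have hxr : x ^ r = 1 := by
    rw [hxdef, ← pow_mul]
    have e : 2 ^ l * c * r = r * 2 ^ l * c := by ring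
    rw [e, pow_mul, pow_mul, hl', one_pow]
  have hxX : (x : G ⧸ Q) = (x0 : G ⧸ Q) := by
    rw [hxdef, QuotientGroup.mk_pow, ← pow_mod_orderOf, hX, hc, pow_one]
  have hX1 : (x0 : G ⧸ Q) ≠ 1 := by
    intro h1
    rw [h1, orderOf_one] at hX
    exact hr.ne_one hX.symm
  have hx1 : x ≠ 1 := by
    intro h1
    apply hX1
    rw [← hxX, h1]; rfl
  have hxo : orderOf x = r := orderOf_eq_prime hxr hx1
  rw [← hxX] at hinv hX
  -- the subgroup `Y` = preimage of `⟨X⟩`
  set π : G →* G ⧸ Q := QuotientGroup.mk' Q with hπ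
  set Y : Subgroup G := Subgroup.comap π (Subgroup.zpowers (π x)) with hY
  have hxY : x ∈ Y := Subgroup.mem_comap.mpr (Subgroup.mem_zpowers _)
  obtain ⟨x', hx'⟩ : ∃ x' : G, x' = v0 * x * v0⁻¹ := ⟨_, rfl⟩
  have hπx' : π x' = (π x)⁻¹ := by
    rw [hx', map_mul, map_mul, map_inv]; exact hinv
  have hx'Y : x' ∈ Y := by
    rw [hY, Subgroup.mem_comap, hπx']
    exact Subgroup.inv_mem _ (Subgroup.mem_zpowers _)
  have hx'o : orderOf x' = r := by
    have e : x' = MulAut.conj v0 x := by rw [hx', MulAut.conj_apply]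
    rw [e, MulEquiv.orderOf_eq]; exact hxo
  -- Sylow's theorem in `Y`
  have hP1 : IsPGroup r (Subgroup.zpowers (⟨x, hxY⟩ : Y)) :=
    IsPGroup.of_card (n := 1) (by rw [Nat.card_zpowers, Subgroup.orderOf_mk, hxo, pow_one])
  have hP2 : IsPGroup r (Subgroup.zpowers (⟨x', hx'Y⟩ : Y)) :=
    IsPGroup.of_card (n := 1) (by rw [Nat.card_zpowers, Subgroup.orderOf_mk, hx'o, pow_one])
  obtain ⟨P, hP⟩ := hP1.exists_le_sylow
  obtain ⟨P', hP'⟩ := hP2.exists_le_sylow
  obtain ⟨y, hy⟩ := MulAction.exists_smul_eq Y P' P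
  have hxP : (⟨x, hxY⟩ : Y) ∈ P := hP (Subgroup.mem_zpowers _)
  have hzP : y * (⟨x', hx'Y⟩ : Y) * y⁻¹ ∈ P := by
    have h1 : (⟨x', hx'Y⟩ : Y) ∈ P' := hP' (Subgroup.mem_zpowers _)
    have h2 : MulAut.conj y • (⟨x', hx'Y⟩ : Y) ∈ MulAut.conj y • (P' : Subgroup Y) :=
      Subgroup.smul_mem_pointwise_smul _ _ _ h1
    rw [← hy]
    exact h2
  -- `u = z * x` is trivial
  have hyY : (y : G) ∈ Y := y.2
  obtain ⟨i, hi⟩ : ∃ i : ℤ, (π x) ^ i = π (y : G) := by
    exact Subgroup.mem_zpowers_iff.mp (Subgroup.mem_comap.mp hyY)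
  have huP : y * (⟨x', hx'Y⟩ : Y) * y⁻¹ * ⟨x, hxY⟩ ∈ P := P.mul_mem hzP hxP
  obtain ⟨k, hk⟩ := P.isPGroup' ⟨_, huP⟩
  have hk' : ((y : G) * x' * (y : G)⁻¹ * x) ^ (r ^ k) = 1 := by
    have := congrArg (fun z : P => ((z : Y) : G)) hk
    simpa using this
  have huQ : (y : G) * x' * (y : G)⁻¹ * x ∈ Q := by
    rw [← QuotientGroup.eq_one_iff]
    show π ((y : G) * x' * (y : G)⁻¹ * x) = 1
    rw [map_mul, map_mul, map_mul, map_inv, hπx', ← hi]
    group
  obtain ⟨l2, hl2⟩ := hQ ⟨_, huQ⟩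
  have hl2' : ((y : G) * x' * (y : G)⁻¹ * x) ^ (2 ^ l2) = 1 := by
    have := congrArg Subtype.val hl2
    simpa using this
  have hu1 : (y : G) * x' * (y : G)⁻¹ * x = 1 := eq_one_of_pow_pow hr hr2 hk' hl2'
  -- conclusion
  refine hG r x ((y : G) * v0) hr hr2 hxo ?_
  calc (y : G) * v0 * x * ((y : G) * v0)⁻¹ = (y : G) * x' * (y : G)⁻¹ := by rw [hx']; group
    _ = x⁻¹ := eq_inv_of_mul_eq_one_left hu1

end lifting

section main

/-- Main induction: with the odd order theorem as a hypothesis, a `NoInv` group is solvable. -/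
theorem isSolvable_of_noInv
    (ft : ∀ (K : Type u) [Group K] [Finite K], Odd (Nat.card K) → Group.IsSolvable K) :
    ∀ (n : ℕ) (G : Type u) [Group G] [Finite G], Nat.card G = n → NoInv G →
      Group.IsSolvable G := by
  intro n
  induction n using Nat.strong_induction_on with
  | _ n ih =>
    intro G _ _ hn hG
    by_cases hodd : Odd (Nat.card G)
    · exact ft G hodd
    · have : Fact (Nat.Prime 2) := ⟨Nat.prime_two⟩
      have h2 : 2 ∣ Nat.card G := even_iff_two_dvd.mp (Nat.not_odd_iff_even.mp hodd)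
      obtain ⟨s, hs⟩ := exists_prime_orderOf_dvd_card' 2 h2
      have hS : IsPGroup 2 (Subgroup.zpowers s) :=
        IsPGroup.of_card (n := 1) (by rw [Nat.card_zpowers, hs, pow_one])
      obtain ⟨N, hNn, hNp, hsN⟩ := Cfsg.Agent.S0199.result (p := 2) (Subgroup.zpowers s) hS
        (fun g => isPGroup_sup_conj_of_noInv hG hs g)
      have hcard : Nat.card (G ⧸ N) < Nat.card G := by
        rw [Subgroup.card_eq_card_quotient_mul_card_subgroup N]
        have h2N : 2 ≤ Nat.card N := by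
          have : orderOf s ∣ Nat.card N := by
            have := Subgroup.card_dvd_of_le hsN
            rwa [Nat.card_zpowers] at this
          rw [hs] at this
          exact Nat.le_of_dvd Nat.card_pos this
        have hpos : 0 < Nat.card (G ⧸ N) := Nat.card_pos
        nlinarith
      have hquot : Group.IsSolvable (G ⧸ N) :=
        ih _ (hn ▸ hcard) (G ⧸ N) rfl (noInv_quotient hG N hNp)
      have hNs : Group.IsSolvable N := by
        have := hNp.isNilpotent
        infer_instance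
      exact Group.isSolvable_of_ker_le_range N.subtype (QuotientGroup.mk' N) (by simp)

end main

end Cfsg.Agent.Lib.Helper10.NoInvert
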