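/-
Helper10: ASCHOE-[E-PLUS4] (hedge).  Over the field with two elements an orthogonal decomposition into
four-dimensional spaces of plus type refines to an orthogonal decomposition into anisotropic planes which
is permuted by every isometry permuting the four-dimensional spaces.
Built on helper94's `HypDec4.minusDec` / `MinusDec.frame_cases`.
-/
import Mathlib
import Cfsg.Prelude.Def_GeometricClasses
import Cfsg.Agent.Lib.Helper94.OrthFrameBridge2

set_option autoImplicit false
set_option linter.unusedSimpArgs false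
set_option linter.unusedSectionVars false
set_option linter.unusedVariables false

namespace Cfsg.Agent.Lib.Helper10.Oe

open Cfsg Cfsg.Geo Cfsg.Agent.Lib.Helper94
open scoped MatrixGroups Matrix
open LinearMap (BilinForm)
open Module

section General

variable {K V : Type*} [Field K] [AddCommGroup V] [Module K V]

/-- the plane map `c ↦ c 0 • u + c 1 • v` -/
noncomputable def pl (u v : V) : (Fin 2 → K) →ₗ[K] V :=
  (LinearMap.proj 0 : (Fin 2 → K) →ₗ[K] K).smulRight u +
    (LinearMap.proj 1 : (Fin 2 → K) →ₗ[K] K).smulRight v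

lemma pl_apply (u v : V) (c : Fin 2 → K) : pl u v c = c 0 • u + c 1 • v := by
  simp [pl]

lemma range_pl (u v : V) : LinearMap.range (pl (K := K) u v) = Submodule.span K {u, v} := by
  ext x
  rw [Submodule.mem_span_pair, LinearMap.mem_range]
  constructor
  · rintro ⟨c, rfl⟩
    exact ⟨c 0, c 1, (pl_apply u v c).symm⟩
  · rintro ⟨l, m, rfl⟩
    exact ⟨![l, m], by simp [pl_apply]⟩

/-- pairwise orthogonal subspaces on which the form is non-degenerate are independent -/
lemma iSupIndep_of_orth {ι : Type*} (B : BilinForm K V) (P : ι → Submodule K V)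
    (horth : ∀ i j, i ≠ j → ∀ x ∈ P i, ∀ y ∈ P j, B x y = 0)
    (hnd : ∀ i, ∀ x ∈ P i, (∀ y ∈ P i, B x y = 0) → x = 0) : iSupIndep P := by
  intro i
  rw [Submodule.disjoint_def]
  intro x hx hx'
  apply hnd i x hx
  intro y hy
  have hle : (⨆ j, ⨆ (_ : j ≠ i), P j) ≤ LinearMap.ker (B.flip y) := by
    refine iSup_le fun j => iSup_le fun hj => ?_
    intro z hz
    rw [LinearMap.mem_ker]
    exact horth j i hj z hz y hy
  have h1 := hle hx'
  rw [LinearMap.mem_ker] at h1
  exact h1

/-- A family of pairwise orthogonal planes with bases `u k, v k` of vectors of norm one with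
`B (u k) (v k) = 1`. -/
structure PlaneFam (B : BilinForm K V) (Q : V → K) {m : ℕ} (u v : Fin m → V) : Prop where
  Qu : ∀ k, Q (u k) = 1
  Qv : ∀ k, Q (v k) = 1
  Buv : ∀ k, B (u k) (v k) = 1
  uu : ∀ k k', k ≠ k' → B (u k) (u k') = 0
  uv : ∀ k k', k ≠ k' → B (u k) (v k') = 0
  vu : ∀ k k', k ≠ k' → B (v k) (u k') = 0
  vv : ∀ k k', k ≠ k' → B (v k) (v k') = 0

namespace PlaneFam

variable {B : BilinForm K V} {Q : V → K} {m : ℕ} {u v : Fin m → V}

lemma B_pl_pl (h : PlaneFam B Q u v) {k k' : Fin m} (hk : k ≠ k') (c c' : Fin 2 → K) :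
    B (pl (u k) (v k) c) (pl (u k') (v k') c') = 0 := by
  simp only [pl_apply, map_add, map_smul, LinearMap.add_apply, LinearMap.smul_apply,
    h.uu k k' hk, h.uv k k' hk, h.vu k k' hk, h.vv k k' hk, smul_zero, add_zero]

lemma B_pl_u (h : PlaneFam B Q u v) (hQ : QuadData B Q) (h2 : (2 : K) = 0) (k : Fin m)
    (c : Fin 2 → K) : B (pl (u k) (v k) c) (u k) = c 1 := by
  have h1 : B (u k) (u k) = 0 := by rw [hQ.self, h2, zero_mul]
  have h3 : B (v k) (u k) = 1 := by rw [hQ.symm, h.Buv]
  simp only [pl_apply, map_add, map_smul, LinearMap.add_apply, LinearMap.smul_apply, h1, h3,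
    smul_eq_mul, mul_zero, mul_one, zero_add]

lemma B_pl_v (h : PlaneFam B Q u v) (hQ : QuadData B Q) (h2 : (2 : K) = 0) (k : Fin m)
    (c : Fin 2 → K) : B (pl (u k) (v k) c) (v k) = c 0 := by
  have h1 : B (v k) (v k) = 0 := by rw [hQ.self, h2, zero_mul]
  simp only [pl_apply, map_add, map_smul, LinearMap.add_apply, LinearMap.smul_apply, h1, h.Buv,
    smul_eq_mul, mul_zero, mul_one, add_zero]

lemma pl_injective (h : PlaneFam B Q u v) (hQ : QuadData B Q) (h2 : (2 : K) = 0) (k : Fin m) :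
    Function.Injective (pl (K := K) (u k) (v k)) := by
  rw [← LinearMap.ker_eq_bot, LinearMap.ker_eq_bot']
  intro c hc
  have h0 := h.B_pl_v hQ h2 k c
  have h1 := h.B_pl_u hQ h2 k c
  rw [hc, map_zero, LinearMap.zero_apply] at h0 h1
  ext j
  fin_cases j
  · exact h0.symm
  · exact h1.symm

lemma Q_pl (h : PlaneFam B Q u v) (hQ : QuadData B Q) (k : Fin m) (c : Fin 2 → K) :
    Q (pl (u k) (v k) c) = c 0 ^ 2 + c 1 ^ 2 + c 0 * c 1 := by
  rw [pl_apply, hQ.polar, hQ.smul, hQ.smul, h.Qu, h.Qv]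
  simp only [map_smul, LinearMap.smul_apply, h.Buv, smul_eq_mul]
  ring

lemma finrank_range (h : PlaneFam B Q u v) (hQ : QuadData B Q) (h2 : (2 : K) = 0) (k : Fin m) :
    finrank K (LinearMap.range (pl (K := K) (u k) (v k))) = 2 := by
  rw [LinearMap.finrank_range_of_inj (h.pl_injective hQ h2 k), Module.finrank_fin_fun]

lemma nondeg (h : PlaneFam B Q u v) (hQ : QuadData B Q) (h2 : (2 : K) = 0) (k : Fin m)
    (x : V) (hx : x ∈ LinearMap.range (pl (K := K) (u k) (v k)))
    (hx0 : ∀ y ∈ LinearMap.range (pl (K := K) (u k) (v k)), B x y = 0) : x = 0 := by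
  obtain ⟨c, rfl⟩ := hx
  have hu : u k ∈ LinearMap.range (pl (K := K) (u k) (v k)) :=
    ⟨![1, 0], by simp [pl_apply]⟩
  have hv : v k ∈ LinearMap.range (pl (K := K) (u k) (v k)) :=
    ⟨![0, 1], by simp [pl_apply]⟩
  have h0 := hx0 _ hv
  have h1 := hx0 _ hu
  rw [h.B_pl_v hQ h2] at h0
  rw [h.B_pl_u hQ h2] at h1
  rw [pl_apply, h0, h1, zero_smul, zero_smul, add_zero]

lemma indep (h : PlaneFam B Q u v) (hQ : QuadData B Q) (h2 : (2 : K) = 0) :
    iSupIndep fun k => LinearMap.range (pl (K := K) (u k) (v k)) := by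
  apply iSupIndep_of_orth B
  · rintro i j hij _ ⟨c, rfl⟩ _ ⟨c', rfl⟩
    exact h.B_pl_pl hij c c'
  · intro i x hx hx0
    exact h.nondeg hQ h2 i x hx hx0

/-- the planes are anisotropic over the field with two elements -/
lemma Q_pl_eq_one [Fintype K] (h : PlaneFam B Q u v) (hQ : QuadData B Q)
    (hK : Fintype.card K = 2) (k : Fin m) (c : Fin 2 → K) (hc : c ≠ 0) :
    Q (pl (u k) (v k) c) = 1 := by
  rw [h.Q_pl hQ]
  rcases minus_norm hK (c 0) (c 1) with ⟨h0, h1⟩ | h1
  · exfalso
    apply hc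
    ext j
    fin_cases j
    · exact h0
    · exact h1
  · exact h1

end PlaneFam

end General

section Main

variable {n : ℕ} {F : Type*} [Field F]

/-- the index bookkeeping: planes `(ε, i)`, `ε : Fin 2`, `i : Fin t`, numbered by `Fin (2 * t)` -/
noncomputable def uvec {t : ℕ} (a a' : Fin t → (Fin n → F)) (k : Fin (2 * t)) : Fin n → F :=
  if (finProdFinEquiv.symm k).1 = 0 then a (finProdFinEquiv.symm k).2
  else a' (finProdFinEquiv.symm k).2

lemma uvec_zero {t : ℕ} (a a' : Fin t → (Fin n → F)) (i : Fin t) :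
    uvec a a' (finProdFinEquiv ((0 : Fin 2), i)) = a i := by
  simp [uvec]

lemma uvec_one {t : ℕ} (a a' : Fin t → (Fin n → F)) (i : Fin t) :
    uvec a a' (finProdFinEquiv ((1 : Fin 2), i)) = a' i := by
  simp [uvec]

lemma exists_idx {t : ℕ} (k : Fin (2 * t)) :
    ∃ i : Fin t, k = finProdFinEquiv ((0 : Fin 2), i) ∨ k = finProdFinEquiv ((1 : Fin 2), i) := by
  obtain ⟨⟨ε, i⟩, rfl⟩ := finProdFinEquiv.surjective k
  refine ⟨i, ?_⟩
  fin_cases ε
  · left; rfl
  · right; rfl

lemma planeFam_of_minusDec {Q : (Fin n → F) → F} {B : BilinForm F (Fin n → F)} {t : ℕ}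
    {D : Fin t → Submodule F (Fin n → F)} {a b a' b' : Fin t → (Fin n → F)}
    (hM : MinusDec B Q D a b a' b') (hQ : QuadData B Q) :
    PlaneFam B Q (uvec a a') (uvec b b') := by
  have key : ∀ k k' : Fin (2 * t), k ≠ k' →
      B (uvec a a' k) (uvec a a' k') = 0 ∧ B (uvec a a' k) (uvec b b' k') = 0 ∧
      B (uvec b b' k) (uvec a a' k') = 0 ∧ B (uvec b b' k) (uvec b b' k') = 0 := by
    intro k k' hkk'
    obtain ⟨i, hi⟩ := exists_idx k
    obtain ⟨j, hj⟩ := exists_idx k'
    by_cases hij : i = j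
    · subst hij
      rcases hi with rfl | rfl <;> rcases hj with rfl | rfl
      · exact absurd rfl hkk'
      · simp only [uvec_zero, uvec_one]
        exact ⟨hM.Baa' i, hM.Bab' i, hM.Bba' i, hM.Bbb' i⟩
      · simp only [uvec_zero, uvec_one]
        refine ⟨?_, ?_, ?_, ?_⟩
        · rw [hQ.symm]; exact hM.Baa' i
        · rw [hQ.symm]; exact hM.Bba' i
        · rw [hQ.symm]; exact hM.Bab' i
        · rw [hQ.symm]; exact hM.Bbb' i
      · exact absurd rfl hkk'
    · have hu : uvec a a' k ∈ D i := by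
        rcases hi with rfl | rfl
        · rw [uvec_zero]; exact hM.a_mem i
        · rw [uvec_one]; exact hM.a'_mem i
      have hv : uvec b b' k ∈ D i := by
        rcases hi with rfl | rfl
        · rw [uvec_zero]; exact hM.b_mem i
        · rw [uvec_one]; exact hM.b'_mem i
      have hu' : uvec a a' k' ∈ D j := by
        rcases hj with rfl | rfl
        · rw [uvec_zero]; exact hM.a_mem j
        · rw [uvec_one]; exact hM.a'_mem j
      have hv' : uvec b b' k' ∈ D j := by
        rcases hj with rfl | rfl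
        · rw [uvec_zero]; exact hM.b_mem j
        · rw [uvec_one]; exact hM.b'_mem j
      exact ⟨hM.orth i j hij _ hu _ hu', hM.orth i j hij _ hu _ hv', hM.orth i j hij _ hv _ hu',
        hM.orth i j hij _ hv _ hv'⟩
  refine ⟨?_, ?_, ?_, fun k k' h => (key k k' h).1, fun k k' h => (key k k' h).2.1,
    fun k k' h => (key k k' h).2.2.1, fun k k' h => (key k k' h).2.2.2⟩
  · intro k
    obtain ⟨i, rfl | rfl⟩ := exists_idx k
    · rw [uvec_zero]; exact hM.Qa i
    · rw [uvec_one]; exact hM.Qa' i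
  · intro k
    obtain ⟨i, rfl | rfl⟩ := exists_idx k
    · rw [uvec_zero]; exact hM.Qb i
    · rw [uvec_one]; exact hM.Qb' i
  · intro k
    obtain ⟨i, rfl | rfl⟩ := exists_idx k
    · rw [uvec_zero, uvec_zero]; exact hM.Bab i
    · rw [uvec_one, uvec_one]; exact hM.Ba'b' i

/-- ASCHOE-[E-PLUS4] (sheet B of helper55's project ASCHOE; exact statement, in helper10's namespace). -/
theorem exists_minus_planes_of_plus_four [Fintype F] {Q : (Fin n → F) → F}
    (hQ : IsNondegenerateQuadraticForm Q)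
    (hq : Fintype.card F = 2) {t : ℕ} (D : Fin t → Submodule F (Fin n → F))
    (hD : IsOrthogonalMDecomposition Q 4 D) (hplus : ∀ i, IsPlusTypeOn Q (D i)) :
    ∃ D' : Fin (2 * t) → Submodule F (Fin n → F), IsOrthogonalMDecomposition Q 2 D' ∧
      (∀ i, ¬ IsPlusTypeOn Q (D' i)) ∧
      decompositionStabilizer D ⊓ isometryGroup F Q ≤ decompositionStabilizer D' := by
  classical
  have hDat := quadData_polarBilin hQ
  have h2 : (2 : F) = 0 := QuadData.two_eq_zero hq
  have horth : ∀ i j, i ≠ j → ∀ u ∈ D i, ∀ v ∈ D j, polarBilin hQ u v = 0 := by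
    intro i j hij u hu v hv
    rw [polarBilin_apply]
    exact hD.decomp.orthogonal i j hij u hu v hv
  have hbasis : ∀ i, ∃ e f e' f' : Fin n → F,
      D i = Submodule.span F {e, f} ⊔ Submodule.span F {e', f'} ∧
      Q e = 0 ∧ Q f = 0 ∧ Q e' = 0 ∧ Q f' = 0 ∧ polarBilin hQ e f = 1 ∧
      polarBilin hQ e' f' = 1 ∧ polarBilin hQ e e' = 0 ∧ polarBilin hQ e f' = 0 ∧
      polarBilin hQ f e' = 0 ∧ polarBilin hQ f f' = 0 := by
    intro i
    obtain ⟨U, hUW, hUs, hUd⟩ := hplus i
    have hdim := hD.decomp.decomp.finrank_eq i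
    refine hDat.exists_hyp_basis4 (D i) U hdim ?_ hUW hUs (by omega)
    intro w hw hw0
    obtain ⟨x, hx, hne⟩ := (hD.decomp.nondegenerate i w hw hw0).2
    exact ⟨x, hx, by rw [polarBilin_apply]; exact hne⟩
  choose e f e' f' hspan hQe hQf hQe' hQf' hBef hBe'f' hBee' hBef' hBfe' hBff' using hbasis
  have hH4 : HypDec4 (polarBilin hQ) Q D e f e' f' :=
    ⟨hQe, hQf, hQe', hQf', hBef, hBe'f', hBee', hBef', hBfe', hBff', hspan, horth⟩
  have hM := hH4.minusDec hDat h2
  -- names for the new bases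
  obtain ⟨a, ha⟩ : ∃ a : Fin t → (Fin n → F), a = fun i => e i + f i := ⟨_, rfl⟩
  obtain ⟨b, hb⟩ : ∃ b : Fin t → (Fin n → F), b = fun i => e' i + f' i + e i := ⟨_, rfl⟩
  obtain ⟨a', ha'⟩ : ∃ a' : Fin t → (Fin n → F), a' = fun i => e' i + f' i := ⟨_, rfl⟩
  obtain ⟨b', hb'⟩ : ∃ b' : Fin t → (Fin n → F), b' = fun i => e i + f i + e' i := ⟨_, rfl⟩
  rw [← ha, ← hb, ← ha', ← hb'] at hM
  have hP : PlaneFam (polarBilin hQ) Q (uvec a a') (uvec b b') := planeFam_of_minusDec hM hDat
  obtain ⟨u, hu⟩ : ∃ u : Fin (2 * t) → (Fin n → F), u = uvec a a' := ⟨_, rfl⟩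
  obtain ⟨v, hv⟩ : ∃ v : Fin (2 * t) → (Fin n → F), v = uvec b b' := ⟨_, rfl⟩
  rw [← hu, ← hv] at hP
  obtain ⟨D', hD'⟩ : ∃ D' : Fin (2 * t) → Submodule F (Fin n → F),
      D' = fun k => LinearMap.range (pl (K := F) (u k) (v k)) := ⟨_, rfl⟩
  have hD'k : ∀ k, D' k = LinearMap.range (pl (K := F) (u k) (v k)) := fun k => by rw [hD']
  have hD'span : ∀ k, D' k = Submodule.span F {u k, v k} := fun k => by rw [hD'k, range_pl]
  -- the blocks are sums of two planes
  have hDsum : ∀ i, D i = D' (finProdFinEquiv ((0 : Fin 2), i)) ⊔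
      D' (finProdFinEquiv ((1 : Fin 2), i)) := by
    intro i
    rw [hD'span, hD'span, hu, hv, uvec_zero, uvec_zero, uvec_one, uvec_one]
    exact hM.span i
  have hD'le : ∀ k, ∃ i, D' k ≤ D i := by
    intro k
    obtain ⟨i, rfl | rfl⟩ := exists_idx k
    · exact ⟨i, by rw [hDsum i]; exact le_sup_left⟩
    · exact ⟨i, by rw [hDsum i]; exact le_sup_right⟩
  have htop : iSup D' = ⊤ := by
    rw [eq_top_iff, ← hD.decomp.decomp.iSup_eq_top]
    refine iSup_le fun i => ?_
    rw [hDsum i]
    exact sup_le (le_iSup D' _) (le_iSup D' _)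
  have hindep : iSupIndep D' := by
    rw [hD']
    exact hP.indep hDat h2
  have hfr : ∀ k, finrank F (D' k) = 2 := fun k => by
    rw [hD'k]
    exact hP.finrank_range hDat h2 k
  have h2t : 2 ≤ 2 * t := by
    have := hD.decomp.decomp.two_le
    omega
  have hdec : IsMDecomposition 2 D' := ⟨h2t, by norm_num, hfr, hindep, htop⟩
  have hnd : ∀ k, IsNondegenerateOn (QuadraticMap.polar Q) (D' k) := by
    intro k w hw hw0
    have hex : ∃ x ∈ D' k, polarBilin hQ w x ≠ 0 := by
      by_contra hcon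
      have hcon' : ∀ x ∈ D' k, polarBilin hQ w x = 0 := by
        intro x hx
        by_contra h
        exact hcon ⟨x, hx, h⟩
      apply hw0
      rw [hD'k] at hw hcon'
      exact hP.nondeg hDat h2 k w hw hcon'
    obtain ⟨x, hx, hne⟩ := hex
    refine ⟨⟨x, hx, ?_⟩, ⟨x, hx, ?_⟩⟩
    · rw [← polarBilin_apply hQ, hDat.symm]; exact hne
    · rw [← polarBilin_apply hQ]; exact hne
  have horth' : ∀ k k', k ≠ k' → AreOrthogonalFor (QuadraticMap.polar Q) (D' k) (D' k') := by
    intro k k' hkk' x hx y hy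
    rw [hD'k] at hx hy
    obtain ⟨c, rfl⟩ := hx
    obtain ⟨c', rfl⟩ := hy
    rw [← polarBilin_apply hQ]
    exact hP.B_pl_pl hkk' c c'
  have hiso : ∀ k k', AreIsometricFor Q (D' k) (D' k') := by
    intro k k'
    rw [hD'k k, hD'k k']
    refine ⟨(LinearEquiv.ofInjective _ (hP.pl_injective hDat h2 k)).symm.trans
      (LinearEquiv.ofInjective _ (hP.pl_injective hDat h2 k')), ?_⟩
    intro w
    obtain ⟨c, hc⟩ : ∃ c, (LinearEquiv.ofInjective _ (hP.pl_injective hDat h2 k)) c = w :=
      (LinearEquiv.ofInjective _ (hP.pl_injective hDat h2 k)).surjective w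
    subst hc
    rw [LinearEquiv.trans_apply, LinearEquiv.symm_apply_apply, LinearEquiv.ofInjective_apply,
      LinearEquiv.ofInjective_apply, hP.Q_pl hDat, hP.Q_pl hDat]
  refine ⟨D', ⟨⟨hdec, hnd, horth'⟩, hiso⟩, ?_, ?_⟩
  · -- not of plus type
    intro k hplusk
    obtain ⟨U, hUle, hUs, hUd⟩ := hplusk
    rw [hfr k] at hUd
    have hU1 : finrank F U = 1 := by omega
    have hUne : U ≠ ⊥ := by
      intro h
      rw [h, finrank_bot] at hU1
      omega
    obtain ⟨x, hxU, hx0⟩ := Submodule.exists_mem_ne_zero_of_ne_bot hUne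
    have hxk := hUle hxU
    rw [hD'k] at hxk
    obtain ⟨c, rfl⟩ := hxk
    have hc : c ≠ 0 := by
      rintro rfl
      exact hx0 (map_zero _)
    have h1 := hP.Q_pl_eq_one hDat hq k c hc
    rw [hUs _ hxU] at h1
    exact zero_ne_one h1
  · -- the stabiliser
    rintro g ⟨hgD, hgI⟩
    obtain ⟨σ, hσ⟩ := hgD
    obtain ⟨T, hT⟩ : ∃ T : (Fin n → F) →ₗ[F] (Fin n → F),
        T = Matrix.toLin' (g : Matrix (Fin n) (Fin n) F) := ⟨_, rfl⟩
    rw [← hT] at hσ
    have hTQ : ∀ x, Q (T x) = Q x := by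
      intro x
      rw [hT, Matrix.toLin'_apply]
      exact hgI x x
    have hTB : ∀ x y, polarBilin hQ (T x) (T y) = polarBilin hQ x y := by
      intro x y
      have h1 := hDat.polar (T x) (T y)
      have h3 := hDat.polar x y
      rw [← map_add, hTQ, hTQ, hTQ] at h1
      linear_combination h3 - h1
    have hTinj : Function.Injective T := by
      have hleft : Function.LeftInverse
          (Matrix.toLin' ((g⁻¹ : GL (Fin n) F) : Matrix (Fin n) (Fin n) F)) T := by
        intro x
        rw [hT, ← LinearMap.comp_apply, ← Matrix.toLin'_mul, ← Units.val_mul, inv_mul_cancel,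
          Units.val_one, Matrix.toLin'_one, LinearMap.id_apply]
      exact hleft.injective
    -- each plane goes onto a plane
    have hstep : ∀ k, ∃ k', (D' k).map T = D' k' := by
      intro k
      obtain ⟨i, hki⟩ := hD'le k
      have huk : u k ∈ D' k := by
        rw [hD'span]; exact Submodule.subset_span (Set.mem_insert _ _)
      have hvk : v k ∈ D' k := by
        rw [hD'span]; exact Submodule.subset_span (Set.mem_insert_of_mem _ rfl)
      have hTu : T (u k) ∈ D (σ i) := by
        rw [← hσ i]; exact Submodule.mem_map_of_mem (hki huk)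
      have hTv : T (v k) ∈ D (σ i) := by
        rw [← hσ i]; exact Submodule.mem_map_of_mem (hki hvk)
      have hQTu : Q (T (u k)) = 1 := by rw [hTQ, hP.Qu]
      have hQTv : Q (T (v k)) = 1 := by rw [hTQ, hP.Qv]
      have hBT : polarBilin hQ (T (u k)) (T (v k)) = 1 := by rw [hTB, hP.Buv]
      have hin : ∀ x, x ∈ D (σ i) → Q x = 1 →
          x ∈ D' (finProdFinEquiv ((0 : Fin 2), σ i)) ∨
            x ∈ D' (finProdFinEquiv ((1 : Fin 2), σ i)) := by
        intro x hx hQx
        rcases hM.frame_cases hDat hq hx hQx with ⟨l, m, rfl⟩ | ⟨l, m, rfl⟩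
        · left
          rw [hD'span, hu, hv, uvec_zero, uvec_zero, Submodule.mem_span_pair]
          exact ⟨l, m, rfl⟩
        · right
          rw [hD'span, hu, hv, uvec_one, uvec_one, Submodule.mem_span_pair]
          exact ⟨l, m, rfl⟩
      have h01 : finProdFinEquiv ((0 : Fin 2), σ i) ≠ finProdFinEquiv ((1 : Fin 2), σ i) := by
        intro h
        have h5 := finProdFinEquiv.injective h
        simp at h5
      have hsame : ∃ k', T (u k) ∈ D' k' ∧ T (v k) ∈ D' k' := by
        rcases hin _ hTu hQTu with h0 | h1 <;> rcases hin _ hTv hQTv with h0' | h1'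
        · exact ⟨_, h0, h0'⟩
        · exfalso
          have h5 := horth' _ _ h01 _ h0 _ h1'
          rw [← polarBilin_apply hQ, hBT] at h5
          exact one_ne_zero h5
        · exfalso
          have h5 := horth' _ _ h01.symm _ h1 _ h0'
          rw [← polarBilin_apply hQ, hBT] at h5
          exact one_ne_zero h5
        · exact ⟨_, h1, h1'⟩
      obtain ⟨k', hk'u, hk'v⟩ := hsame
      refine ⟨k', ?_⟩
      have hle : (D' k).map T ≤ D' k' := by
        rw [hD'span k, Submodule.map_span, Submodule.span_le]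
        rintro _ ⟨x, hx, rfl⟩
        rcases hx with rfl | rfl
        · exact hk'u
        · exact hk'v
      apply Submodule.eq_of_le_of_finrank_eq hle
      rw [hfr k', ← hfr k]
      exact (Submodule.equivMapOfInjective T hTinj (D' k)).finrank_eq.symm
    choose π hπ using hstep
    have hDinj : Function.Injective D' := hindep.injective (fun k hk => by
      have h5 := hfr k
      rw [hk, finrank_bot] at h5
      omega)
    have hπinj : Function.Injective π := by
      intro k k' hkk'
      apply hDinj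
      have h1 := hπ k
      rw [hkk', ← hπ k'] at h1
      exact Submodule.map_injective_of_injective hTinj h1
    refine ⟨Equiv.ofBijective π (Finite.injective_iff_bijective.1 hπinj), fun k => ?_⟩
    rw [Equiv.ofBijective_apply, ← hT]
    exact hπ k

end Main

end Cfsg.Agent.Lib.Helper10.Oe
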