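import Mathlib
import Cfsg.Agent.Lib.Helper16.PF13Defs

/-!
# PF sec.14, the S/T-side of the parity step: carriers (helper10)

In the context `PSide S W₁ U W₂ mu dl η` of helper16 (`P = fittingHallOf S`, `K = S' = P ⋊ U`,
`S = K ⋊ W₁`), with `U` acting semiregularly on `P` (output of sec.13):

* `PW S W₁`        : `P W₁` as a subgroup of `↥S`;
* `piS S W₁`       : the permutation character `Ind_{P W₁}^S 1`;
* `betaS S mu ψ`    : `β_ψ = Ind_{P W₁}^S 1 - μ_ψ` (`ψ ≠ 1` trivial on `W₁`), a generalized character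
  of `S` of degree `0` vanishing off `A₀(S)`, of norm `2 + (|U| - 1)/q`, with `⟨β_ψ, 1⟩ = 1`;
* `XbetaS S mu ψ`   : `X_ψ = τ_S(β_ψ)`, the Dade image.

See `Cfsg/Agent/Lib/Helper10/PF14_MODULES.md` for the module sheet.
-/

set_option autoImplicit false

namespace Cfsg.Agent.Lib.Helper10.PF14

open Cfsg Cfsg.Agent.Lib.Helper24.PFCyc Cfsg.Agent.Lib.Helper4.PF

universe u

variable {G : Type u} [Group G]

/-- `P W₁` (with `P = S_F`) as a subgroup of `↥S` -/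
abbrev PW (S W₁ : Subgroup G) : Subgroup ↥S := (fittingHallOf S ⊔ W₁).subgroupOf S

/-- the permutation character `Ind_{P W₁}^S 1` -/
noncomputable def piS (S W₁ : Subgroup G) [Fintype S] : ↥S → ℂ :=
  indFun (PW S W₁) (fun _ => (1 : ℂ))

/-- `β_ψ = Ind_{P W₁}^S 1 - μ_ψ` -/
noncomputable def betaS (S : Subgroup G) [Fintype S] {W₁ W₂ : Subgroup G}
    (mu : WChar W₁ W₂ → (↥S → ℂ)) (ψ : WChar W₁ W₂) : ↥S → ℂ :=
  piS S W₁ - mu ψ

/-- `X_ψ = τ_S(β_ψ)` -/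
noncomputable def XbetaS (S : Subgroup G) [Fintype S] {W₁ W₂ : Subgroup G}
    (mu : WChar W₁ W₂ → (↥S → ℂ)) (ψ : WChar W₁ W₂) : G → ℂ :=
  tauM S (betaS S mu ψ)

theorem betaS_apply (S : Subgroup G) [Fintype S] {W₁ W₂ : Subgroup G}
    (mu : WChar W₁ W₂ → (↥S → ℂ)) (ψ : WChar W₁ W₂) (s : ↥S) :
    betaS S mu ψ s = piS S W₁ s - mu ψ s := rfl

theorem betaS_sub_betaS (S : Subgroup G) [Fintype S] {W₁ W₂ : Subgroup G}
    (mu : WChar W₁ W₂ → (↥S → ℂ)) (ψ ψ' : WChar W₁ W₂) :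
    betaS S mu ψ - betaS S mu ψ' = mu ψ' - mu ψ := by
  unfold betaS
  abel

end Cfsg.Agent.Lib.Helper10.PF14
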