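import Cfsg.Agent.Lib.Helper10.PF14Tour

/-!
# PF sec. 14, clause (b) of S1544: the parity step without Peterfalvi (13.6) (helper10)

`X = τ_S(β_j)` (`β_j = Ind_{PW₁}^S 1 - μ_{0j}`), `E = η_{0j}`.  `Y := X + E` is a REAL generalized
character with `⟨Y,1⟩ = 1` (because `τ_S(μ_{0j} - μ_{0,-j}) = η_{0j} - η_{0,-j}`), and `Y = x` on
`H#` (`x` = the constant value of `η_{0j}` on `H#`; `X` vanishes off `A₀(S)^G`).
For the carrier `Ξ_L = A + X_L` of the Type I class `L` (`A = Ind_L^G(ρ_E - φ)`, `X_L = τ₁φ`):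
`⟨Y,A⟩ = x`, `⟨E,X_L⟩ = 0`, `⟨X,X_L⟩ = μ`.  Then `x + μ` is odd (`par_even`, `par_odd`), and the
Bessel inequality for `X` itself (`par_bound`) gives `∑ d_ψ² ≤ N` where `‖X‖² = N + 2`
(`N = (|U|-1)/q`), as soon as `μ ≠ 0`: here `⟨X,1⟩ = 1`, `⟨X, τ₁ψ⟩ = d_ψ μ`, and some `η_{ab}`,
`(a,b) ≠ (0,0)`, has a nonzero coefficient in `X` (rectangle relation `c_ij = c_i0 + c_0j + 1`).
No `Γ_S`, no orthogonality of `Γ_S` to the `η_{ab}` is needed.
-/

set_option autoImplicit false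
set_option linter.unusedSectionVars false

namespace Cfsg.Agent.Lib.Helper10.PF14Par

open Cfsg Cfsg.Agent.Lib.Helper78 Cfsg.Agent.Lib.Helper74 Cfsg.Agent.Lib.Helper10.PF14Tour
open scoped ComplexConjugate

variable {G : Type*} [Group G] [Fintype G]

/-- **Parity step.** `Y = X + E` and `Ξ = A + X_L` real generalized characters containing the
principal character once; `⟨Y,A⟩ = x`, `⟨X,X_L⟩ = μ`, `⟨E,X_L⟩ = 0`.  Then `x + μ - 1` is even. -/
theorem par_even (hodd : Odd (Nat.card G)) {X E A XL : G → ℂ}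
    (hY : IsGeneralizedCharacter G (X + E)) (hΞ : IsGeneralizedCharacter G (A + XL))
    (hYr : ∀ g, ((X + E) g).im = 0) (hΞr : ∀ g, ((A + XL) g).im = 0)
    (hY1 : classInner (X + E) (fun _ => (1 : ℂ)) = 1)
    (hΞ1 : classInner (A + XL) (fun _ => (1 : ℂ)) = 1)
    (x μ : ℤ) (hYA : classInner (X + E) A = x) (hXXL : classInner X XL = μ)
    (hEXL : classInner E XL = 0) : Even (x + μ - 1) := by
  have h := inner_parity hodd hY hΞ hYr hΞr 1 1 (x + μ) (by simpa using hY1)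
    (by simpa using hΞ1)
    (by
      rw [classInner_add_right, hYA, classInner_add_left, hXXL, hEXL]
      push_cast; ring)
  simpa using h

/-- `x` even ⟹ `μ` odd. -/
theorem par_odd (hodd : Odd (Nat.card G)) {X E A XL : G → ℂ}
    (hY : IsGeneralizedCharacter G (X + E)) (hΞ : IsGeneralizedCharacter G (A + XL))
    (hYr : ∀ g, ((X + E) g).im = 0) (hΞr : ∀ g, ((A + XL) g).im = 0)
    (hY1 : classInner (X + E) (fun _ => (1 : ℂ)) = 1)
    (hΞ1 : classInner (A + XL) (fun _ => (1 : ℂ)) = 1)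
    (x μ : ℤ) (hYA : classInner (X + E) A = x) (hXXL : classInner X XL = μ)
    (hEXL : classInner E XL = 0) (hx : Even x) : Odd μ := by
  have h := par_even hodd hY hΞ hYr hΞr hY1 hΞ1 x μ hYA hXXL hEXL
  obtain ⟨k, hk⟩ := h
  obtain ⟨l, hl⟩ := hx
  exact ⟨k - l, by omega⟩

/-- **Norm step.** `‖X‖² = N + 2`, `⟨X,1⟩ = 1`; `Yf` an orthonormal family (orthogonal to `1`)
with `⟨X, Yf i⟩ = d i * μ`, `μ ≠ 0`; `Ef` a second orthonormal family, orthogonal to `1` and to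
`Yf`, with integer coefficients `c a` in `X`, not all zero.  Then `∑ d i² ≤ N`. -/
theorem par_bound {ι κ : Type*} [Fintype ι] [DecidableEq ι] [Fintype κ] [DecidableEq κ]
    (Yf : ι → G → ℂ) (Ef : κ → G → ℂ)
    (hYf : ∀ i j, classInner (Yf i) (Yf j) = if i = j then 1 else 0)
    (hEf : ∀ a b, classInner (Ef a) (Ef b) = if a = b then 1 else 0)
    (hEY : ∀ a i, classInner (Ef a) (Yf i) = 0)
    (hYf1 : ∀ i, classInner (Yf i) (fun _ => (1 : ℂ)) = 0)
    (hEf1 : ∀ a, classInner (Ef a) (fun _ => (1 : ℂ)) = 0)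
    (X : G → ℂ) (N : ℤ) (hN : classInner X X = ((N + 2 : ℤ) : ℂ))
    (hX1 : classInner X (fun _ => (1 : ℂ)) = 1)
    (c : κ → ℤ) (hc : ∀ a, classInner X (Ef a) = ((c a : ℤ) : ℂ)) (hcne : ∃ a, c a ≠ 0)
    (d : ι → ℤ) (μ : ℤ) (hμ : ∀ i, classInner X (Yf i) = ((d i * μ : ℤ) : ℂ)) (hμ0 : μ ≠ 0) :
    ∑ i, d i ^ 2 ≤ N := by
  classical
  let Z : ι ⊕ κ → G → ℂ := Sum.elim Yf Ef
  have hYE : ∀ i a, classInner (Yf i) (Ef a) = 0 := by
    intro i a
    rw [← classInner_conj_symm, hEY a i]; simp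
  have hZ : ∀ s t, classInner (Z s) (Z t) = if s = t then 1 else 0 := by
    intro s t
    rcases s with i | a <;> rcases t with j | b
    · simp only [Z, Sum.elim_inl, hYf i j, Sum.inl.injEq]
    · simp only [Z, Sum.elim_inl, Sum.elim_inr, hYE i b, reduceCtorEq, if_false]
    · simp only [Z, Sum.elim_inl, Sum.elim_inr, hEY a j, reduceCtorEq, if_false]
    · simp only [Z, Sum.elim_inr, hEf a b, Sum.inr.injEq]
  have hZ1 : ∀ s, classInner (Z s) (fun _ => (1 : ℂ)) = 0 := by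
    intro s
    rcases s with i | a
    · exact hYf1 i
    · exact hEf1 a
  let az : ι ⊕ κ → ℤ := Sum.elim (fun i => d i * μ) c
  have haz : ∀ s, classInner X (Z s) = ((az s : ℤ) : ℂ) := by
    intro s
    rcases s with i | a
    · exact hμ i
    · exact hc a
  have hb := norm_bound_gen Z hZ hZ1 X (N + 2) hN hX1 az haz
  rw [Fintype.sum_sum_type] at hb
  simp only [az, Sum.elim_inl, Sum.elim_inr] at hb
  -- the `Ef`-part is at least 1
  obtain ⟨a₀, ha₀⟩ := hcne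
  have h1 : (1 : ℤ) ≤ ∑ a, c a ^ 2 := by
    have hle : c a₀ ^ 2 ≤ ∑ a, c a ^ 2 :=
      Finset.single_le_sum (f := fun a => c a ^ 2) (fun a _ => sq_nonneg (c a))
        (Finset.mem_univ a₀)
    have hpos : 0 < c a₀ ^ 2 := by positivity
    omega
  have h2 : ∑ i, (d i * μ) ^ 2 = μ ^ 2 * ∑ i, d i ^ 2 := by
    rw [Finset.mul_sum]
    apply Finset.sum_congr rfl
    intro i _; ring
  rw [h2] at hb
  have hμ2 : (1 : ℤ) ≤ μ ^ 2 := by
    have hpos : 0 < μ ^ 2 := by positivity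
    omega
  have hs0 : (0 : ℤ) ≤ ∑ i, d i ^ 2 := Finset.sum_nonneg (fun i _ => sq_nonneg (d i))
  nlinarith

/-- The rectangle relation `c₁ = c₂ + c₃ + 1` forbids `c₁ = c₂ = c₃ = 0`
(use with `κ = Fin 3`, `Ef = ![η_ij, η_i0, η_0j]`). -/
theorem exists_ne_zero_of_rect (c : Fin 3 → ℤ) (h : c 0 = c 1 + c 2 + 1) : ∃ a, c a ≠ 0 := by
  by_contra hcon
  have h0 : c 0 = 0 := by
    by_contra h0; exact hcon ⟨0, h0⟩
  have h1 : c 1 = 0 := by
    by_contra h1; exact hcon ⟨1, h1⟩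
  have h2 : c 2 = 0 := by
    by_contra h2; exact hcon ⟨2, h2⟩
  omega

end Cfsg.Agent.Lib.Helper10.PF14Par
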