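import Cfsg.Agent.Lib.Helper74.OddOrder
import Cfsg.Agent.Lib.Helper4.PFTenAbs

/-!
# PF sec. 14, clause (b) of S1544: the abstract "tournament lemma" (helper10)

In a group of odd order, two REAL generalized characters `Ξ₁, Ξ₂` satisfy
`⟨Ξ₁,Ξ₂⟩ ≡ ⟨Ξ₁,1⟩⟨Ξ₂,1⟩ (mod 2)` (`inner_parity`): the non-principal irreducible characters
come in pairs `χ ≠ χ̄` with equal coefficients.

Application (`tournament`, `tournament_split`): for two non-conjugate TI Frobenius classes
`L_k = H_k ⋊ E_k`, `Ξ_k := Ind(ρ_{E_k} - φ_k) + τ₁φ_k` is real with `⟨Ξ_k,1⟩ = 1` and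
`⟨Ξ_1,Ξ_2⟩ = c₁₂ + c₂₁` (the values of the exceptional characters of one class on the kernel of
the other), hence `c₁₂ + c₂₁` is odd.

`norm_bound`: Bessel with the principal character and an orthonormal family `Y i` with
`⟨Ξ,Y i⟩ = d i * c`: `1 + c² ∑ d i² ≤ ‖Ξ‖²`.
-/

set_option autoImplicit false
set_option linter.unusedSectionVars false

namespace Cfsg.Agent.Lib.Helper10.PF14Tour

open Cfsg Cfsg.Agent.Lib.Helper78 Cfsg.Agent.Lib.Helper74
open scoped ComplexConjugate

variable {G : Type*} [Group G] [Fintype G]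

theorem classInner_sub_left' (a b c : G → ℂ) :
    classInner (a - b) c = classInner a c - classInner b c := by
  have h : a - b = a + (-1 : ℂ) • b := by
    ext g; simp [sub_eq_add_neg]
  rw [h, classInner_add_left, classInner_smul_left]; ring

theorem isClassFunction_of_gen {X : G → ℂ} (hX : IsGeneralizedCharacter G X) :
    IsClassFunction G X := by
  obtain ⟨χ₁, χ₂, h₁, h₂, rfl⟩ := hX
  exact isClassFunction_sub (IsCharacter.isClassFunction h₁) (IsCharacter.isClassFunction h₂)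

/-- The coefficients of a generalized character are integers. -/
theorem gen_coeff_int {X : G → ℂ} (hX : IsGeneralizedCharacter G X) (ψ : IrrCharacter G) :
    ∃ a : ℤ, classInner X (ψ : G → ℂ) = a := by
  obtain ⟨χ₁, χ₂, h₁, h₂, rfl⟩ := hX
  obtain ⟨m₁, hm₁⟩ := IsCharacter.exists_nat_classInner h₁ ψ
  obtain ⟨m₂, hm₂⟩ := IsCharacter.exists_nat_classInner h₂ ψ
  refine ⟨(m₁ : ℤ) - m₂, ?_⟩
  rw [classInner_sub_left', hm₁, hm₂]
  push_cast; ring

/-- For a real-valued function, the coefficient at `χ̄` is the conjugate of the coefficient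
at `χ`. -/
theorem classInner_conjIrrChar {X : G → ℂ} (hXr : ∀ g, (X g).im = 0) (ψ : IrrCharacter G) :
    classInner X ((conjIrrChar ψ : IrrCharacter G) : G → ℂ) = conj (classInner X (ψ : G → ℂ)) := by
  unfold classInner
  rw [map_mul, map_sum]
  congr 1
  · simp
  · apply Finset.sum_congr rfl
    intro g _
    have hx : conj (X g) = X g := Complex.conj_eq_iff_im.mpr (hXr g)
    simp only [conjIrrChar, map_mul, Complex.conj_conj, hx]

/-- **Parity of inner products of real generalized characters in a group of odd order.** -/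
theorem inner_parity (hodd : Odd (Nat.card G)) {X Y : G → ℂ}
    (hX : IsGeneralizedCharacter G X) (hY : IsGeneralizedCharacter G Y)
    (hXr : ∀ g, (X g).im = 0) (hYr : ∀ g, (Y g).im = 0)
    (a b n : ℤ) (ha : classInner X (fun _ => (1 : ℂ)) = a)
    (hb : classInner Y (fun _ => (1 : ℂ)) = b) (hn : classInner X Y = n) :
    Even (n - a * b) := by
  classical
  choose A hA using fun ψ => gen_coeff_int hX ψ
  choose B hB using fun ψ => gen_coeff_int hY ψ
  -- coefficients are invariant under conjugation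
  have hAc : ∀ ψ, A (conjIrrChar ψ) = A ψ := by
    intro ψ
    have h := classInner_conjIrrChar hXr ψ
    rw [hA, hA] at h
    have : ((A (conjIrrChar ψ) : ℤ) : ℂ) = ((A ψ : ℤ) : ℂ) := by
      rw [h]; simp
    exact_mod_cast this
  have hBc : ∀ ψ, B (conjIrrChar ψ) = B ψ := by
    intro ψ
    have h := classInner_conjIrrChar hYr ψ
    rw [hB, hB] at h
    have : ((B (conjIrrChar ψ) : ℤ) : ℂ) = ((B ψ : ℤ) : ℂ) := by
      rw [h]; simp
    exact_mod_cast this
  -- Parseval
  have hP := classInner_eq_sum_mul_conj Y (isClassFunction_of_gen hX)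
  rw [hn] at hP
  have hP' : n = ∑ ψ : IrrCharacter G, A ψ * B ψ := by
    have : ((n : ℤ) : ℂ) = ((∑ ψ : IrrCharacter G, A ψ * B ψ : ℤ) : ℂ) := by
      rw [hP]
      push_cast
      apply Finset.sum_congr rfl
      intro ψ _
      rw [hA, hB]; simp
    exact_mod_cast this
  have hA1 : A oneIrr = a := by
    have h := hA oneIrr
    have h' : ((oneIrr : IrrCharacter G) : G → ℂ) = fun _ => (1 : ℂ) := rfl
    rw [h', ha] at h
    exact_mod_cast h.symm
  have hB1 : B oneIrr = b := by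
    have h := hB oneIrr
    have h' : ((oneIrr : IrrCharacter G) : G → ℂ) = fun _ => (1 : ℂ) := rfl
    rw [h', hb] at h
    exact_mod_cast h.symm
  rw [hP', ← Finset.add_sum_erase _ _ (Finset.mem_univ (oneIrr : IrrCharacter G)), hA1, hB1,
    add_sub_cancel_left]
  -- the remaining sum is even, by the involution χ ↦ χ̄
  have hz : ((∑ ψ ∈ Finset.univ.erase (oneIrr : IrrCharacter G), A ψ * B ψ : ℤ) : ZMod 2) = 0 := by
    push_cast
    apply Finset.sum_involution (fun χ _ => conjIrrChar χ)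
    · intro χ _
      rw [hAc, hBc]
      have h2 : ((A χ : ZMod 2) * (B χ : ZMod 2)) + ((A χ : ZMod 2) * (B χ : ZMod 2))
          = 2 * ((A χ : ZMod 2) * (B χ : ZMod 2)) := by ring
      rw [h2]
      have : (2 : ZMod 2) = 0 := by decide
      rw [this, zero_mul]
    · intro χ hχ _ heq
      have hχ1 : χ ≠ oneIrr := (Finset.mem_erase.mp hχ).1
      apply hχ1
      rw [eq_oneIrr_iff]
      exact eq_one_of_real_of_odd_card hodd χ ((conjIrrChar_eq_self_iff χ).mp heq)
    · intro χ hχ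
      rw [Finset.mem_erase]
      refine ⟨?_, Finset.mem_univ _⟩
      intro h
      have hχ1 : χ ≠ oneIrr := (Finset.mem_erase.mp hχ).1
      apply hχ1
      have := congrArg conjIrrChar h
      rw [conjIrrChar_conjIrrChar] at this
      rw [this]
      apply Subtype.ext
      funext g
      simp [conjIrrChar, oneIrr]
    · intro χ _
      exact conjIrrChar_conjIrrChar χ
  rw [ZMod.intCast_zmod_eq_zero_iff_dvd] at hz
  exact even_iff_two_dvd.mpr (by exact_mod_cast hz)

/-- **Tournament lemma**, abstract form. -/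
theorem tournament (hodd : Odd (Nat.card G)) {Ξ₁ Ξ₂ : G → ℂ}
    (h₁ : IsGeneralizedCharacter G Ξ₁) (h₂ : IsGeneralizedCharacter G Ξ₂)
    (hr₁ : ∀ g, (Ξ₁ g).im = 0) (hr₂ : ∀ g, (Ξ₂ g).im = 0)
    (ht₁ : classInner Ξ₁ (fun _ => (1 : ℂ)) = 1) (ht₂ : classInner Ξ₂ (fun _ => (1 : ℂ)) = 1)
    (c₁₂ c₂₁ : ℤ) (hc : classInner Ξ₁ Ξ₂ = ((c₁₂ + c₂₁ : ℤ) : ℂ)) : Odd (c₁₂ + c₂₁) := by
  have h := inner_parity hodd h₁ h₂ hr₁ hr₂ 1 1 (c₁₂ + c₂₁) (by simpa using ht₁)
    (by simpa using ht₂) hc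
  rw [mul_one] at h
  obtain ⟨k, hk⟩ := h
  exact ⟨k, by omega⟩

/-- **Tournament lemma**, split form: `Ξ_i = A_i + X_i` with `A_1 ⟂ A_2` (disjoint supports),
`X_1 ⟂ X_2`, `⟨A_1,X_2⟩ = c₂₁`, `⟨X_1,A_2⟩ = c₁₂`. -/
theorem tournament_split (hodd : Odd (Nat.card G)) {A₁ X₁ A₂ X₂ : G → ℂ}
    (h₁ : IsGeneralizedCharacter G (A₁ + X₁)) (h₂ : IsGeneralizedCharacter G (A₂ + X₂))
    (hr₁ : ∀ g, ((A₁ + X₁) g).im = 0) (hr₂ : ∀ g, ((A₂ + X₂) g).im = 0)
    (ht₁ : classInner (A₁ + X₁) (fun _ => (1 : ℂ)) = 1)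
    (ht₂ : classInner (A₂ + X₂) (fun _ => (1 : ℂ)) = 1)
    (hAA : classInner A₁ A₂ = 0) (hXX : classInner X₁ X₂ = 0)
    (c₁₂ c₂₁ : ℤ) (hAX : classInner A₁ X₂ = c₂₁) (hXA : classInner X₁ A₂ = c₁₂) :
    Odd (c₁₂ + c₂₁) := by
  refine tournament hodd h₁ h₂ hr₁ hr₂ ht₁ ht₂ c₁₂ c₂₁ ?_
  rw [classInner_add_left, classInner_add_right, classInner_add_right, hAA, hXX, hAX, hXA]
  push_cast; ring

/-- **Parity lemma** (helper34), as a corollary of `inner_parity`: `Θ` real with `⟨Θ,1⟩ = 0`,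
`Ξ = A + X` real; if `⟨Θ,A⟩ = t` (the constant value of `Θ` on `H#` when `A = Ind(ρ_E - φ)`) and
`⟨Θ,X⟩ = μ` (the multiplicity of the exceptional character), then `t + μ` is even. -/
theorem parity_lemma (hodd : Odd (Nat.card G)) {Θ A X : G → ℂ}
    (hΘ : IsGeneralizedCharacter G Θ) (hΞ : IsGeneralizedCharacter G (A + X))
    (hrΘ : ∀ g, (Θ g).im = 0) (hrΞ : ∀ g, ((A + X) g).im = 0)
    (hΘ1 : classInner Θ (fun _ => (1 : ℂ)) = 0) (b : ℤ)
    (hΞ1 : classInner (A + X) (fun _ => (1 : ℂ)) = b)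
    (t μ : ℤ) (ht : classInner Θ A = t) (hμ : classInner Θ X = μ) : Even (t + μ) := by
  have h := inner_parity hodd hΘ hΞ hrΘ hrΞ 0 b (t + μ) (by simpa using hΘ1) hΞ1
    (by rw [classInner_add_right, ht, hμ]; push_cast; ring)
  simpa using h

/-- **Norm step**: if `Ξ` contains the principal character once and every member `Y i` of an
orthonormal family (orthogonal to `1`) with coefficient `d i * c`, then
`1 + c² ∑ d i² ≤ ‖Ξ‖²`. -/
theorem norm_bound {ι : Type*} [Fintype ι] [DecidableEq ι] (Y : ι → G → ℂ)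
    (hY : ∀ i j, classInner (Y i) (Y j) = if i = j then 1 else 0)
    (hY1 : ∀ i, classInner (Y i) (fun _ => (1 : ℂ)) = 0)
    (Ξ : G → ℂ) (N : ℤ) (hN : classInner Ξ Ξ = N)
    (ht : classInner Ξ (fun _ => (1 : ℂ)) = 1)
    (d : ι → ℤ) (c : ℤ) (hc : ∀ i, classInner Ξ (Y i) = ((d i * c : ℤ) : ℂ)) :
    1 + c ^ 2 * ∑ i, d i ^ 2 ≤ N := by
  classical
  let e : Option ι → G → ℂ := fun o => o.elim (fun _ => (1 : ℂ)) Y
  have h11 : classInner (fun _ : G => (1 : ℂ)) (fun _ => (1 : ℂ)) = 1 :=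
    classInner_irr_self isIrrCharacter_one
  have hY1' : ∀ i, classInner (fun _ : G => (1 : ℂ)) (Y i) = 0 := by
    intro i
    rw [← classInner_conj_symm, hY1 i]; simp
  have he : ∀ a b, classInner (e a) (e b) = if a = b then 1 else 0 := by
    intro a b
    cases a with
    | none =>
      cases b with
      | none => simpa [e] using h11
      | some j => simpa [e] using hY1' j
    | some i =>
      cases b with
      | none => simpa [e] using hY1 i
      | some j =>
        have := hY i j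
        by_cases hij : i = j
        · subst hij; simpa [e] using this
        · rw [if_neg hij] at this
          have hne : (some i : Option ι) ≠ some j := fun h => hij (Option.some.inj h)
          rw [if_neg hne]; simpa [e] using this
  have hb := Cfsg.Agent.Lib.Helper4.PFTen.bessel e he Ξ
  rw [hN] at hb
  rw [Fintype.sum_option] at hb
  have h0 : ‖classInner Ξ (e none)‖ ^ 2 = 1 := by
    show ‖classInner Ξ (fun _ => (1 : ℂ))‖ ^ 2 = 1
    rw [ht]; simp
  have hs : ∀ i, ‖classInner Ξ (e (some i))‖ ^ 2 = ((d i * c : ℤ) : ℝ) ^ 2 := by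
    intro i
    show ‖classInner Ξ (Y i)‖ ^ 2 = _
    rw [hc i, Complex.norm_intCast, sq_abs]
  rw [h0, Finset.sum_congr rfl (fun i _ => hs i)] at hb
  have hre : ((N : ℂ)).re = (N : ℝ) := by simp
  rw [hre] at hb
  have hfin : ((1 + c ^ 2 * ∑ i, d i ^ 2 : ℤ) : ℝ) ≤ (N : ℝ) := by
    push_cast
    have : (∑ i, ((d i : ℝ) * (c : ℝ)) ^ 2) = (c : ℝ) ^ 2 * ∑ i, (d i : ℝ) ^ 2 := by
      rw [Finset.mul_sum]
      apply Finset.sum_congr rfl
      intro i _; ring
    push_cast at hb
    rw [this] at hb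
    exact hb
  exact_mod_cast hfin

/-- **Norm step**, general coefficients: if `Ξ` contains the principal character once and the
members `Y i` of an orthonormal family (orthogonal to `1`) with integer coefficients `a i`, then
`1 + ∑ (a i)² ≤ ‖Ξ‖²`. -/
theorem norm_bound_gen {ι : Type*} [Fintype ι] [DecidableEq ι] (Y : ι → G → ℂ)
    (hY : ∀ i j, classInner (Y i) (Y j) = if i = j then 1 else 0)
    (hY1 : ∀ i, classInner (Y i) (fun _ => (1 : ℂ)) = 0)
    (Ξ : G → ℂ) (N : ℤ) (hN : classInner Ξ Ξ = N)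
    (ht : classInner Ξ (fun _ => (1 : ℂ)) = 1)
    (a : ι → ℤ) (hc : ∀ i, classInner Ξ (Y i) = ((a i : ℤ) : ℂ)) :
    1 + ∑ i, a i ^ 2 ≤ N := by
  classical
  let e : Option ι → G → ℂ := fun o => o.elim (fun _ => (1 : ℂ)) Y
  have h11 : classInner (fun _ : G => (1 : ℂ)) (fun _ => (1 : ℂ)) = 1 :=
    classInner_irr_self isIrrCharacter_one
  have hY1' : ∀ i, classInner (fun _ : G => (1 : ℂ)) (Y i) = 0 := by
    intro i
    rw [← classInner_conj_symm, hY1 i]; simp
  have he : ∀ a b, classInner (e a) (e b) = if a = b then 1 else 0 := by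
    intro a b
    cases a with
    | none =>
      cases b with
      | none => simpa [e] using h11
      | some j => simpa [e] using hY1' j
    | some i =>
      cases b with
      | none => simpa [e] using hY1 i
      | some j =>
        have := hY i j
        by_cases hij : i = j
        · subst hij; simpa [e] using this
        · rw [if_neg hij] at this
          have hne : (some i : Option ι) ≠ some j := fun h => hij (Option.some.inj h)
          rw [if_neg hne]; simpa [e] using this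
  have hb := Cfsg.Agent.Lib.Helper4.PFTen.bessel e he Ξ
  rw [hN] at hb
  rw [Fintype.sum_option] at hb
  have h0 : ‖classInner Ξ (e none)‖ ^ 2 = 1 := by
    show ‖classInner Ξ (fun _ => (1 : ℂ))‖ ^ 2 = 1
    rw [ht]; simp
  have hs : ∀ i, ‖classInner Ξ (e (some i))‖ ^ 2 = ((a i : ℤ) : ℝ) ^ 2 := by
    intro i
    show ‖classInner Ξ (Y i)‖ ^ 2 = _
    rw [hc i, Complex.norm_intCast, sq_abs]
  rw [h0, Finset.sum_congr rfl (fun i _ => hs i)] at hb
  have hre : ((N : ℂ)).re = (N : ℝ) := by simp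
  rw [hre] at hb
  have hfin : ((1 + ∑ i, a i ^ 2 : ℤ) : ℝ) ≤ (N : ℝ) := by
    push_cast
    exact hb
  exact_mod_cast hfin

end Cfsg.Agent.Lib.Helper10.PF14Tour
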