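import Mathlib
import Cfsg.Agent.Lib.Helper10.PF14Defs
import Cfsg.Agent.Lib.Helper10.PF14Par
import Cfsg.Agent.Lib.Helper52.PF14XiConst
import Cfsg.Agent.Lib.Helper34.PF14EndMain
import Cfsg.Agent.Lib.Helper13.PF13Int
import Cfsg.Agent.Lib.Helper25.PFCycB2Lat
import Cfsg.Agent.Lib.Helper51.PFCycMuInd
import Cfsg.Agent.Lib.Helper50.PFCycMuRes

/-!
# PF sec.14: the parity bound `hpx` of one side on a Frobenius class (helper10)

Glue for helper34's `exists_y_of_b` (`hchar`): in the context `PSide S W₁ U W₂ mu dl η` with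
`A(S) ⊆ P` (Type II + `U` semiregular on `P`), for a Frobenius class `(L, H)` with
`|L : H| = p q`:

* `orderOf_coprime_of_frobClass` : the elements of `H` have order prime to `p q`;
* `dvd_orderOf_of_mem_litA0`     : the elements of `A₀(S)` have order divisible by `p`;
* `eta_int_on`                   : every `η ω` is integer valued on `H`;
* `eta_rect_apply`               : `η (φ ψ) = η φ + η ψ - 1` at the elements no conjugate of which
  lies in `Ŵ`;
* `hpx_of_side`                  : the parity bound `|H| - 1 ≤ |L : H| · N` (`N q + 1 = |U|`) when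
  `η ψ` takes an even value on `H#`, from the conclusions of PF14-[BETA-G].
-/

set_option autoImplicit false

namespace Cfsg.Agent.Lib.Helper10.PF14

open Cfsg Cfsg.Agent.Lib.Helper24.PFCyc Cfsg.Agent.Lib.Helper4.PF Cfsg.Agent.Lib.Helper16.PF13
open Cfsg.Agent.Lib.Helper34.PF14End

universe u

variable {G : Type u} [Group G]

/-- the elements of the kernel of a Frobenius class have order prime to the index -/
theorem orderOf_coprime_of_frobClass [Finite G] {L H : Subgroup G} (cl : FrobClass L H) {n : ℕ}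
    (he : H.relIndex L = n) (k : G) (hk : k ∈ H) : (orderOf k).Coprime n := by
  have h1 : orderOf k ∣ Nat.card H := Subgroup.orderOf_dvd_natCard H hk
  have h2 : n ∣ Nat.card H - 1 := by rw [← he]; exact cl.relIndex_dvd
  have hpos : 0 < Nat.card H := Nat.card_pos
  have h3 : (Nat.card H).Coprime (Nat.card H - 1) := by
    have : Nat.card H = (Nat.card H - 1) + 1 := by omega
    rw [this, Nat.add_sub_cancel]
    exact (Nat.coprime_self_add_left.mpr (Nat.coprime_one_left _))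
  exact Nat.Coprime.coprime_dvd_left h1 (Nat.Coprime.coprime_dvd_right h2 h3)

/-- the elements of `A₀(S)` have order divisible by `p = |W₂|`, when `A(S) ⊆ P`, `P` of
exponent `p` -/
theorem dvd_orderOf_of_mem_litA0 {S : Subgroup G} {p : ℕ} (hp : p.Prime)
    (hPexp : ∀ x ∈ fittingHallOf S, x ^ p = 1)
    (hA : ∀ a ∈ litA S, a ∈ fittingHallOf S ∧ a ≠ 1)
    (a : G) (ha : a ∈ litA0 S) : p ∣ orderOf a := by
  have hP : ∀ x ∈ fittingHallOf S, x ≠ 1 → orderOf x = p := by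
    intro x hx hx1
    have h1 : orderOf x ∣ p := orderOf_dvd_of_pow_eq_one (hPexp x hx)
    rcases (Nat.dvd_prime hp).mp h1 with h | h
    · exact absurd (orderOf_eq_one_iff.mp h) hx1
    · exact h
  rcases ha with ha | ⟨W₁', U', W₂', hP', m, -, w, hw, hw₁, hw₂, rfl⟩
  · rw [hP a (hA a ha).1 (hA a ha).2]
  · have hW := hP'.selfNormalizing
    obtain ⟨a', ha', b', hb', rfl⟩ := Cfsg.Agent.Lib.Helper50.PFCyc.mem_sup_of_comm hW.2.2.2.1 hw
    have hb1 : b' ≠ 1 := by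
      intro h
      apply hw₁
      rw [h, mul_one]
      exact ha'
    have hbP : b' ∈ fittingHallOf S := (hP'.W₂_le hb').1
    have hcomm : Commute a' b' := hW.2.2.2.1 a' ha' b' hb'
    have hord : orderOf (m * (a' * b') * m⁻¹) = orderOf (a' * b') :=
      orderOf_injective (MulAut.conj m).toMonoidHom (MulAut.conj m).injective (a' * b')
    rw [hord, ← hP b' hbP hb1]
    apply orderOf_dvd_of_pow_eq_one
    set n := orderOf (a' * b') with hn
    have h1 : (a' * b') ^ n = 1 := pow_orderOf_eq_one _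
    rw [hcomm.mul_pow] at h1
    have h2 : b' ^ n = (a' ^ n)⁻¹ := eq_inv_of_mul_eq_one_right h1
    have h3 : b' ^ n ∈ W₁' ⊓ W₂' := by
      refine ⟨?_, Subgroup.pow_mem _ hb' _⟩
      rw [h2]
      exact Subgroup.inv_mem _ (Subgroup.pow_mem _ ha' _)
    rw [hW.2.2.1] at h3
    exact Subgroup.mem_bot.mp h3

variable [Fintype G]

/-- `η ω` is integer valued at the elements of order prime to `p q` -/
theorem eta_int_on {W₁ W₂ : Subgroup G} (hW : IsSelfNormalizingCyclic W₁ W₂)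
    (hodd : Odd (Nat.card G)) {η : WChar W₁ W₂ → (G → ℂ)} (hη : IsCyclicTIFamily W₁ W₂ η)
    (ω : WChar W₁ W₂) (g : G) (hg : (orderOf g).Coprime (Nat.card W₂ * Nat.card W₁)) :
    ∃ n : ℤ, η ω g = (n : ℂ) :=
  Cfsg.Agent.Lib.Helper13.PF13.eta_int_of_coprime hW
    (Odd.of_dvd_nat hodd (Subgroup.card_subgroup_dvd_card _)) hη ω g hg

/-- the rectangle rule for VALUES: `η (φ ψ) = η φ + η ψ - 1` at `g`, when every conjugate of `g`
lying in `W` lies in `W₁ ∪ W₂` -/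
theorem eta_rect_apply {W₁ W₂ : Subgroup G} {η : WChar W₁ W₂ → (G → ℂ)}
    (hη : IsCyclicTIFamily W₁ W₂ η) (φ ψ : WChar W₁ W₂) (hφ : TrivOn W₂ φ) (hψ : TrivOn W₁ ψ)
    (hφ1 : φ ≠ 1) (hψ1 : ψ ≠ 1) (g : G)
    (hg : ∀ x : G, x⁻¹ * g * x ∈ W₁ ⊔ W₂ → x⁻¹ * g * x ∈ W₁ ∨ x⁻¹ * g * x ∈ W₂) :
    η (φ * ψ) g = η φ g + η ψ g - 1 := by
  have h1 := congrFun (hη.induced_eq φ ψ hφ1 hψ1 hφ hψ) g
  have h2 : indFun (W₁ ⊔ W₂) (fun w : ↥(W₁ ⊔ W₂) =>
      1 - ((φ w : ℂˣ) : ℂ) - ((ψ w : ℂˣ) : ℂ) + ((φ w : ℂˣ) : ℂ) * ((ψ w : ℂˣ) : ℂ)) g = 0 := by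
    unfold indFun
    rw [Finset.sum_eq_zero, mul_zero]
    intro x _
    by_cases hx : x⁻¹ * g * x ∈ W₁ ⊔ W₂
    · have e : extendByZero (W₁ ⊔ W₂) (fun w : ↥(W₁ ⊔ W₂) =>
          1 - ((φ w : ℂˣ) : ℂ) - ((ψ w : ℂˣ) : ℂ) + ((φ w : ℂˣ) : ℂ) * ((ψ w : ℂˣ) : ℂ))
          (x⁻¹ * g * x) = (fun w : ↥(W₁ ⊔ W₂) =>
          1 - ((φ w : ℂˣ) : ℂ) - ((ψ w : ℂˣ) : ℂ) + ((φ w : ℂˣ) : ℂ) * ((ψ w : ℂˣ) : ℂ))
          ⟨x⁻¹ * g * x, hx⟩ := by
        unfold extendByZero
        exact Subtype.val_injective.extend_apply _ _ (⟨x⁻¹ * g * x, hx⟩ : ↥(W₁ ⊔ W₂))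
      rw [e]
      rcases hg x hx with h | h
      · have : ψ ⟨x⁻¹ * g * x, hx⟩ = 1 := hψ _ h
        simp only [this, Units.val_one]
        ring
      · have : φ ⟨x⁻¹ * g * x, hx⟩ = 1 := hφ _ h
        simp only [this, Units.val_one]
        ring
    · unfold extendByZero
      rw [Function.extend_apply']
      · rfl
      · rintro ⟨w, hw⟩
        exact hx (hw ▸ w.2)
  rw [h2] at h1
  have h3 : (0 : ℂ) = 1 - η φ g - η ψ g + η (φ * ψ) g := h1
  linear_combination -h3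

omit [Fintype G] in
/-- a conjugate of an element of order prime to `|W|` lying in `W` is `1` -/
theorem conj_mem_W_of_coprime [Finite G] {W₁ W₂ : Subgroup G} (hW : IsSelfNormalizingCyclic W₁ W₂)
    (g : G) (hg : (orderOf g).Coprime (Nat.card W₂ * Nat.card W₁)) (x : G)
    (hx : x⁻¹ * g * x ∈ W₁ ⊔ W₂) : x⁻¹ * g * x ∈ W₁ ∨ x⁻¹ * g * x ∈ W₂ := by
  left
  have hord : orderOf (x⁻¹ * g * x) = orderOf g := by
    have := orderOf_injective (MulAut.conj x⁻¹).toMonoidHom (MulAut.conj x⁻¹).injective g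
    simpa [MulAut.conj_apply] using this
  have h1 : orderOf (x⁻¹ * g * x) ∣ Nat.card ↥(W₁ ⊔ W₂) := Subgroup.orderOf_dvd_natCard _ hx
  have hcW : Nat.card ↥(W₁ ⊔ W₂) = Nat.card W₁ * Nat.card W₂ :=
    Cfsg.Agent.Lib.Helper51.PFCyc.card_W hW
  rw [hcW, mul_comm, hord] at h1
  have h2 : orderOf g = 1 := Nat.Coprime.eq_one_of_dvd hg h1
  have h3 : g = 1 := orderOf_eq_one_iff.mp h2
  rw [h3, mul_one, inv_mul_cancel]
  exact Subgroup.one_mem _

omit [Fintype G] in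
theorem mul_ne_of_trivOn' {W₁ W₂ : Subgroup G} {φ ψ ψ' : WChar W₁ W₂}
    (hφ : TrivOn W₂ φ) (hψ : TrivOn W₁ ψ) (hψ' : TrivOn W₁ ψ') (hφ1 : φ ≠ 1) : φ * ψ ≠ ψ' := by
  intro h1
  apply hφ1
  apply Cfsg.Agent.Lib.Helper25.PFCyc.eq_one_of_trivOn _ hφ
  intro w hw
  have h2 := congrArg (fun f : WChar W₁ W₂ => f w) h1
  simp only [MonoidHom.mul_apply] at h2
  rw [hψ w hw, mul_one, hψ' w hw] at h2
  exact h2

/-- there is a non-trivial character of `W` trivial on `W₂` -/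
theorem exists_phi' {W₁ W₂ : Subgroup G} (hW : IsSelfNormalizingCyclic W₁ W₂)
    (hq : (Nat.card W₁).Prime) : ∃ φ : WChar W₁ W₂, TrivOn W₂ φ ∧ φ ≠ 1 := by
  have hc := Cfsg.Agent.Lib.Helper51.PFCyc.card_trivSet_W₂ hW
  have h1 : 1 < (trivSet W₁ W₂ W₂).card := by rw [hc]; exact hq.one_lt
  obtain ⟨φ, hφ, hne⟩ := Finset.exists_mem_ne h1 (1 : WChar W₁ W₂)
  exact ⟨φ, mem_trivSet.mp hφ, hne⟩

variable {S W₁ U W₂ : Subgroup G} [Fintype S]
  {mu : WChar W₁ W₂ → (↥S → ℂ)} {dl : WChar W₁ W₂ → ℂ} {η : WChar W₁ W₂ → (G → ℂ)}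

open Classical in
/-- **the parity bound `hpx` of one side** on a Frobenius class `(L, H)` with `|L : H| = p q`:
if `η ψ` takes an even value at one (hence every) element of `H#`, then
`|H| - 1 ≤ p (|U| - 1)`.  Inputs: the conclusions of PF14-[BETA-S] (norm) and PF14-[BETA-G]. -/
theorem hpx_of_side (h : PSide S W₁ U W₂ mu dl η)
    (hA : ∀ a ∈ litA S, a ∈ fittingHallOf S)
    {L H : Subgroup G} (cl : FrobClass L H)
    (he : H.relIndex L = Nat.card W₂ * Nat.card W₁)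
    (ψ : WChar W₁ W₂) (hψ : TrivOn W₁ ψ) (hψ1 : ψ ≠ 1)
    (N : ℕ) (hNq : N * Nat.card W₁ + 1 = Nat.card U)
    (hN : classInner (betaS S mu ψ) (betaS S mu ψ) = (N : ℂ) + 2)
    (hX : IsGeneralizedCharacter G (XbetaS S mu ψ) ∧
      classInner (XbetaS S mu ψ) (XbetaS S mu ψ) = classInner (betaS S mu ψ) (betaS S mu ψ) ∧
      classInner (XbetaS S mu ψ) (fun _ => (1 : ℂ)) = 1 ∧
      (∀ g : G, (∀ x : G, x * g * x⁻¹ ∉ litA0 S) → XbetaS S mu ψ g = 0) ∧
      (∀ g : G, ((XbetaS S mu ψ + η ψ) g).im = 0) ∧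
      (∀ φ ψ' : WChar W₁ W₂, TrivOn W₂ φ → TrivOn W₁ ψ' → φ ≠ 1 → ψ' ≠ 1 →
        classInner (XbetaS S mu ψ) (η (φ * ψ')) = classInner (XbetaS S mu ψ) (η φ) +
          classInner (XbetaS S mu ψ) (η ψ') + (if ψ' = ψ then 1 else 0)))
    (k₀ : G) (hk₀ : k₀ ∈ H) (hk₀1 : k₀ ≠ 1) (x : ℤ) (hx : η ψ k₀ = (x : ℂ)) (hxe : Even x) :
    Nat.card H - 1 ≤ Nat.card W₂ * (Nat.card U - 1) := by
  obtain ⟨hXgen, hXnorm, hX1, hXsupp, hXreal, hXrect⟩ := hX
  have hW := h.hP.selfNormalizing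
  obtain ⟨φ, hφ, hφ1⟩ := exists_phi' hW h.hq
  have hsirr : ∀ ω, Cfsg.Agent.Lib.Helper25.SIrr G (η ω) := fun ω => h.hη.irr_or_neg ω
  have hcop : ∀ k ∈ H, (orderOf k).Coprime (Nat.card W₂ * Nat.card W₁) :=
    fun k hk => orderOf_coprime_of_frobClass cl he k hk
  have hint : ∀ ω : WChar W₁ W₂, ∀ k ∈ H, k ≠ 1 → ∃ n : ℤ, η ω k = (n : ℂ) :=
    fun ω k hk _ => eta_int_on hW h.hodd h.hη ω k (hcop k hk)
  have hdisj : ∀ k ∈ H, k ≠ 1 → ∀ y : G, y * k * y⁻¹ ∉ litA0 S := by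
    intro k hk hk1 y hy
    have h1 := dvd_orderOf_of_mem_litA0 h.hp h.hPexp (fun a ha => ⟨hA a ha, (h.hA_sub a ha).2⟩)
      _ hy
    have hord : orderOf (y * k * y⁻¹) = orderOf k :=
      orderOf_injective (MulAut.conj y).toMonoidHom (MulAut.conj y).injective k
    rw [hord] at h1
    have h2 := hcop k hk
    have h3 : (orderOf k).Coprime (Nat.card W₂) := Nat.Coprime.coprime_mul_right_right h2
    have h4 : Nat.card W₂ = 1 := Nat.Coprime.eq_one_of_dvd h3.symm h1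
    exact h.hp.one_lt.ne' h4
  have hone : η 1 = fun _ => (1 : ℂ) := h.hη.map_one
  have hne1 : ∀ ω : WChar W₁ W₂, ω ≠ 1 → classInner (η ω) (fun _ : G => (1 : ℂ)) = 0 := by
    intro ω hω
    rw [← hone, h.hη.orthonormal ω 1, if_neg hω]
  have hφψ1 : φ * ψ ≠ 1 := mul_ne_of_trivOn' (ψ' := 1) hφ hψ (trivOn_one W₁) hφ1
  have hφψφ : φ * ψ ≠ φ := by
    intro hc
    apply hψ1
    ext w
    have h2 := congrArg (fun f : WChar W₁ W₂ => f w) hc
    simp only [MonoidHom.mul_apply] at h2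
    have h3 : ψ w = 1 := by
      have h4 : φ w * ψ w = φ w * 1 := by rw [mul_one]; exact h2
      exact mul_left_cancel h4
    rw [h3]
    rfl
  have hφψψ : φ * ψ ≠ ψ := mul_ne_of_trivOn' hφ hψ hψ hφ1
  have hφψ' : φ ≠ ψ := by
    intro hc
    apply hφ1
    apply Cfsg.Agent.Lib.Helper25.PFCyc.eq_one_of_trivOn _ hφ
    rw [hc]
    exact hψ
  obtain ⟨c0, hc0, -⟩ := Cfsg.Agent.Lib.Helper25.inner_int' hXgen (hsirr (φ * ψ)).gen
  obtain ⟨c1, hc1, -⟩ := Cfsg.Agent.Lib.Helper25.inner_int' hXgen (hsirr φ).gen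
  obtain ⟨c2, hc2, -⟩ := Cfsg.Agent.Lib.Helper25.inner_int' hXgen (hsirr ψ).gen
  have hrect : c0 = c1 + c2 + 1 := by
    have := hXrect φ ψ hφ hψ hφ1 hψ1
    rw [hc0, hc1, hc2, if_pos rfl] at this
    exact_mod_cast this
  have key := Cfsg.Agent.Lib.Helper52.PF14Xi.parity_card_frobClass_int h.hodd cl hXgen (hsirr ψ)
    hXreal hX1 (hne1 ψ hψ1)
    (fun k hk hk1 => hXsupp k (hdisj k hk hk1))
    (hint ψ) k₀ hk₀ hk₀1 x hx hxe N (by rw [hXnorm, hN])
    (κ := Fin 3) ![η (φ * ψ), η φ, η ψ]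
    (by
      intro a
      fin_cases a <;>
        simp only [Matrix.cons_val_zero, Matrix.cons_val_one, Matrix.cons_val_two,
          Matrix.head_cons, Matrix.tail_cons, Fin.zero_eta, Fin.mk_one, Fin.reduceFinMk]
      · exact hsirr _
      · exact hsirr _
      · exact hsirr _)
    (by
      intro a b
      fin_cases a <;> fin_cases b <;>
        simp only [Matrix.cons_val_zero, Matrix.cons_val_one, Matrix.cons_val_two,
          Matrix.head_cons, Matrix.tail_cons, Fin.zero_eta, Fin.mk_one, Fin.reduceFinMk] <;>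
        rw [h.hη.orthonormal]
      · simp
      · rw [if_neg hφψφ]; simp
      · rw [if_neg hφψψ]; simp
      · rw [if_neg (Ne.symm hφψφ)]; simp
      · simp
      · rw [if_neg hφψ']; simp
      · rw [if_neg (Ne.symm hφψψ)]; simp
      · rw [if_neg (Ne.symm hφψ')]; simp
      · simp)
    (by
      intro a
      fin_cases a <;>
        simp only [Matrix.cons_val_zero, Matrix.cons_val_one, Matrix.cons_val_two,
          Matrix.head_cons, Matrix.tail_cons, Fin.zero_eta, Fin.mk_one, Fin.reduceFinMk]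
      · exact hne1 _ hφψ1
      · exact hne1 _ hφ1
      · exact hne1 _ hψ1)
    (by
      intro a
      fin_cases a <;>
        simp only [Matrix.cons_val_zero, Matrix.cons_val_one, Matrix.cons_val_two,
          Matrix.head_cons, Matrix.tail_cons, Fin.zero_eta, Fin.mk_one, Fin.reduceFinMk]
      · exact hint _
      · exact hint _
      · exact hint _)
    ![c0, c1, c2]
    (by
      intro a
      fin_cases a <;>
        simp only [Matrix.cons_val_zero, Matrix.cons_val_one, Matrix.cons_val_two,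
          Matrix.head_cons, Matrix.tail_cons, Fin.zero_eta, Fin.mk_one, Fin.reduceFinMk]
      · exact hc0
      · exact hc1
      · exact hc2)
    (Cfsg.Agent.Lib.Helper10.PF14Par.exists_ne_zero_of_rect _ (by simpa using hrect))
  rw [he] at key
  have e : Nat.card W₂ * Nat.card W₁ * N = Nat.card W₂ * (Nat.card U - 1) := by
    rw [← hNq, Nat.add_sub_cancel, mul_assoc, mul_comm (Nat.card W₁) N]
  rw [e] at key
  exact key

end Cfsg.Agent.Lib.Helper10.PF14
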