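import Mathlib
import Cfsg.Agent.Lib.Helper10.PF14Char
import Cfsg.Agent.Lib.Helper51.PF14MuFrob
import Cfsg.Agent.Lib.Helper51.PF14Pi
import Cfsg.Agent.Lib.Helper49.PF14BetaS
import Cfsg.Agent.Lib.Helper23.PF13MuSub
import Cfsg.Agent.Lib.Helper52.PF14MomL
import Cfsg.Agent.Lib.Helper16.PF13Final

/-!
# PF sec.14: the hypothesis `hchar` of helper34's `exists_y_of_b_final` (helper10)

* `BetaGStmt G`  : the statement of the module PF14-[BETA-G] (`xbeta_facts`) for all sides.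
* `OrthStmtGen G`: helper16's `OrthStmt G` with `φ = 1` allowed (needed for `η_{0j}`, `η_{i0}`).
* `hpx_of_pside` : the whole one-side chain [MUFROB] → [PI] → [BETA-S] → [BETA-G] → `hpx_of_side`.
* `hchar_of_psides` : from the two sides `PSide S ..`, `PSide T ..` (both of Type II, `U`, `V`
  semiregular), a Frobenius class `(L, H)` with `|L : H| = p q`:
  `∃ x y, (x,y) ∈ {(1,0),(0,1),(0,0)} ∧ (Even x → |H| - 1 ≤ p (|U| - 1)) ∧ (Even y → |H| - 1 ≤ q (|V| - 1))`.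
* `hchar_of` : the same from `PairHyp`, `Stmt1543`, the book data.
-/

set_option autoImplicit false

namespace Cfsg.Agent.Lib.Helper10.PF14

open Cfsg Cfsg.Agent.Lib.Helper24.PFCyc Cfsg.Agent.Lib.Helper4.PF Cfsg.Agent.Lib.Helper16.PF13
open Cfsg.Agent.Lib.Helper34.PF14End Cfsg.Agent.Lib.Helper60.PFTenT

universe u

open Classical in
/-- the statement of PF14-[BETA-G] for all sides -/
def BetaGStmt (G : Type u) [Group G] [Fintype G] : Prop :=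
  ∀ (S W₁ U W₂ : Subgroup G) [Fintype S] (mu : WChar W₁ W₂ → (↥S → ℂ)) (dl : WChar W₁ W₂ → ℂ)
    (η : WChar W₁ W₂ → (G → ℂ)), PSide S W₁ U W₂ mu dl η →
    (∀ ψ ψ' : WChar W₁ W₂, TrivOn W₁ ψ → TrivOn W₁ ψ' → ψ ≠ 1 → ψ' ≠ 1 → ψ ≠ ψ' →
      tauM S (mu ψ - mu ψ') = dl ψ • (η ψ - η ψ')) →
    ∀ ψ : WChar W₁ W₂, TrivOn W₁ ψ → ψ ≠ 1 → dl ψ = 1 →
    IsGeneralizedCharacter ↥S (betaS S mu ψ) →
    (∀ s : ↥S, (s : G) ∉ litA0 S → betaS S mu ψ s = 0) →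
    classInner (betaS S mu ψ) (fun _ => (1 : ℂ)) = 1 →
    conjFun (betaS S mu ψ) = betaS S mu ψ⁻¹ →
    (∀ (s : ↥S) (hs : (s : G) ∈ W₁ ⊔ W₂), (s : G) ∉ W₁ → (s : G) ∉ W₂ →
      betaS S mu ψ s = 1 - ((ψ ⟨(s : G), hs⟩ : ℂˣ) : ℂ)) →
    IsGeneralizedCharacter G (XbetaS S mu ψ) ∧
    classInner (XbetaS S mu ψ) (XbetaS S mu ψ) = classInner (betaS S mu ψ) (betaS S mu ψ) ∧
    classInner (XbetaS S mu ψ) (fun _ => (1 : ℂ)) = 1 ∧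
    (∀ g : G, (∀ x : G, x * g * x⁻¹ ∉ litA0 S) → XbetaS S mu ψ g = 0) ∧
    (∀ g : G, ((XbetaS S mu ψ + η ψ) g).im = 0) ∧
    (∀ φ ψ' : WChar W₁ W₂, TrivOn W₂ φ → TrivOn W₁ ψ' → φ ≠ 1 → ψ' ≠ 1 →
      classInner (XbetaS S mu ψ) (η (φ * ψ')) = classInner (XbetaS S mu ψ) (η φ) +
        classInner (XbetaS S mu ψ) (η ψ') + (if ψ' = ψ then 1 else 0))

/-- helper16's `OrthStmt` with `φ = 1` allowed -/
def OrthStmtGen (G : Type u) [Group G] [Fintype G] : Prop :=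
  ∀ (S W₁ U W₂ : Subgroup G) [Fintype S] (mu : WChar W₁ W₂ → (↥S → ℂ)) (dl : WChar W₁ W₂ → ℂ)
    (η : WChar W₁ W₂ → (G → ℂ)), PSide S W₁ U W₂ mu dl η →
    ∀ φ ψ : WChar W₁ W₂, TrivOn W₂ φ → TrivOn W₁ ψ → ψ ≠ 1 →
    ∃ (ε : ℤ) (ψ' : WChar W₁ W₂), (ε = 1 ∨ ε = -1) ∧ TrivOn W₁ ψ' ∧ ψ' ≠ 1 ∧
      ∀ α ∈ zspanOn (calZ S) ({1}ᶜ : Set ↥S),
        classInner (fun s : ↥S => η (φ * ψ) (s : G) - (ε : ℂ) * mu ψ' s) α = 0

variable {G : Type u} [Group G] [Fintype G]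

theorem OrthStmtGen.orthStmt (hO : OrthStmtGen G) : OrthStmt G :=
  fun S W₁ U W₂ _ mu dl η h φ ψ hφ hψ _ hψ1 => hO S W₁ U W₂ mu dl η h φ ψ hφ hψ hψ1

variable {S W₁ U W₂ : Subgroup G} [Fintype S]
  {mu : WChar W₁ W₂ → (↥S → ℂ)} {dl : WChar W₁ W₂ → ℂ} {η : WChar W₁ W₂ → (G → ℂ)}

/-- `A(S) ⊆ P` for a side of Type II with `U` semiregular on `P` -/
theorem litA_le_P (h : PSide S W₁ U W₂ mu dl η)
    (hfree : ∀ z ∈ U, z ≠ 1 → ∀ x ∈ fittingHallOf S, z * x = x * z → x = 1)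
    (hII : ∀ a ∈ litA S, ∃ x ∈ fittingHallOf S, x ≠ 1 ∧ a * x = x * a) :
    ∀ a ∈ litA S, a ∈ fittingHallOf S := by
  intro a ha
  obtain ⟨x, hx, hx1, hc⟩ := hII a ha
  exact Cfsg.Agent.Lib.Helper51.PF14.cent_le_P h hfree (h.hA_sub a ha).1 hx hx1 hc

/-- **the one-side chain**: [MUFROB] → [PI] → [BETA-S] → [BETA-G] → `hpx_of_side`. -/
theorem hpx_of_pside (hB : BetaGStmt G) (h : PSide S W₁ U W₂ mu dl η)
    (hfree : ∀ z ∈ U, z ≠ 1 → ∀ x ∈ fittingHallOf S, z * x = x * z → x = 1)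
    (hII : ∀ a ∈ litA S, ∃ x ∈ fittingHallOf S, x ≠ 1 ∧ a * x = x * a)
    {L H : Subgroup G} (cl : FrobClass L H)
    (he : H.relIndex L = Nat.card W₂ * Nat.card W₁)
    (ψ : WChar W₁ W₂) (hψ : TrivOn W₁ ψ) (hψ1 : ψ ≠ 1)
    (k₀ : G) (hk₀ : k₀ ∈ H) (hk₀1 : k₀ ≠ 1) (x : ℤ) (hx : η ψ k₀ = (x : ℂ)) (hxe : Even x) :
    Nat.card H - 1 ≤ Nat.card W₂ * (Nat.card U - 1) := by
  have hμ := Cfsg.Agent.Lib.Helper51.PF14.mu_frob h hfree ψ hψ hψ1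
  have hπ := Cfsg.Agent.Lib.Helper51.PF14.piS_values h
  obtain ⟨hβ, hβs, ⟨N, hNq, hN⟩, hβ1, hβc, hβW⟩ :=
    Cfsg.Agent.Lib.Helper49.PF14.beta_local h hπ ψ hψ hψ1 hμ
  obtain ⟨δ, -, hδ, hsub⟩ := Cfsg.Agent.Lib.Helper23.PF13.musub_both h
  have hmusub : ∀ ψ ψ' : WChar W₁ W₂, TrivOn W₁ ψ → TrivOn W₁ ψ' → ψ ≠ 1 → ψ' ≠ 1 → ψ ≠ ψ' →
      tauM S (mu ψ - mu ψ') = dl ψ • (η ψ - η ψ') := by
    intro ψ₁ ψ₂ h1 h2 h3 h4 h5
    rw [hδ ψ₁ h1 h3]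
    exact (hsub ψ₁ ψ₂ h1 h2 h3 h4 h5).1
  have hX := hB S W₁ U W₂ mu dl η h hmusub ψ hψ hψ1 hμ.2.1 hβ hβs hβ1 hβc hβW
  exact hpx_of_side h (litA_le_P h hfree hII) cl he ψ hψ hψ1 N hNq hN hX k₀ hk₀ hk₀1 x hx hxe

/-- `SideData` for `η ω`, `ω = φ * ψ` with `φ = 1` allowed -/
theorem sideData_gen (hO : OrthStmtGen G) (h : PSide S W₁ U W₂ mu dl η)
    (φ ψ : WChar W₁ W₂) (hφ : TrivOn W₂ φ) (hψ : TrivOn W₁ ψ) (hψ1 : ψ ≠ 1) (hω1 : φ * ψ ≠ 1) :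
    ∃ u : ℕ, SideData S ⁅S, S⁆ (fittingHallOf S) (AFin S) (η (φ * ψ)) (Nat.card W₂) (Nat.card W₁)
        (Nat.card U) u ∧ SideNum (fittingHallOf S) U (Nat.card W₂) (Nat.card W₁) u := by
  obtain ⟨ε, ψ', hε, hψ', hψ'1, horth⟩ := hO S W₁ U W₂ mu dl η h φ ψ hφ hψ hψ1
  obtain ⟨u, hu, -⟩ := sideData_of_aux h (Cfsg.Agent.Lib.Helper44.PF13.sideGrp_of h) (φ * ψ) hω1 ε ψ'
    hε hψ' hψ'1 horth (Cfsg.Agent.Lib.Helper26.PF13.mu_local h ψ' hψ' hψ'1)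
    (fun z hz => Cfsg.Agent.Lib.Helper44.PF13.mu_int_of_coprime h ψ' hψ' z hz)
  exact ⟨u, hu⟩

/-- **`hchar` from the two sides.** -/
theorem hchar_of_psides (hB : BetaGStmt G) (hO : OrthStmtGen G)
    {T V : Subgroup G} [Fintype T] {mu' : WChar W₂ W₁ → (↥T → ℂ)} {dl' : WChar W₂ W₁ → ℂ}
    (hPS : PSide S W₁ U W₂ mu dl η) (hPT : PSide T W₂ V W₁ mu' dl' (etaSwap η))
    (hqp : Nat.card W₁ < Nat.card W₂)
    (hUreg : ∀ z ∈ U, z ≠ 1 → ∀ x ∈ fittingHallOf S, z * x = x * z → x = 1)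
    (hVreg : ∀ z ∈ V, z ≠ 1 → ∀ x ∈ fittingHallOf T, z * x = x * z → x = 1)
    (hIIS : ∀ a ∈ litA S, ∃ x ∈ fittingHallOf S, x ≠ 1 ∧ a * x = x * a)
    (hIIT : ∀ a ∈ litA T, ∃ x ∈ fittingHallOf T, x ≠ 1 ∧ a * x = x * a)
    {L H : Subgroup G} (cl : FrobClass L H)
    (he : H.relIndex L = Nat.card W₂ * Nat.card W₁) :
    ∃ x y : ℤ, ((x = 1 ∧ y = 0) ∨ (x = 0 ∧ y = 1) ∨ (x = 0 ∧ y = 0)) ∧
      (Even x → Nat.card H - 1 ≤ Nat.card W₂ * (Nat.card U - 1)) ∧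
      (Even y → Nat.card H - 1 ≤ Nat.card W₁ * (Nat.card V - 1)) := by
  classical
  have hodd := hPS.hodd
  have hW : IsSelfNormalizingCyclic W₁ W₂ := hPS.hP.selfNormalizing
  have hη := hPS.hη
  have hGS := Cfsg.Agent.Lib.Helper44.PF13.sideGrp_of hPS
  have hGT := Cfsg.Agent.Lib.Helper44.PF13.sideGrp_of hPT
  -- the characters
  obtain ⟨φ, hφ, hφ1⟩ := exists_trivOn_ne_one hW hPS.hq.two_le
  obtain ⟨ψT, hψT, hψT1⟩ := exists_trivOn_ne_one (isSelfNormalizingCyclic_swap hW) hPS.hp.two_le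
  set ψ : WChar W₁ W₂ := swapChar W₁ W₂ ψT with hψdef
  have hψ : TrivOn W₁ ψ := trivOn_swapChar.mpr hψT
  have hψ1 : ψ ≠ 1 := by
    intro h1
    apply hψT1
    apply (swapChar W₁ W₂).injective
    rw [map_one]
    exact h1
  set φT : WChar W₂ W₁ := (swapChar W₁ W₂).symm φ with hφTdef
  have hφT : TrivOn W₂ φT := by
    have : TrivOn W₂ (swapChar W₁ W₂ φT) := by rw [hφTdef, MulEquiv.apply_symm_apply]; exact hφ
    exact trivOn_swapChar.mp this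
  have hφT1 : φT ≠ 1 := by
    intro h1
    apply hφ1
    have := congrArg (swapChar W₁ W₂) h1
    rwa [hφTdef, MulEquiv.apply_symm_apply, map_one] at this
  have hη10 : etaSwap η φT = η φ := by
    unfold etaSwap
    rw [hφTdef, MulEquiv.apply_symm_apply]
  have hη11 : etaSwap η (ψT * φT) = η (φ * ψ) := by
    unfold etaSwap
    rw [map_mul, hφTdef, MulEquiv.apply_symm_apply]
    have e : (swapChar W₁ W₂ ψT * φ : WChar W₁ W₂) = φ * ψ := by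
      apply MonoidHom.ext
      intro w
      rw [MonoidHom.mul_apply, MonoidHom.mul_apply]
      exact mul_comm _ _
    rw [e]
  -- the four `SideData`
  have e1 : (1 : WChar W₁ W₂) * ψ = ψ := one_mul ψ
  have e2 : (1 : WChar W₂ W₁) * φT = φT := one_mul φT
  obtain ⟨u₁, hS01, hSn1⟩ := sideData_gen hO hPS 1 ψ (trivOn_one W₂) hψ hψ1
    (by rw [e1]; exact hψ1)
  rw [e1] at hS01
  obtain ⟨u₂, hS11, hSn2⟩ := sideData_gen hO hPS φ ψ hφ hψ hψ1 (mul_ne_one_of_trivOn hφ hψ hφ1)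
  obtain ⟨v₁, hT10, hTn1⟩ := sideData_gen hO hPT 1 φT (trivOn_one W₁) hφT hφT1
    (by rw [e2]; exact hφT1)
  rw [e2, hη10] at hT10
  obtain ⟨v₂, hT11, hTn2⟩ := sideData_gen hO hPT ψT φT hψT hφT hφT1
    (mul_ne_one_of_trivOn hψT hφT hψT1)
  rw [hη11] at hT11
  -- numerics of the Frobenius class
  have hdvd : Nat.card W₂ * Nat.card W₁ ∣ Nat.card H - 1 := by rw [← he]; exact cl.relIndex_dvd
  have hH1 : 1 < Nat.card H := by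
    rw [Subgroup.one_lt_card_iff_ne_bot]
    exact cl.ne_bot
  have hp5 : 3 ≤ Nat.card W₂ := hGS.hp3
  have hq3 : 3 ≤ Nat.card W₁ := hGS.hq3
  have hle : Nat.card W₂ * Nat.card W₁ ≤ Nat.card H - 1 := Nat.le_of_dvd (by omega) hdvd
  have hh : 5 ≤ Nat.card H := by
    have : 3 * 3 ≤ Nat.card W₂ * Nat.card W₁ := Nat.mul_le_mul hp5 hq3
    omega
  have hcopH : (Nat.card H).Coprime (Nat.card W₂ * Nat.card W₁) := by
    have h3 : (Nat.card H).Coprime (Nat.card H - 1) := by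
      have : Nat.card H = (Nat.card H - 1) + 1 := by omega
      rw [this, Nat.add_sub_cancel]
      exact (Nat.coprime_self_add_left.mpr (Nat.coprime_one_left _))
    exact Nat.Coprime.coprime_dvd_right hdvd h3
  -- the constants
  have hsirr : ∀ ω, Cfsg.Agent.Lib.Helper25.SIrr G (η ω) := fun ω => hη.irr_or_neg ω
  have hint : ∀ ω : WChar W₁ W₂, ∀ k ∈ H, k ≠ 1 → ∃ n : ℤ, η ω k = (n : ℂ) :=
    fun ω k hk _ => eta_int_on hW hodd hη ω k (orderOf_coprime_of_frobClass cl he k hk)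
  obtain ⟨x, hx⟩ := Cfsg.Agent.Lib.Helper52.PF14Xi.const_of_int_frobClass hodd cl (hsirr ψ) (hint ψ)
  obtain ⟨y, hy⟩ := Cfsg.Agent.Lib.Helper52.PF14Xi.const_of_int_frobClass hodd cl (hsirr φ) (hint φ)
  obtain ⟨k₀, hk₀1⟩ := (Subgroup.ne_bot_iff_exists_ne_one.mp cl.ne_bot)
  have hk₀' : (k₀ : G) ≠ 1 := fun h => hk₀1 (Subtype.ext h)
  refine ⟨x, y, ?_, ?_, ?_⟩
  · exact Cfsg.Agent.Lib.Helper52.PF14Mom.xy_of_frobClass hGS hGT hW hodd hη φ ψ hφ hψ hφ1 hψ1 hqp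
      hS01 hS11 hT10 hT11 hSn1.hu hSn2.hu hTn1.hu hTn2.hu
      (fun a ha => hIIS a (mem_AFin.mp ha)) (fun a ha => hIIT a (mem_AFin.mp ha))
      cl he hcopH hh x y hx hy
  · intro hxe
    exact hpx_of_pside hB hPS hUreg hIIS cl he ψ hψ hψ1 (k₀ : G) k₀.2 hk₀' x
      (hx _ k₀.2 hk₀') hxe
  · intro hye
    have he' : H.relIndex L = Nat.card W₁ * Nat.card W₂ := by rw [he, mul_comm]
    exact hpx_of_pside hB hPT hVreg hIIT cl he' φT hφT hφT1 (k₀ : G) k₀.2 hk₀' y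
      (by rw [hη10]; exact hy _ k₀.2 hk₀') hye

omit [Fintype S] in
/-- **`hchar`** (the hypothesis of helper34's `exists_y_of_b_final`) from `PairHyp`, `Stmt1543`,
the book data, [ORTH] (with `φ = 1` allowed) and [BETA-G]. -/
theorem hchar_of (hG : IsMinSimpleOddOrder G) (bg : BookBGData G) (pf8 : BookPF8Data G)
    (h1543 : Stmt1543 G) (hB : BetaGStmt G) (hO : OrthStmtGen G)
    {T V : Subgroup G} (ph : PairHyp S T W₁ W₂ U V)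
    (hqp : Nat.card W₁ < Nat.card W₂)
    (hUreg : ∀ z ∈ U, z ≠ 1 → ∀ x ∈ fittingHallOf S, z * x = x * z → x = 1)
    (hVreg : ∀ z ∈ V, z ≠ 1 → ∀ x ∈ fittingHallOf T, z * x = x * z → x = 1)
    (hTII : IsOfTypeII T)
    {L : Subgroup G} (c : FrobClass L (fittingHallOf L))
    (he : (fittingHallOf L).relIndex L = Nat.card W₂ * Nat.card W₁) :
    ∃ x y : ℤ, ((x = 1 ∧ y = 0) ∨ (x = 0 ∧ y = 1) ∨ (x = 0 ∧ y = 0)) ∧
      (Even x → Nat.card (fittingHallOf L) - 1 ≤ Nat.card W₂ * (Nat.card U - 1)) ∧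
      (Even y → Nat.card (fittingHallOf L) - 1 ≤ Nat.card W₁ * (Nat.card V - 1)) := by
  classical
  obtain ⟨hS, hT, hSP, hTP, hST, hII, hS25, hT25⟩ := id ph
  have hodd : Odd (Nat.card G) := hG.1
  have hW : IsSelfNormalizingCyclic W₁ W₂ := hSP.selfNormalizing
  have hoddW : Odd (Nat.card ↥(W₁ ⊔ W₂)) :=
    Odd.of_dvd_nat hodd (Subgroup.card_subgroup_dvd_card _)
  obtain ⟨η, hη⟩ := Cfsg.Agent.S1502.result W₁ W₂ hW hoddW
  let _ : Fintype ↥S := Fintype.ofFinite _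
  let _ : Fintype ↥T := Fintype.ofFinite _
  obtain ⟨mu, dl, hPS⟩ := Cfsg.Agent.Lib.Helper54.PF13PSide.exists_pside hG bg pf8 h1543 ph hη
  obtain ⟨mu', dl', hPT⟩ := Cfsg.Agent.Lib.Helper54.PF13PSide.exists_pside hG bg pf8 h1543 ph.symm
    (isCyclicTIFamily_swap hη)
  obtain ⟨-, hSII', -⟩ := h1543 S T W₁ W₂ U V hS hT hSP hTP hST hII hS25 hT25
  have hSII : IsOfTypeII S := hSII' hqp
  have hsolvS : Group.IsSolvable ↥⁅S, S⁆ :=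
    Cfsg.Agent.Lib.Helper26.PFBook.isSolvable_of_isCoatom hG hS
      (Cfsg.Agent.Lib.Helper26.PFEight.commutator_self_le S)
  have hsolvT : Group.IsSolvable ↥⁅T, T⁆ :=
    Cfsg.Agent.Lib.Helper26.PFBook.isSolvable_of_isCoatom hG hT
      (Cfsg.Agent.Lib.Helper26.PFEight.commutator_self_le T)
  exact hchar_of_psides hB hO hPS hPT hqp hUreg hVreg
    (Cfsg.Agent.Lib.Helper54.PF13PSide.litA_typeII hsolvS hSP hSII)
    (Cfsg.Agent.Lib.Helper54.PF13PSide.litA_typeII hsolvT hTP hTII) c he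

end Cfsg.Agent.Lib.Helper10.PF14
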