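import Mathlib
import Cfsg.Agent.Lib.Helper10.PF14Defs
import Cfsg.Agent.Lib.Helper52.PF14XiPar
import Cfsg.Agent.Lib.Helper51.PF14ALA
import Cfsg.Agent.Lib.Helper51.PFCycMuInd
import Cfsg.Agent.Lib.Helper25.PFCycEta
import Cfsg.Agent.Lib.Helper25.PFCycB2Lat

/-!
# PF sec.14, module [PAR-S]: the parity step on one side of the pair (helper10)

`par_side`: in the context `PSide S W₁ U W₂ mu dl η`, for a Type I Frobenius class `(L, K, ⊥)` with
carrier `C` (helper52), disjoint from `A₀(S)^G`, on which every `η ω` is integer valued: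
if `η ψ` takes an EVEN constant value on `K ∖ 1`, then `|K| ≤ |L : K| · N + 1`, where
`‖X_ψ‖² = N + 2` (`N = (|U| - 1)/q`).

Inputs: the conclusions of PF14-[BETA-G] (`xbeta_facts`, see `PF14_MODULES.md`) as hypotheses.
-/

set_option autoImplicit false

namespace Cfsg.Agent.Lib.Helper10.PF14

open Cfsg Cfsg.Agent.Lib.Helper24.PFCyc Cfsg.Agent.Lib.Helper4.PF Cfsg.Agent.Lib.Helper16.PF13
open Cfsg.Agent.Lib.Helper52.PF14Xi

universe u

variable {G : Type u} [Group G] [Fintype G] {S W₁ U W₂ : Subgroup G} [Fintype S]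
  {mu : WChar W₁ W₂ → (↥S → ℂ)} {dl : WChar W₁ W₂ → ℂ} {η : WChar W₁ W₂ → (G → ℂ)}

/-- there is a non-trivial character of `W` trivial on `W₂` -/
theorem exists_phi (hW : IsSelfNormalizingCyclic W₁ W₂) (hq : (Nat.card W₁).Prime) :
    ∃ φ : WChar W₁ W₂, TrivOn W₂ φ ∧ φ ≠ 1 := by
  have hc := Cfsg.Agent.Lib.Helper51.PFCyc.card_trivSet_W₂ hW
  have h1 : 1 < (trivSet W₁ W₂ W₂).card := by rw [hc]; exact hq.one_lt
  obtain ⟨φ, hφ, hne⟩ := Finset.exists_mem_ne h1 (1 : WChar W₁ W₂)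
  exact ⟨φ, mem_trivSet.mp hφ, hne⟩

omit [Fintype G] in
theorem mul_ne_of_trivOn {φ ψ ψ' : WChar W₁ W₂}
    (hφ : TrivOn W₂ φ) (hψ : TrivOn W₁ ψ) (hψ' : TrivOn W₁ ψ') (hφ1 : φ ≠ 1) : φ * ψ ≠ ψ' := by
  intro h1
  apply hφ1
  apply Cfsg.Agent.Lib.Helper25.PFCyc.eq_one_of_trivOn _ hφ
  intro w hw
  have h2 := congrArg (fun f : WChar W₁ W₂ => f w) h1
  simp only [MonoidHom.mul_apply] at h2
  rw [hψ w hw, mul_one, hψ' w hw] at h2
  exact h2

open Classical in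
/-- **PF14-[PAR-S]**. -/
theorem par_side (h : PSide S W₁ U W₂ mu dl η)
    {L : Subgroup G} [Fintype L] {K : Subgroup L} {τ₁ : (L → ℂ) → (G → ℂ)} {φ₀ : L → ℂ}
    (C : Carrier L K ⊥ τ₁ φ₀)
    (ψ : WChar W₁ W₂) (hψ : TrivOn W₁ ψ) (hψ1 : ψ ≠ 1)
    (N : ℕ) (hN : classInner (betaS S mu ψ) (betaS S mu ψ) = (N : ℂ) + 2)
    (hX : IsGeneralizedCharacter G (XbetaS S mu ψ) ∧
      classInner (XbetaS S mu ψ) (XbetaS S mu ψ) = classInner (betaS S mu ψ) (betaS S mu ψ) ∧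
      classInner (XbetaS S mu ψ) (fun _ => (1 : ℂ)) = 1 ∧
      (∀ g : G, (∀ x : G, x * g * x⁻¹ ∉ litA0 S) → XbetaS S mu ψ g = 0) ∧
      (∀ g : G, ((XbetaS S mu ψ + η ψ) g).im = 0) ∧
      (∀ φ ψ' : WChar W₁ W₂, TrivOn W₂ φ → TrivOn W₁ ψ' → φ ≠ 1 → ψ' ≠ 1 →
        classInner (XbetaS S mu ψ) (η (φ * ψ')) = classInner (XbetaS S mu ψ) (η φ) +
          classInner (XbetaS S mu ψ) (η ψ') + (if ψ' = ψ then 1 else 0)))
    (hdisj : ∀ k : L, k ∈ K → k ≠ 1 → ∀ x : G, x * (k : G) * x⁻¹ ∉ litA0 S)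
    (hint : ∀ ω : WChar W₁ W₂, ∀ k : L, k ∈ K → k ≠ 1 → ∃ n : ℤ, η ω k = n)
    (x : ℤ) (hx : ∀ k : L, k ∈ K → k ≠ 1 → η ψ k = x) (hxe : Even x) :
    (Nat.card K : ℤ) ≤ (K.index : ℤ) * N + 1 := by
  obtain ⟨hXgen, hXnorm, hX1, hXsupp, hXreal, hXrect⟩ := hX
  have hW := h.hP.selfNormalizing
  obtain ⟨φ, hφ, hφ1⟩ := exists_phi hW h.hq
  have hKn := C.hKn
  have hoddL : Odd (Nat.card L) := Odd.of_dvd_nat h.hodd (Subgroup.card_subgroup_dvd_card L)
  -- facts on the `η ω`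
  have hsirr : ∀ ω, Cfsg.Agent.Lib.Helper25.SIrr G (η ω) := fun ω => h.hη.irr_or_neg ω
  have horth : ∀ ω, ∀ χ ∈ inducedIrrAbove K ⊥, classInner (η ω) (τ₁ χ) = 0 := by
    intro ω χ hχ
    have h1 := (Cfsg.Agent.Lib.Helper51.PF14.orth_and_const_of_ind L K τ₁ hoddL C.hSirr C.hτ₁
      C.hext (η ω) (hsirr ω) (hint ω)).1 χ hχ
    rw [← Cfsg.Agent.Lib.Helper26.classInner_conj_symm, h1, map_zero]
  have hsuppK : ∀ k : L, k ∈ supp K ⊥ → k ∈ K ∧ k ≠ 1 := by
    intro k hk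
    refine ⟨hk.1, ?_⟩
    intro hk1
    exact hk.2 (by rw [hk1]; exact Subgroup.one_mem _)
  have hone : η 1 = fun _ => (1 : ℂ) := h.hη.map_one
  have hne1 : ∀ ω : WChar W₁ W₂, ω ≠ 1 → classInner (η ω) (fun _ : G => (1 : ℂ)) = 0 := by
    intro ω hω
    rw [← hone, h.hη.orthonormal ω 1, if_neg hω]
  have hφψ1 : φ * ψ ≠ 1 := by
    have := mul_ne_of_trivOn (ψ' := 1) hφ hψ (trivOn_one W₁) hφ1
    exact this
  have hφψφ : φ * ψ ≠ φ := by
    intro hc
    apply hψ1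
    ext w
    have h2 := congrArg (fun f : WChar W₁ W₂ => f w) hc
    simp only [MonoidHom.mul_apply] at h2
    have h3 : ψ w = 1 := by
      have h4 : φ w * ψ w = φ w * 1 := by rw [mul_one]; exact h2
      exact mul_left_cancel h4
    rw [h3]
    rfl
  have hφψψ : φ * ψ ≠ ψ := mul_ne_of_trivOn hφ hψ hψ hφ1
  have hφψ' : φ ≠ ψ := by
    intro hc
    apply hφ1
    apply Cfsg.Agent.Lib.Helper25.PFCyc.eq_one_of_trivOn _ hφ
    rw [hc]
    exact hψ
  -- the integers `c`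
  obtain ⟨c0, hc0, -⟩ := Cfsg.Agent.Lib.Helper25.inner_int' hXgen (hsirr (φ * ψ)).gen
  obtain ⟨c1, hc1, -⟩ := Cfsg.Agent.Lib.Helper25.inner_int' hXgen (hsirr φ).gen
  obtain ⟨c2, hc2, -⟩ := Cfsg.Agent.Lib.Helper25.inner_int' hXgen (hsirr ψ).gen
  have hrect : c0 = c1 + c2 + 1 := by
    have := hXrect φ ψ hφ hψ hφ1 hψ1
    rw [hc0, hc1, hc2, if_pos rfl] at this
    exact_mod_cast this
  have key := C.parity_card h.hodd hXgen (hsirr ψ).gen hXreal hX1 (hne1 ψ hψ1)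
    (fun k hk => hXsupp (k : G) (hdisj k (hsuppK k hk).1 (hsuppK k hk).2))
    x (fun k hk => hx k (hsuppK k hk).1 (hsuppK k hk).2) hxe (horth ψ φ₀ C.hφ)
    (N : ℤ) (by rw [hXnorm, hN]; push_cast; ring)
    (κ := Fin 3) ![η (φ * ψ), η φ, η ψ]
    (by
      intro a b
      fin_cases a <;> fin_cases b <;>
        simp only [Matrix.cons_val_zero, Matrix.cons_val_one, Matrix.cons_val_two,
          Matrix.head_cons, Matrix.tail_cons, Fin.zero_eta, Fin.mk_one, Fin.reduceFinMk] <;>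
        rw [h.hη.orthonormal]
      · simp
      · rw [if_neg hφψφ]; simp
      · rw [if_neg hφψψ]; simp
      · rw [if_neg (Ne.symm hφψφ)]; simp
      · simp
      · rw [if_neg hφψ']; simp
      · rw [if_neg (Ne.symm hφψψ)]; simp
      · rw [if_neg (Ne.symm hφψ')]; simp
      · simp)
    (by
      intro a
      fin_cases a <;>
        simp only [Matrix.cons_val_zero, Matrix.cons_val_one, Matrix.cons_val_two,
          Matrix.head_cons, Matrix.tail_cons, Fin.zero_eta, Fin.mk_one, Fin.reduceFinMk]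
      · exact hne1 _ hφψ1
      · exact hne1 _ hφ1
      · exact hne1 _ hψ1)
    (by
      intro a χ hχ
      fin_cases a <;>
        simp only [Matrix.cons_val_zero, Matrix.cons_val_one, Matrix.cons_val_two,
          Matrix.head_cons, Matrix.tail_cons, Fin.zero_eta, Fin.mk_one, Fin.reduceFinMk]
      · exact horth _ χ hχ
      · exact horth _ χ hχ
      · exact horth _ χ hχ)
    ![c0, c1, c2]
    (by
      intro a
      fin_cases a <;>
        simp only [Matrix.cons_val_zero, Matrix.cons_val_one, Matrix.cons_val_two,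
          Matrix.head_cons, Matrix.tail_cons, Fin.zero_eta, Fin.mk_one, Fin.reduceFinMk]
      · exact hc0
      · exact hc1
      · exact hc2)
    (Cfsg.Agent.Lib.Helper10.PF14Par.exists_ne_zero_of_rect _ (by simpa using hrect))
  have hrel : (⊥ : Subgroup L).relIndex K = Nat.card K := by
    exact Subgroup.relIndex_bot_left K
  rw [hrel] at key
  exact key

end Cfsg.Agent.Lib.Helper10.PF14
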