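import Cfsg.Agent.Lib.Helper10.PF14Tour

/-!
# PF sec. 14 (b): the tournament corollary (helper10)

Two "TI Frobenius classes" `k = 1, 2` are given abstractly by
`Ξ_k = A_k + X_k` (real generalized character, `⟨Ξ_k,1⟩ = 1`, `‖Ξ_k‖² = e_k + 2 c_k`) and the
orthonormal family `Y_k i` of exceptional characters (`⟨Ξ_k, Y_k i⟩ = d_k i * c_k`), with the cross
relations `⟨A_1,A_2⟩ = 0`, `⟨Y_1 i, Y_2 j⟩ = 0`, `⟨A_1, Y_2 j⟩ = d_2 j * c₂₁`,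
`⟨Y_1 i, A_2⟩ = d_1 i * c₁₂`, `X_k = Y_k i_k` with `d_k i_k = 1`.
Then `s_2 ≤ e_1 - 1` or `s_1 ≤ e_2 - 1`, where `s_k = ∑ (d_k i)²`.
-/

set_option autoImplicit false
set_option linter.unusedSectionVars false

namespace Cfsg.Agent.Lib.Helper10.PF14Tour

open Cfsg Cfsg.Agent.Lib.Helper78 Cfsg.Agent.Lib.Helper74
open scoped ComplexConjugate

variable {G : Type*} [Group G] [Fintype G]

theorem two_c_sub_le (c s : ℤ) (hs : 2 ≤ s) : 2 * c - c ^ 2 * s ≤ 0 := by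
  rcases le_or_gt c 0 with h | h
  · have h1 : 0 ≤ c ^ 2 * s := mul_nonneg (sq_nonneg c) (by omega)
    nlinarith
  · have h1 : c ^ 2 * 2 ≤ c ^ 2 * s := mul_le_mul_of_nonneg_left hs (sq_nonneg c)
    nlinarith

/-- One half of the corollary: if `c₂₁ ≠ 0` then `s₂ ≤ e₁ - 1`. -/
theorem tour_half {ι₁ ι₂ : Type*} [Fintype ι₁] [Fintype ι₂] [DecidableEq ι₁] [DecidableEq ι₂]
    {A₁ X₁ : G → ℂ} (Y₁ : ι₁ → G → ℂ) (Y₂ : ι₂ → G → ℂ)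
    (hY₁ : ∀ i j, classInner (Y₁ i) (Y₁ j) = if i = j then 1 else 0)
    (hY₂ : ∀ i j, classInner (Y₂ i) (Y₂ j) = if i = j then 1 else 0)
    (hY₁₂ : ∀ i j, classInner (Y₁ i) (Y₂ j) = 0)
    (hY₁1 : ∀ i, classInner (Y₁ i) (fun _ => (1 : ℂ)) = 0)
    (hY₂1 : ∀ i, classInner (Y₂ i) (fun _ => (1 : ℂ)) = 0)
    (e₁ c₁ : ℤ) (hN : classInner (A₁ + X₁) (A₁ + X₁) = ((e₁ + 2 * c₁ : ℤ) : ℂ))
    (ht : classInner (A₁ + X₁) (fun _ => (1 : ℂ)) = 1)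
    (d₁ : ι₁ → ℤ) (d₂ : ι₂ → ℤ)
    (h₁ : ∀ i, classInner (A₁ + X₁) (Y₁ i) = ((d₁ i * c₁ : ℤ) : ℂ))
    (c₂₁ : ℤ) (h₂ : ∀ j, classInner (A₁ + X₁) (Y₂ j) = ((d₂ j * c₂₁ : ℤ) : ℂ))
    (hs₁ : 2 ≤ ∑ i, d₁ i ^ 2) (hc : c₂₁ ≠ 0) :
    ∑ j, d₂ j ^ 2 ≤ e₁ - 1 := by
  classical
  -- the family Y₁ ⊕ Y₂
  let Y : ι₁ ⊕ ι₂ → G → ℂ := fun o => Sum.elim Y₁ Y₂ o
  have hY : ∀ a b, classInner (Y a) (Y b) = if a = b then 1 else 0 := by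
    intro a b
    cases a with
    | inl i =>
      cases b with
      | inl j =>
        have := hY₁ i j
        by_cases hij : i = j
        · subst hij; simpa [Y] using this
        · rw [if_neg hij] at this
          have hne : (Sum.inl i : ι₁ ⊕ ι₂) ≠ Sum.inl j := fun h => hij (Sum.inl.inj h)
          rw [if_neg hne]; simpa [Y] using this
      | inr j =>
        have hne : (Sum.inl i : ι₁ ⊕ ι₂) ≠ Sum.inr j := by simp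
        rw [if_neg hne]; simpa [Y] using hY₁₂ i j
    | inr i =>
      cases b with
      | inl j =>
        have hne : (Sum.inr i : ι₁ ⊕ ι₂) ≠ Sum.inl j := by simp
        rw [if_neg hne]
        have h := hY₁₂ j i
        have h' : classInner (Y₂ i) (Y₁ j) = 0 := by
          rw [← classInner_conj_symm, h]; simp
        simpa [Y] using h'
      | inr j =>
        have := hY₂ i j
        by_cases hij : i = j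
        · subst hij; simpa [Y] using this
        · rw [if_neg hij] at this
          have hne : (Sum.inr i : ι₁ ⊕ ι₂) ≠ Sum.inr j := fun h => hij (Sum.inr.inj h)
          rw [if_neg hne]; simpa [Y] using this
  have hY1 : ∀ a, classInner (Y a) (fun _ => (1 : ℂ)) = 0 := by
    intro a
    cases a with
    | inl i => simpa [Y] using hY₁1 i
    | inr j => simpa [Y] using hY₂1 j
  let a : ι₁ ⊕ ι₂ → ℤ := fun o => Sum.elim (fun i => d₁ i * c₁) (fun j => d₂ j * c₂₁) o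
  have ha : ∀ o, classInner (A₁ + X₁) (Y o) = ((a o : ℤ) : ℂ) := by
    intro o
    cases o with
    | inl i => simpa [Y, a] using h₁ i
    | inr j => simpa [Y, a] using h₂ j
  have hb := norm_bound_gen Y hY hY1 (A₁ + X₁) (e₁ + 2 * c₁) hN ht a ha
  rw [Fintype.sum_sum_type] at hb
  have e1 : ∑ i, a (Sum.inl i) ^ 2 = c₁ ^ 2 * ∑ i, d₁ i ^ 2 := by
    rw [Finset.mul_sum]
    apply Finset.sum_congr rfl
    intro i _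
    show (d₁ i * c₁) ^ 2 = _
    ring
  have e2 : ∑ j, a (Sum.inr j) ^ 2 = c₂₁ ^ 2 * ∑ j, d₂ j ^ 2 := by
    rw [Finset.mul_sum]
    apply Finset.sum_congr rfl
    intro j _
    show (d₂ j * c₂₁) ^ 2 = _
    ring
  rw [e1, e2] at hb
  have h3 := two_c_sub_le c₁ (∑ i, d₁ i ^ 2) hs₁
  have hs2 : 0 ≤ ∑ j, d₂ j ^ 2 := Finset.sum_nonneg (fun j _ => sq_nonneg _)
  have hc2 : 1 ≤ c₂₁ ^ 2 := by
    have : 0 < c₂₁ ^ 2 := by positivity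
    omega
  have h4 : ∑ j, d₂ j ^ 2 ≤ c₂₁ ^ 2 * ∑ j, d₂ j ^ 2 := by
    nlinarith
  linarith

/-- **Tournament corollary**: `s₂ ≤ e₁ - 1` or `s₁ ≤ e₂ - 1`. -/
theorem tour_cor (hodd : Odd (Nat.card G))
    {ι₁ ι₂ : Type*} [Fintype ι₁] [Fintype ι₂] [DecidableEq ι₁] [DecidableEq ι₂]
    {A₁ X₁ A₂ X₂ : G → ℂ} (Y₁ : ι₁ → G → ℂ) (Y₂ : ι₂ → G → ℂ)
    (g₁ : IsGeneralizedCharacter G (A₁ + X₁)) (g₂ : IsGeneralizedCharacter G (A₂ + X₂))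
    (r₁ : ∀ g, ((A₁ + X₁) g).im = 0) (r₂ : ∀ g, ((A₂ + X₂) g).im = 0)
    (t₁ : classInner (A₁ + X₁) (fun _ => (1 : ℂ)) = 1)
    (t₂ : classInner (A₂ + X₂) (fun _ => (1 : ℂ)) = 1)
    (hY₁ : ∀ i j, classInner (Y₁ i) (Y₁ j) = if i = j then 1 else 0)
    (hY₂ : ∀ i j, classInner (Y₂ i) (Y₂ j) = if i = j then 1 else 0)
    (hY₁₂ : ∀ i j, classInner (Y₁ i) (Y₂ j) = 0)
    (hY₁1 : ∀ i, classInner (Y₁ i) (fun _ => (1 : ℂ)) = 0)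
    (hY₂1 : ∀ i, classInner (Y₂ i) (fun _ => (1 : ℂ)) = 0)
    (i₁ : ι₁) (i₂ : ι₂) (hX₁ : X₁ = Y₁ i₁) (hX₂ : X₂ = Y₂ i₂)
    (d₁ : ι₁ → ℤ) (d₂ : ι₂ → ℤ) (hd₁ : d₁ i₁ = 1) (hd₂ : d₂ i₂ = 1)
    (e₁ c₁ e₂ c₂ : ℤ)
    (N₁ : classInner (A₁ + X₁) (A₁ + X₁) = ((e₁ + 2 * c₁ : ℤ) : ℂ))
    (N₂ : classInner (A₂ + X₂) (A₂ + X₂) = ((e₂ + 2 * c₂ : ℤ) : ℂ))
    (h₁₁ : ∀ i, classInner (A₁ + X₁) (Y₁ i) = ((d₁ i * c₁ : ℤ) : ℂ))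
    (h₂₂ : ∀ j, classInner (A₂ + X₂) (Y₂ j) = ((d₂ j * c₂ : ℤ) : ℂ))
    (hAA : classInner A₁ A₂ = 0)
    (c₁₂ c₂₁ : ℤ)
    (hA₁Y₂ : ∀ j, classInner A₁ (Y₂ j) = ((d₂ j * c₂₁ : ℤ) : ℂ))
    (hA₂Y₁ : ∀ i, classInner A₂ (Y₁ i) = ((d₁ i * c₁₂ : ℤ) : ℂ))
    (hs₁ : 2 ≤ ∑ i, d₁ i ^ 2) (hs₂ : 2 ≤ ∑ j, d₂ j ^ 2) :
    (∑ j, d₂ j ^ 2 ≤ e₁ - 1) ∨ (∑ i, d₁ i ^ 2 ≤ e₂ - 1) := by
  classical
  have hY₂₁ : ∀ j i, classInner (Y₂ j) (Y₁ i) = 0 := by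
    intro j i
    rw [← classInner_conj_symm, hY₁₂ i j]; simp
  have hXX : classInner X₁ X₂ = 0 := by rw [hX₁, hX₂]; exact hY₁₂ i₁ i₂
  have hAX : classInner A₁ X₂ = c₂₁ := by
    rw [hX₂, hA₁Y₂ i₂, hd₂]; simp
  have hXA : classInner X₁ A₂ = c₁₂ := by
    rw [hX₁, ← classInner_conj_symm, hA₂Y₁ i₁, hd₁]; simp
  have hodd' := tournament_split hodd g₁ g₂ r₁ r₂ t₁ t₂ hAA hXX c₁₂ c₂₁ hAX hXA
  have hne : c₂₁ ≠ 0 ∨ c₁₂ ≠ 0 := by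
    by_contra h
    have h1 : c₂₁ = 0 := by
      by_contra h1; exact h (Or.inl h1)
    have h2 : c₁₂ = 0 := by
      by_contra h2; exact h (Or.inr h2)
    rw [h1, h2] at hodd'
    exact absurd hodd' (by decide)
  rcases hne with h | h
  · left
    refine tour_half Y₁ Y₂ hY₁ hY₂ hY₁₂ hY₁1 hY₂1 e₁ c₁ N₁ t₁ d₁ d₂ h₁₁ c₂₁ ?_ hs₁ h
    intro j
    rw [classInner_add_left, hA₁Y₂ j, hX₁, hY₁₂ i₁ j, add_zero]
  · right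
    refine tour_half Y₂ Y₁ hY₂ hY₁ hY₂₁ hY₂1 hY₁1 e₂ c₂ N₂ t₂ d₂ d₁ h₂₂ c₁₂ ?_ hs₂ h
    intro i
    rw [classInner_add_left, hA₂Y₁ i, hX₂, hY₂₁ i₂ i, add_zero]

end Cfsg.Agent.Lib.Helper10.PF14Tour
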