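import Mathlib
import Cfsg.Prelude.Def_PLocal
import Cfsg.Prelude.Def_LocalEven
import Cfsg.Prelude.Def_ConjugacyFunctors
import Cfsg.Agent.Lib.Helper10.ZJFunctor
import Cfsg.Agent.Lib.Helper10.HyperStableOdd
import Cfsg.Agent.Lib.Helper10.FrattiniFusion
import Cfsg.Agent.Lib.Helper33.SectionFusion
import Cfsg.Agent.Lib.Helper51.QuotStable
import Cfsg.Agent.S1969
import Cfsg.Agent.S3836

/-!
# `Z(J(P))` controls strong fusion in normalizer-`p`-stable groups, all odd `p` (helper10)

Same as `PStableZJ`, for every odd prime (via `HyperStableOdd`).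

Only the group itself is assumed `p`-stable (in the normalizer form), not its sections.  The induction
of helper33's `familyControls_of_secProp` is run with two changes: in the centric case the `ZJ`-theorem
is applied to `G ⧸ O_{p'}(G)` (helper51's `hst_quotient_of_isNormalizerPStable`); in the non-centric case
with `O_p(G) ≠ 1` either `S C_G(O_p(G)) < G` and a Frattini argument reduces to proper subgroups, or all
`p'`-elements centralize `O_p(G)` and `G ⧸ O_p(G)` is again `p`-stable (`HyperStable`).
-/

set_option autoImplicit false
open Cfsg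

namespace Cfsg.Agent.Lib.Helper10

open scoped commutatorElement
open Cfsg.Agent.Lib.Helper11 Cfsg.Agent.Lib.Helper33

universe u

theorem familyControls_zj_of_pstable_odd {p : ℕ} [hp : Fact p.Prime] (hp2 : p ≠ 2) :
    ∀ n : ℕ, ∀ (G : Type u) [Group G] [Finite G], Nat.card G = n → IsNormalizerPStable p G →
      FamilyControlsStrongFusionIn p
        (indFam ({zjFun} : Set (∀ (Q : Type u) [Group Q], Subgroup Q)) G) ⊤ := by
  have h𝓦 : ∀ W ∈ ({zjFun} : Set (∀ (Q : Type u) [Group Q], Subgroup Q)),
      IsCharPFunctor.{u} p W := by
    rintro W rfl; exact isCharPFunctor_zjFun p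
  intro n
  induction n using Nat.strong_induction_on with
  | _ n IH =>
  intro G _ _ hn hst
  obtain S : Sylow p G := Classical.arbitrary _
  have hPn : (pCore p G).Normal := Subgroup.sSup_normal _ (fun _ h => h.1)
  have hPS : pCore p G ≤ (S : Subgroup G) := Cfsg.Agent.Lib.Helper76.pCore_le_sylow p S
  have hPmax : ∀ N : Subgroup G, N.Normal → IsPGroup p N → N ≤ pCore p G :=
    fun N hN hNp => Cfsg.Agent.Lib.Helper76.le_pCore p N hN hNp
  have IHsub : ∀ H : Subgroup G, H ≠ ⊤ →
      FamilyControlsStrongFusionIn p (indFam {zjFun} G) H := by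
    intro H hH
    apply familyControls_subgroup_of_top h𝓦 H
    refine IH (Nat.card H) ?_ ↥H rfl (Cfsg.Agent.S3836.result hst H)
    rw [← hn, ← Subgroup.card_top (G := G)]
    exact card_lt_card_of_lt (lt_top_iff_ne_top.mpr hH)
  by_cases hc : (S : Subgroup G) ⊓ Subgroup.centralizer ((pCore p G : Subgroup G) : Set G) ≤
      pCore p G
  · -- `O_p(G)` is centric: `G ⧸ O_{p'}(G)` is constrained
    have hKn : (pPrimeCore p G).Normal := Subgroup.sSup_normal _ (fun _ h => h.1)
    have hK : (Nat.card (pPrimeCore p G)).Coprime p :=
      Cfsg.Agent.Lib.Helper76.pPrimeCore_coprime p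
    have hKmax : ∀ N : Subgroup G, N.Normal → (Nat.card N).Coprime p → N ≤ pPrimeCore p G :=
      fun N hN hNp => Cfsg.Agent.Lib.Helper76.le_pPrimeCore p N hN hNp
    have hcon := constrained_quotient_of_normal_centric S (pCore p G) hPS hc (pPrimeCore p G)
      hK hKmax
    have hnormal : ∀ T : Sylow p (G ⧸ pPrimeCore p G),
        (inducedFunctor zjFun (T : Subgroup (G ⧸ pPrimeCore p G))).Normal := by
      intro T
      rw [inducedFunctor_zjFun, Cfsg.Agent.S0653.centerThompsonAOf_eq_famInf]
      exact famInf_normal' hp2 isMulCommutative_bot'' (fun _ h => h)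
        (fun _ _ _ => Subgroup.map_isMulCommutative _ _) (replClosed_comm hp2) hcon
        (Cfsg.Agent.Lib.Helper51.hst_quotient_of_isNormalizerPStable _ hK hst) T
    have h1 := Cfsg.Agent.S1969.familyControls_of_normal zjFun hnormal
    exact familyControls_of_quotient_pPrime h𝓦 (pPrimeCore p G) hK h1
  · by_cases hP1 : pCore p G = ⊥
    · -- `O_p(G) = 1`: all local subgroups are proper
      refine familyControls_top_of_local S (indFam {zjFun} G)
        (indFam_isConjugacyFunctor {zjFun} h𝓦 G) Set.univ ?_ ?_
      · intro Q hQ
        obtain ⟨g, hle, hfn⟩ := exists_fullyNormalized_cj S hQ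
        exact ⟨cj g Q, trivial, ⟨g, rfl⟩, hle, hfn⟩
      · intro U _ hUne hUS _
        apply IHsub
        intro htop
        have hUn : U.Normal := Subgroup.normalizer_eq_top_iff.mp htop
        have := hPmax U hUn (S.isPGroup'.to_le hUS)
        rw [hP1] at this
        exact hUne (le_bot_iff.mp this)
    · -- `O_p(G) ≠ 1` not centric
      have hQp : IsPGroup p (pCore p G) := S.isPGroup'.to_le hPS
      have hKn : (Subgroup.centralizer ((pCore p G : Subgroup G) : Set G)).Normal :=
        Subgroup.normal_centralizer
      by_cases hSK : (S : Subgroup G) ⊔ Subgroup.centralizer ((pCore p G : Subgroup G) : Set G) = ⊤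
      · -- all `p'`-elements centralize `O_p(G)`
        have hQc : ∀ y : G, (orderOf y).Coprime p →
            y ∈ Subgroup.centralizer ((pCore p G : Subgroup G) : Set G) := by
          intro y hy
          have hy' : y ∈ (S : Subgroup G) ⊔
              Subgroup.centralizer ((pCore p G : Subgroup G) : Set G) := by
            rw [hSK]; exact Subgroup.mem_top y
          obtain ⟨s, hs, k, hk, rfl⟩ := exists_mul_of_mem_sup_normal hy'
          obtain ⟨j, hj⟩ := S.isPGroup' ⟨s, hs⟩
          have hsj : s ^ p ^ j = 1 := by simpa using congrArg Subtype.val hj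
          obtain ⟨π, hπ⟩ : ∃ π : G →* G ⧸ Subgroup.centralizer ((pCore p G : Subgroup G) : Set G),
            π = QuotientGroup.mk' _ := ⟨_, rfl⟩
          have hπk : π k = 1 := by rw [hπ]; exact (QuotientGroup.eq_one_iff _).mpr hk
          have h1 : π (s * k) ^ orderOf (s * k) = 1 := by
            rw [← map_pow, pow_orderOf_eq_one, map_one]
          have h2 : π (s * k) ^ p ^ j = 1 := by
            rw [map_mul, hπk, mul_one, ← map_pow, hsj, map_one]
          have h3 := Cfsg.Agent.Lib.Helper76.eq_one_of_pow_eq_one_of_coprime p _ _ j hy h1 h2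
          rw [hπ] at h3
          exact (QuotientGroup.eq_one_iff _).mp h3
        have hstQ : IsNormalizerPStable p (G ⧸ pCore p G) :=
          isNormalizerPStable_quotient_of_hyper_odd hp2 hst (pCore p G) hQp hQc
        have H1 : FamilyControlsStrongFusionIn p (indFam {zjFun} (G ⧸ pCore p G)) ⊤ := by
          refine IH (Nat.card (G ⧸ pCore p G)) ?_ (G ⧸ pCore p G) rfl hstQ
          rw [← hn, Subgroup.card_eq_card_quotient_mul_card_subgroup (pCore p G)]
          have h1 : 1 < Nat.card ↥(pCore p G) := by
            rw [Subgroup.one_lt_card_iff_ne_bot]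
            exact hP1
          have h0 : 0 < Nat.card (G ⧸ pCore p G) := Nat.card_pos
          nlinarith
        exact familyControls_of_pQuot h𝓦 S (pCore p G) hPS hPmax hc H1
          (fun X _ _ hne => IHsub _ hne)
      · -- Frattini argument
        have hcfG := indFam_isConjugacyFunctor {zjFun} h𝓦 G
        rw [familyControls_iff_good]
        refine ⟨(S : Subgroup G), sylIn_top S, ?_⟩
        intro A g _ hA hgA
        refine good_of_frattini S _ (Subgroup.centralizer ((pCore p G : Subgroup G) : Set G))
          ?_ ?_ A g hA hgA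
        · intro z hz C hC hzC
          have := good_of_familyControls hcfG (IHsub _ hSK) (sylIn_of_sylow_le S le_sup_left)
            C z hz hC hzC
          exact this.mono (stepSet_subset_top _ _ _) le_rfl le_rfl
        · intro z hz C hC hzC
          have hSN : (S : Subgroup G) ≤ Subgroup.normalizer
              ((((S : Subgroup G) ⊓ Subgroup.centralizer ((pCore p G : Subgroup G) : Set G) :
                Subgroup G)) : Set G) := by
            intro s hs
            rw [mem_normalizer_iff_cj_eq, cj_inf, cj_eq_self_of_mem hs]
            congr 1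
            apply cj_eq_self_of_mem_normalizer
            rw [Subgroup.normalizer_eq_top]; exact Subgroup.mem_top s
          have hne : Subgroup.normalizer
              ((((S : Subgroup G) ⊓ Subgroup.centralizer ((pCore p G : Subgroup G) : Set G) :
                Subgroup G)) : Set G) ≠ ⊤ := by
            intro htop
            have hn' := Subgroup.normalizer_eq_top_iff.mp htop
            exact hc (hPmax _ hn' (S.isPGroup'.to_le inf_le_left))
          have := good_of_familyControls hcfG (IHsub _ hne) (sylIn_of_sylow_le S hSN)
            C z hz hC hzC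
          exact this.mono (stepSet_subset_top _ _ _) le_rfl le_rfl

/-- **Glauberman's `ZJ`-theorem for strong fusion**, `p` odd, normalizer form of `p`-stability. -/
theorem controlsStrongFusionOf_zj_of_pstable_odd {p : ℕ} [Fact p.Prime] (hp2 : p ≠ 2)
    {G : Type u} [Group G] [Finite G] (hst : IsNormalizerPStable p G) (P : Sylow p G) :
    ∀ A : Set G, A ⊆ (P : Subgroup G) →
      ControlsStrongFusionOf (Subgroup.normalizer (centerThompsonAOf (P : Subgroup G) : Set G))
        (P : Subgroup G) A := by
  have hY := familyControls_zj_of_pstable_odd hp2 _ G rfl hst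
  have hcf := isConjugacyFunctor_inducedFunctor zjFun (isCharPFunctor_zjFun p) (G := G)
  have e : indFam ({zjFun} : Set (∀ (Q : Type u) [Group Q], Subgroup Q)) G =
      {inducedFunctor (G := G) zjFun} := by
    unfold indFam
    rw [Set.image_singleton]
  rw [e] at hY
  have hgood := good_of_familyControls (by rintro W' rfl; exact hcf) hY (sylIn_top P)
  intro A hA
  refine ⟨hA, fun g hg => ?_⟩
  obtain ⟨g', hreach, hagree⟩ := hgood A g (Subgroup.mem_top _) hA hg
  rw [stepSet_singleton] at hreach
  rw [← inducedFunctor_zjFun]
  exact ⟨g', (hreach.mem_of_subgroup).2, fun a ha => (hagree a ha).symm⟩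

end Cfsg.Agent.Lib.Helper10
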