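import Mathlib
import Cfsg.Prelude.Def_PLocal
import Cfsg.Prelude.Def_LocalEven
import Cfsg.Agent.Lib.Helper46.QdStruct
import Cfsg.Agent.Lib.Helper11.ZJ2
import Cfsg.Agent.Lib.Helper97.Quadratic
import Cfsg.Agent.Lib.Helper10.QdNatural
import Cfsg.Agent.Lib.Helper11.DicksonCore

/-!
# `Qd(p)` is not `p`-stable (helper10)

* `isNormalizerPStable_of_mulEquiv`: `Cfsg.IsNormalizerPStable` is invariant under isomorphism.
* `not_isNormalizerPStable_qd`: `Qd(p)` is not `p`-stable in the normalizer form: the element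
  `diag(u(1), 1)` acts quadratically on the translation subgroup `V`, but its image in
  `Qd(p) / C(V) ≅ SL₂(p)` is not in `O_p = 1`.
-/

set_option autoImplicit false
open Cfsg

namespace Cfsg.Agent.Lib.Helper10

open scoped commutatorElement
open Cfsg.Agent.Lib.Helper46

/-- `p`-stability in the normalizer form is invariant under isomorphism. -/
theorem isNormalizerPStable_of_mulEquiv {X Y : Type*} [Group X] [Group Y] {p : ℕ} (e : X ≃* Y)
    (h : IsNormalizerPStable p X) : IsNormalizerPStable p Y := by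
  intro P hP g hg hquad
  obtain ⟨P', hP'⟩ : ∃ P' : Subgroup X, P' = P.comap e.toMonoidHom := ⟨_, rfl⟩
  have hP'map : P'.map e.toMonoidHom = P := by
    rw [hP']; exact Subgroup.map_comap_eq_self_of_surjective e.surjective P
  have hP'p : IsPGroup p P' := by
    rw [hP']; exact hP.comap_of_injective e.toMonoidHom e.injective
  have hmemP' : ∀ x : X, x ∈ P' ↔ e x ∈ P := by
    intro x; rw [hP']; rfl
  have hnorm : ∀ x : X, x ∈ Subgroup.normalizer (P' : Set X) ↔
      e x ∈ Subgroup.normalizer (P : Set Y) := by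
    intro x
    rw [Subgroup.mem_normalizer_iff, Subgroup.mem_normalizer_iff]
    constructor
    · intro hx y
      obtain ⟨y, rfl⟩ := e.surjective y
      rw [← hmemP', hx y, hmemP']
      simp
    · intro hx y
      rw [hmemP', hx (e y), hmemP']
      simp
  have hg' : e.symm g ∈ Subgroup.normalizer (P' : Set X) := by
    rw [hnorm]; simpa using hg
  have hquad' : ⁅⁅P', Subgroup.zpowers (e.symm g)⁆, Subgroup.zpowers (e.symm g)⁆ = ⊥ := by
    rw [← Cfsg.Agent.Lib.Helper97.quad_map_iff e.toMonoidHom e.injective, hP'map]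
    simpa using hquad
  have h1 := h P' hP'p (e.symm g) hg' hquad'
  -- the restriction of e to the normalizers
  let f : ↥(Subgroup.normalizer (P' : Set X)) →* ↥(Subgroup.normalizer (P : Set Y)) :=
    (e.toMonoidHom.comp (Subgroup.normalizer (P' : Set X)).subtype).codRestrict _
      (fun x => (hnorm x).mp x.2)
  have hf : Function.Surjective f := by
    rintro ⟨y, hy⟩
    refine ⟨⟨e.symm y, by rw [hnorm]; simpa using hy⟩, ?_⟩
    apply Subtype.ext
    simp [f]
  have hC : (Subgroup.centralizer (P' : Set X)).subgroupOf (Subgroup.normalizer (P' : Set X)) =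
      ((Subgroup.centralizer (P : Set Y)).subgroupOf (Subgroup.normalizer (P : Set Y))).comap f := by
    ext ⟨x, hx⟩
    rw [Subgroup.mem_comap, Subgroup.mem_subgroupOf, Subgroup.mem_subgroupOf,
      Subgroup.mem_centralizer_iff, Subgroup.mem_centralizer_iff]
    constructor
    · intro hc y hy
      obtain ⟨y, rfl⟩ := e.surjective y
      have := hc y ((hmemP' y).mpr hy)
      show e y * e x = e x * e y
      rw [← map_mul, ← map_mul, this]
    · intro hc y hy
      have := hc (e y) ((hmemP' y).mp hy)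
      apply e.injective
      rw [map_mul, map_mul]
      exact this
  have h2 := (Cfsg.Agent.Lib.Helper11.mem_pCore_quotient_iff_of_surjective (p := p) f hf _ _ hC
    ⟨e.symm g, hg'⟩).mp h1
  have h3 : f ⟨e.symm g, hg'⟩ = ⟨g, hg⟩ := by
    apply Subtype.ext
    simp [f]
  rw [h3] at h2
  exact h2

section qd

variable {p : ℕ} [Fact p.Prime]

/-- commutator of a translation with a linear element -/
theorem comm_affMk (w : Fin 2 → ZMod p) (A : Matrix.SpecialLinearGroup (Fin 2) (ZMod p)) :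
    ⁅affMk (isAff_qd p) 1 w, affMk (isAff_qd p) A 0⁆ =
      affMk (isAff_qd p) 1 (w - (A : Matrix (Fin 2) (Fin 2) (ZMod p)).mulVec w) := by
  have hQ := isAff_qd p
  rw [commutatorElement_def]
  have h1 : affMk hQ A 0 * (affMk hQ 1 w)⁻¹ * (affMk hQ A 0)⁻¹ =
      affMk hQ 1 (-(A : Matrix (Fin 2) (Fin 2) (ZMod p)).mulVec w) := by
    rw [affMk_inv hQ 1 w, inv_one, Matrix.SpecialLinearGroup.coe_one, Matrix.one_mulVec,
      affMk_conj, Matrix.mulVec_neg]
  calc affMk hQ 1 w * affMk hQ A 0 * (affMk hQ 1 w)⁻¹ * (affMk hQ A 0)⁻¹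
      = affMk hQ 1 w * (affMk hQ A 0 * (affMk hQ 1 w)⁻¹ * (affMk hQ A 0)⁻¹) := by group
    _ = _ := by
      rw [h1, affMk_mul, mul_one, Matrix.SpecialLinearGroup.coe_one, Matrix.one_mulVec]
      congr 1
      abel

theorem upperU_mulVec_sub (b : ZMod p) (w : Fin 2 → ZMod p) :
    w - ((Cfsg.Agent.Lib.Helper41.upperU b : Matrix.SpecialLinearGroup (Fin 2) (ZMod p)) :
      Matrix (Fin 2) (Fin 2) (ZMod p)).mulVec w = ![-(b * w 1), 0] := by
  rw [Cfsg.Agent.Lib.Helper41.coe_upperU, mulVec_two]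
  funext i
  fin_cases i <;> simp

/-- **`Qd(p)` is not `p`-stable.** -/
theorem not_isNormalizerPStable_qd : ¬ IsNormalizerPStable p ↥(qd p) := by
  intro hst
  have hpp : p.Prime := Fact.out
  have hQ := isAff_qd p
  obtain ⟨g, hg⟩ : ∃ g : ↥(qd p), g = affMk hQ (Cfsg.Agent.Lib.Helper41.upperU 1) 0 := ⟨_, rfl⟩
  have hPn : (affTransl hQ).Normal := inferInstance
  have hNtop : Subgroup.normalizer ((affTransl hQ : Subgroup ↥(qd p)) : Set ↥(qd p)) = ⊤ :=
    Subgroup.normalizer_eq_top_iff.mpr hPn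
  have hgN : g ∈ Subgroup.normalizer ((affTransl hQ : Subgroup ↥(qd p)) : Set ↥(qd p)) := by
    rw [hNtop]; trivial
  -- powers of g
  have hzp : ∀ y ∈ Subgroup.zpowers g, ∃ b : ZMod p, y = affMk hQ (Cfsg.Agent.Lib.Helper41.upperU b) 0 := by
    intro y hy
    have hle : Subgroup.zpowers g ≤ affBlockSub hQ ⊓
        (Cfsg.Agent.Lib.Helper11.uniSub (ZMod p)).comap (affLin hQ) := by
      rw [Subgroup.zpowers_le, hg]
      refine ⟨affMk_zero_mem hQ _, ?_⟩
      show affLin hQ (affMk hQ (Cfsg.Agent.Lib.Helper41.upperU 1) 0) ∈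
        Cfsg.Agent.Lib.Helper11.uniSub (ZMod p)
      rw [affLin_affMk]
      exact ⟨by rw [Cfsg.Agent.Lib.Helper41.coe_upperU]; simp, by rw [Cfsg.Agent.Lib.Helper41.coe_upperU]; simp⟩
    obtain ⟨h1, h2⟩ := Subgroup.mem_inf.mp (hle hy)
    rw [mem_affBlockSub_iff] at h1
    rw [Subgroup.mem_comap] at h2
    refine ⟨((affLin hQ y : Matrix.SpecialLinearGroup (Fin 2) (ZMod p)) :
      Matrix (Fin 2) (Fin 2) (ZMod p)) 0 1, ?_⟩
    rw [← Cfsg.Agent.Lib.Helper11.eq_upperU_of_mem_uniSub h2, ← h1, affMk_eta]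
  have hquad : ⁅⁅affTransl hQ, Subgroup.zpowers g⁆, Subgroup.zpowers g⁆ = ⊥ := by
    rw [Cfsg.Agent.Lib.Helper97.quad_iff]
    intro v hv y hy z hz
    obtain ⟨w, rfl⟩ := (mem_affTransl_iff_exists hQ v).mp hv
    obtain ⟨b, rfl⟩ := hzp y hy
    obtain ⟨c, rfl⟩ := hzp z hz
    rw [comm_affMk, comm_affMk, upperU_mulVec_sub, upperU_mulVec_sub]
    have : (![-(c * ![-(b * w 1), 0] 1), 0] : Fin 2 → ZMod p) = 0 := by
      funext i
      fin_cases i <;> simp
    rw [this, affMk_one_zero]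
  have h1 := hst (affTransl hQ) (affTransl_isPGroup hQ p) g hgN hquad
  -- the linear part as a homomorphism on N / C
  obtain ⟨ψ, hψ⟩ : ∃ ψ : ↥(Subgroup.normalizer ((affTransl hQ : Subgroup ↥(qd p)) : Set ↥(qd p))) →*
      Matrix.SpecialLinearGroup (Fin 2) (ZMod p),
    ∀ x, ψ x = affLin hQ (x : ↥(qd p)) := ⟨(affLin hQ).comp (Subgroup.subtype _), fun x => rfl⟩
  have hψsurj : Function.Surjective ψ := by
    intro A
    refine ⟨⟨affMk hQ A 0, by rw [hNtop]; trivial⟩, ?_⟩
    rw [hψ, affLin_affMk]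
  have hCker : ∀ x ∈ (Subgroup.centralizer ((affTransl hQ : Subgroup ↥(qd p)) : Set ↥(qd p))).subgroupOf
      (Subgroup.normalizer ((affTransl hQ : Subgroup ↥(qd p)) : Set ↥(qd p))), ψ x = 1 := by
    intro x hx
    rw [Subgroup.mem_subgroupOf, Subgroup.mem_centralizer_iff] at hx
    rw [hψ]
    apply eq_one_of_mulVec
    intro w
    have h2 := hx (affMk hQ 1 w) (affMk_one_mem hQ w)
    have h3 : (x : ↥(qd p)) * affMk hQ 1 w * (x : ↥(qd p))⁻¹ = affMk hQ 1 w := by
      rw [← h2]; group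
    rw [← affMk_eta hQ (x : ↥(qd p)), affMk_conj] at h3
    have h4 := congrArg affCol h3
    rw [affCol_affMk, affCol_affMk] at h4
    exact h4
  obtain ⟨ψ', hψ'⟩ : ∃ ψ' : (↥(Subgroup.normalizer ((affTransl hQ : Subgroup ↥(qd p)) : Set ↥(qd p))) ⧸
      (Subgroup.centralizer ((affTransl hQ : Subgroup ↥(qd p)) : Set ↥(qd p))).subgroupOf
      (Subgroup.normalizer ((affTransl hQ : Subgroup ↥(qd p)) : Set ↥(qd p)))) →*
      Matrix.SpecialLinearGroup (Fin 2) (ZMod p),
      ∀ x, ψ' (QuotientGroup.mk x) = ψ x :=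
    ⟨QuotientGroup.lift _ ψ hCker, fun x => rfl⟩
  have hψ'surj : Function.Surjective ψ' := by
    intro A
    obtain ⟨x, rfl⟩ := hψsurj A
    exact ⟨QuotientGroup.mk x, hψ' x⟩
  have hOn : ((pCore p _).map ψ').Normal := (Cfsg.Agent.Lib.Helper46.pCore_normal (p := p)).map _ hψ'surj
  have hOp : IsPGroup p ((pCore p _).map ψ') := (Cfsg.Agent.Lib.Helper46.pCore_isPGroup (p := p)).map _
  have hbot := sl2_normal_pGroup_eq_bot _ hOp
  have h5 : ψ' (QuotientGroup.mk ⟨g, hgN⟩) ∈ (pCore p _).map ψ' := ⟨_, h1, rfl⟩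
  rw [hbot, Subgroup.mem_bot, hψ', hψ] at h5
  have h6 : affLin hQ g = Cfsg.Agent.Lib.Helper41.upperU 1 := by rw [hg, affLin_affMk]
  rw [h6] at h5
  have := congrArg (fun A : Matrix.SpecialLinearGroup (Fin 2) (ZMod p) =>
    (A : Matrix (Fin 2) (Fin 2) (ZMod p)) 0 1) h5
  have hnt : Nontrivial (ZMod p) := ZMod.nontrivial_iff.mpr hpp.one_lt.ne'
  simp [Cfsg.Agent.Lib.Helper41.coe_upperU] at this

end qd

end Cfsg.Agent.Lib.Helper10
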