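import Mathlib
import Cfsg.Prelude.Def_PLocal
import Cfsg.Prelude.Def_LocalEven
import Cfsg.Agent.Lib.Helper33.QdFusion
import Cfsg.Agent.Lib.Helper46.QdStruct
import Cfsg.Agent.Lib.Helper11.ZJ2
import Cfsg.Agent.S0653

/-!
# `Z(J(T))` does not control strong fusion in `Qd(p)` (helper10)

`not_forall_controls_zj_of_equiv`: in a group `X ≃* Qd(p)` there is a Sylow `p`-subgroup `T₀` such
that `Z(J(T₀))` (abelian version) does not control strong fusion: `a = hs 0 0 1 ∈ Z(T₀) ≤ ZJ(T₀)` is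
conjugate to `b = hs 0 1 0 ∈ O_p(X) ∖ ZJ(T₀)`.
-/

set_option autoImplicit false
open Cfsg

namespace Cfsg.Agent.Lib.Helper10

open scoped commutatorElement
open Cfsg.Agent.Lib.Helper11 Cfsg.Agent.Lib.Helper33 Cfsg.Agent.Lib.Helper46
open Cfsg.Agent.S3074 (hs hs_mem hs_mul hs_inv hs_inj hs_coe hs_one U mem_U card_U card_sylow finite_qd isPGroup_U)

variable {p : ℕ} [hp : Fact p.Prime]

/-- the abelian subgroup `{hs a 0 c}` of the Heisenberg group -/
def qdAb (p : ℕ) [Fact p.Prime] : Subgroup ↥(Cfsg.qd p) where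
  carrier := {g | ∃ a c : ZMod p, (g : Matrix.SpecialLinearGroup (Fin 3) (ZMod p)) = hs a 0 c}
  mul_mem' := by
    rintro g h ⟨a, c, hg⟩ ⟨a', c', hh⟩
    refine ⟨a + a', c + c' + a * 0, ?_⟩
    rw [Subgroup.coe_mul, hg, hh, hs_mul, add_zero]
  one_mem' := ⟨0, 0, by rw [hs_one]; rfl⟩
  inv_mem' := by
    rintro g ⟨a, c, hg⟩
    refine ⟨-a, -c + a * 0, ?_⟩
    rw [Subgroup.coe_inv, hg, hs_inv, neg_zero]

theorem mem_qdAb (g : ↥(Cfsg.qd p)) :
    g ∈ qdAb p ↔ ∃ a c : ZMod p, (g : Matrix.SpecialLinearGroup (Fin 3) (ZMod p)) = hs a 0 c :=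
  Iff.rfl

theorem qdAb_le_U : qdAb p ≤ U p := by
  rintro g ⟨a, c, hg⟩
  exact ⟨a, 0, c, hg⟩

theorem card_qdAb : Nat.card (qdAb p) = p ^ 2 := by
  have hne : NeZero p := ⟨hp.out.ne_zero⟩
  let f : ZMod p × ZMod p → qdAb p := fun t =>
    ⟨⟨hs t.1 0 t.2, hs_mem _ _ _⟩, ⟨t.1, t.2, rfl⟩⟩
  have hf : Function.Bijective f := by
    constructor
    · rintro ⟨a, c⟩ ⟨a', c'⟩ h
      have h' : hs a 0 c = hs a' 0 c' := congr_arg (fun u : qdAb p => ((u : ↥(Cfsg.qd p)) :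
        Matrix.SpecialLinearGroup (Fin 3) (ZMod p))) h
      obtain ⟨h1, -, h3⟩ := hs_inj h'
      rw [h1, h3]
    · rintro ⟨g, a, c, hg⟩
      refine ⟨(a, c), ?_⟩
      apply Subtype.ext
      apply Subtype.ext
      exact hg.symm
  rw [← Nat.card_congr (Equiv.ofBijective f hf), Nat.card_prod, Nat.card_zmod]
  ring

theorem qdAb_comm (x y : ↥(Cfsg.qd p)) (hx : x ∈ qdAb p) (hy : y ∈ qdAb p) : x * y = y * x := by
  obtain ⟨a, c, hx'⟩ := hx
  obtain ⟨a', c', hy'⟩ := hy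
  apply Subtype.ext
  rw [Subgroup.coe_mul, Subgroup.coe_mul, hx', hy', hs_mul, hs_mul]
  congr 1 <;> ring

/-- the Heisenberg group is not abelian -/
theorem U_not_comm : ¬ ∀ x ∈ U p, ∀ y ∈ U p, x * y = y * x := by
  intro h
  have hnt : Nontrivial (ZMod p) := ZMod.nontrivial_iff.mpr hp.out.one_lt.ne'
  have h1 := h ⟨hs 1 0 0, hs_mem _ _ _⟩ ⟨1, 0, 0, rfl⟩ ⟨hs 0 1 0, hs_mem _ _ _⟩ ⟨0, 1, 0, rfl⟩
  have h2 := congrArg (fun u : ↥(Cfsg.qd p) => (u : Matrix.SpecialLinearGroup (Fin 3) (ZMod p))) h1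
  simp only [Subgroup.coe_mul] at h2
  rw [hs_mul, hs_mul] at h2
  obtain ⟨-, -, h3⟩ := hs_inj h2
  simp at h3

theorem hs_zero_mem_affTransl (b c : ZMod p) :
    (⟨hs 0 b c, hs_mem _ _ _⟩ : ↥(Cfsg.qd p)) ∈ affTransl (isAff_qd p) := by
  rw [mem_affTransl_iff_entries]
  simp [hs_coe]

/-- **`Z(J(T))` does not control strong fusion in (a group isomorphic to) `Qd(p)`.** -/
theorem not_forall_controls_zj_of_equiv {X : Type*} [Group X] (e : X ≃* ↥(Cfsg.qd p)) :
    ¬ ∀ T : Sylow p X, ControlsStrongFusion p (centerThompsonAOf (T : Subgroup X)) := by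
  intro hall
  have hpp : p.Prime := hp.out
  have hfinQ : Finite ↥(Cfsg.qd p) := finite_qd
  have hfin : Finite X := Finite.of_equiv _ e.symm.toEquiv
  have hnt : Nontrivial (ZMod p) := ZMod.nontrivial_iff.mpr hpp.one_lt.ne'
  obtain ⟨Q, hQ⟩ := exists_sylow_eq_U (p := p)
  have hrange : (Q : Subgroup ↥(Cfsg.qd p)) ≤ e.toMonoidHom.range := by
    intro y _
    exact ⟨e.symm y, e.apply_symm_apply y⟩
  have hinj : Function.Injective e.toMonoidHom := e.injective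
  obtain ⟨T₀, hT₀⟩ : ∃ T₀ : Sylow p X, T₀ = Q.comapOfInjective e.toMonoidHom hinj hrange := ⟨_, rfl⟩
  have hmemT : ∀ y : X, y ∈ (T₀ : Subgroup X) ↔ e y ∈ U p := by
    intro y
    rw [hT₀]
    show y ∈ (Q : Subgroup ↥(Cfsg.qd p)).comap e.toMonoidHom ↔ _
    rw [Subgroup.mem_comap, hQ]
    rfl
  -- the elements
  obtain ⟨a, ha⟩ : ∃ a : X, a = e.symm ⟨hs 0 0 1, hs_mem _ _ _⟩ := ⟨_, rfl⟩
  obtain ⟨b, hb⟩ : ∃ b : X, b = e.symm ⟨hs 0 1 0, hs_mem _ _ _⟩ := ⟨_, rfl⟩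
  obtain ⟨g, hg⟩ : ∃ g : X, g = e.symm ⟨qdRot p, qdRot_mem⟩ := ⟨_, rfl⟩
  have hea : e a = ⟨hs 0 0 1, hs_mem _ _ _⟩ := by rw [ha, e.apply_symm_apply]
  have heb : e b = ⟨hs 0 1 0, hs_mem _ _ _⟩ := by rw [hb, e.apply_symm_apply]
  have heg : e g = ⟨qdRot p, qdRot_mem⟩ := by rw [hg, e.apply_symm_apply]
  have hgab : g * a * g⁻¹ = b := by
    apply e.injective
    rw [map_mul, map_mul, map_inv, hea, heb, heg]
    apply Subtype.ext
    rw [Subgroup.coe_mul, Subgroup.coe_mul, Subgroup.coe_inv]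
    exact qdRot_conj_hs
  have haT : a ∈ (T₀ : Subgroup X) := by
    rw [hmemT, hea]; exact ⟨0, 0, 1, rfl⟩
  -- Z := ZJ(T₀)
  obtain ⟨Z, hZ⟩ : ∃ Z : Subgroup X, Z = centerThompsonAOf (T₀ : Subgroup X) := ⟨_, rfl⟩
  have hZfam : Z = famInf (fun A : Subgroup X => IsMulCommutative A) (T₀ : Subgroup X) := by
    rw [hZ, Cfsg.Agent.S0653.centerThompsonAOf_eq_famInf]
  -- (i) a ∈ Z
  have haZ : a ∈ Z := by
    have h1 := map_sInf_maxAbelian_eq_zj (T₀ : Subgroup X).subtype (T₀ : Subgroup X).subtype_injective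
    rw [Subgroup.range_subtype] at h1
    rw [hZfam]
    show a ∈ zj (T₀ : Subgroup X)
    rw [← h1]
    refine ⟨⟨a, haT⟩, ?_, rfl⟩
    apply center_le_sInf_maxAbelian
    rw [Subgroup.mem_center_iff]
    rintro ⟨t, ht⟩
    apply Subtype.ext
    show t * a = a * t
    apply e.injective
    rw [map_mul, map_mul, hea]
    obtain ⟨a', b', c', ht'⟩ := (hmemT t).mp ht
    apply Subtype.ext
    rw [Subgroup.coe_mul, Subgroup.coe_mul, ht']
    exact (hs_comm_center a' b' c' 1).symm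
  -- (ii) b ∉ Z
  have hbZ : b ∉ Z := by
    intro hbZ
    obtain ⟨A₀, hA₀⟩ : ∃ A₀ : Subgroup X, A₀ = (qdAb p).comap e.toMonoidHom := ⟨_, rfl⟩
    have hmemA : ∀ y : X, y ∈ A₀ ↔ e y ∈ qdAb p := by
      intro y; rw [hA₀]; rfl
    have hA₀T : A₀ ≤ (T₀ : Subgroup X) := by
      intro y hy
      rw [hmemT]
      exact qdAb_le_U ((hmemA y).mp hy)
    have hA₀c : IsMulCommutative A₀ := by
      refine ⟨⟨?_⟩⟩
      rintro ⟨x, hx⟩ ⟨y, hy⟩
      apply Subtype.ext
      show x * y = y * x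
      apply e.injective
      rw [map_mul, map_mul]
      exact qdAb_comm _ _ ((hmemA x).mp hx) ((hmemA y).mp hy)
    have hcardA : Nat.card A₀ = p ^ 2 := by
      have h1 : A₀.map e.toMonoidHom = qdAb p := by
        rw [hA₀]; exact Subgroup.map_comap_eq_self_of_surjective e.surjective _
      rw [← Subgroup.card_map_of_injective (K := A₀) hinj, h1, card_qdAb]
    have hcardT : Nat.card (T₀ : Subgroup X) = p ^ 3 := by
      have h1 : (T₀ : Subgroup X).map e.toMonoidHom = U p := by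
        ext y
        constructor
        · rintro ⟨x, hx, rfl⟩
          exact (hmemT x).mp hx
        · intro hy
          exact ⟨e.symm y, (hmemT _).mpr (by rw [e.apply_symm_apply]; exact hy), e.apply_symm_apply y⟩
      rw [← Subgroup.card_map_of_injective (K := (T₀ : Subgroup X)) hinj, h1, card_U]
    have hA₀fam : A₀ ∈ fam (fun A : Subgroup X => IsMulCommutative A) (T₀ : Subgroup X) := by
      refine ⟨hA₀T, hA₀c, ?_⟩
      intro B hBT hBc
      rw [hcardA]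
      have hdvd : Nat.card B ∣ p ^ 3 := by
        rw [← hcardT]
        exact Subgroup.card_dvd_of_le hBT
      obtain ⟨k, hk3, hk⟩ := (Nat.dvd_prime_pow hpp).mp hdvd
      rw [hk]
      apply Nat.pow_le_pow_right hpp.pos
      by_contra hk2
      have hk3' : k = 3 := by omega
      have hBeq : B = (T₀ : Subgroup X) :=
        Subgroup.eq_of_le_of_card_ge hBT (by rw [hcardT, hk, hk3'])
      apply U_not_comm (p := p)
      intro x hx y hy
      have hx' : e.symm x ∈ B := by rw [hBeq, hmemT, e.apply_symm_apply]; exact hx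
      have hy' : e.symm y ∈ B := by rw [hBeq, hmemT, e.apply_symm_apply]; exact hy
      have hc := hBc.is_comm.comm (⟨e.symm x, hx'⟩ : B) ⟨e.symm y, hy'⟩
      have hc' : e.symm x * e.symm y = e.symm y * e.symm x := congrArg Subtype.val hc
      have := congrArg e hc'
      simpa using this
    have hle : Z ≤ A₀ := by rw [hZfam]; exact famInf_le_mem hA₀fam
    have hbA := (hmemA b).mp (hle hbZ)
    rw [heb] at hbA
    obtain ⟨a', c', h1⟩ := hbA
    have h2 : hs (0 : ZMod p) 1 0 = hs a' 0 c' := h1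
    obtain ⟨-, h3, -⟩ := hs_inj h2
    exact one_ne_zero h3
  -- (iii) the control statement fails
  obtain ⟨T', hZT', hctl⟩ := hall T₀
  rw [← hZ] at hZT' hctl
  -- O_p(X) ≤ T'
  obtain ⟨V', hV'⟩ : ∃ V' : Subgroup X, V' = (affTransl (isAff_qd p)).comap e.toMonoidHom := ⟨_, rfl⟩
  have hV'n : V'.Normal := by rw [hV']; infer_instance
  have hV'p : IsPGroup p V' := by
    rw [hV']
    exact (affTransl_isPGroup (isAff_qd p) p).comap_of_injective e.toMonoidHom hinj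
  have hV'T : V' ≤ (T' : Subgroup X) := hV'p.le_sylow_of_normal T'
  have hbT' : b ∈ (T' : Subgroup X) := by
    apply hV'T
    rw [hV']
    show e b ∈ affTransl (isAff_qd p)
    rw [heb]
    exact hs_zero_mem_affTransl 1 0
  have hA : ({a} : Set X) ⊆ (T' : Subgroup X) := by
    intro x hx
    rw [Set.mem_singleton_iff.mp hx]
    exact hZT' haZ
  obtain ⟨-, h2⟩ := hctl {a} hA
  obtain ⟨x, hx, hxa⟩ := h2 g (by
    rintro _ ⟨y, hy, rfl⟩
    rw [Set.mem_singleton_iff.mp hy]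
    show g * a * g⁻¹ ∈ (T' : Subgroup X)
    rw [hgab]
    exact hbT')
  have h3 := hxa a (Set.mem_singleton a)
  rw [hgab] at h3
  apply hbZ
  rw [h3]
  exact (Subgroup.mem_normalizer_iff.mp hx a).mp haZ

end Cfsg.Agent.Lib.Helper10
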