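/-
Helper10: S1936-[M0] (sheet notes/helper22_S1936_sheet.md, B5-B7) in `_of` form: the single-prime signalizer
functor theorem S1285 produces the strongly embedded subgroup `M0`.  The modules RK, FUN, PG, EQV, STAR, SE0 of the
skeleton enter as hypotheses.
-/
import Mathlib
import Cfsg.Agent.Lib.Helper22.S1936Defs
import Cfsg.Agent.S1285

set_option autoImplicit false
set_option linter.unusedSectionVars false
universe u

namespace Cfsg.Agent.Lib.Helper10.S1936

open Cfsg.Agent.Lib.Helper22.S1936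

variable {G : Type u} [Group G] [Finite G] {p : ℕ} [Fact p.Prime]

/-- a subgroup mapped into itself by conjugation with `g` and with `g⁻¹` is normalized by `g` -/
theorem mem_normalizer_of_map_le {W : Subgroup G} {g : G}
    (h1 : W.map (MulAut.conj g).toMonoidHom ≤ W) (h2 : W.map (MulAut.conj g⁻¹).toMonoidHom ≤ W) :
    g ∈ Subgroup.normalizer (W : Set G) := by
  rw [Subgroup.mem_normalizer_iff]
  intro x
  constructor
  · intro hx
    exact h1 ⟨x, hx, rfl⟩
  · intro hx
    have h3 := h2 ⟨g * x * g⁻¹, hx, rfl⟩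
    simpa [mul_assoc] using h3

/-- Sylow 2-subgroups are commutative under `HP` for an odd prime `p`. -/
theorem sylow_two_comm (hp : HP p G) (hp2 : p ≠ 2) (T : Sylow 2 G) :
    ∀ x ∈ (T : Subgroup G), ∀ y ∈ (T : Subgroup G), x * y = y * x := by
  have hcop : (Nat.card ↥(T : Subgroup G)).Coprime p := by
    obtain ⟨k, hk⟩ := (IsPGroup.iff_card.1 T.isPGroup')
    rw [hk]
    apply Nat.Coprime.pow_left
    rw [Nat.coprime_primes Nat.prime_two (Fact.out : p.Prime)]
    exact fun h => hp2 h.symm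
  obtain ⟨hc, -⟩ := hp (T : Subgroup G) hcop
  intro x hx y hy
  have := hc.is_comm.comm ⟨x, hx⟩ ⟨y, hy⟩
  exact congrArg Subtype.val this

/-- `N(T) ≤ N(Ω₁(T))` -/
theorem normalizer_le_normalizer_omega1 (T : Subgroup G)
    (hT : ∀ x ∈ T, ∀ y ∈ T, x * y = y * x) :
    Subgroup.normalizer (T : Set G) ≤ Subgroup.normalizer ((omega1 T : Subgroup G) : Set G) := by
  have key : ∀ g ∈ Subgroup.normalizer (T : Set G), ∀ t ∈ omega1 T, g * t * g⁻¹ ∈ omega1 T := by
    intro g hg t ht
    rw [mem_omega1 T hT] at ht ⊢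
    refine ⟨(Subgroup.mem_normalizer_iff.1 hg t).1 ht.1, ?_⟩
    rw [conj_pow, ht.2, mul_one, mul_inv_cancel]
  intro g hg
  rw [Subgroup.mem_normalizer_iff]
  intro t
  constructor
  · exact key g hg t
  · intro h
    have h3 := key g⁻¹ (inv_mem hg) _ h
    simpa [mul_assoc] using h3

/-- S1936-[M0] in `_of` form. -/
theorem exists_stronglyEmbedded_of (hG : MinCE p G) (T : Sylow 2 G)
    (hRK : 8 ≤ Nat.card ↥(omega1 (T : Subgroup G)))
    (hFUN : Cfsg.IsSolvableSignalizerFunctor 2 (omega1 (T : Subgroup G)) (theta p))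
    (hPG : ∀ a : G, IsPGroup p ↥(theta p a))
    (hEQV : ∀ g a : G, theta p (g * a * g⁻¹) = (theta p a).map (MulAut.conj g).toMonoidHom)
    (hSTAR : ∀ a ∈ (T : Subgroup G), orderOf a = 2 → ∀ c ∈ Subgroup.centralizer ({a} : Set G),
      ∃ r ∈ theta p a, ∃ n ∈ Subgroup.centralizer ({a} : Set G) ⊓
        Subgroup.normalizer ((T : Subgroup G) : Set G), c = r * n)
    (hSE0 : ∀ M : Subgroup G, M ≠ ⊤ → Subgroup.normalizer ((T : Subgroup G) : Set G) ≤ M →
      (∀ a ∈ (T : Subgroup G), orderOf a = 2 → Subgroup.centralizer ({a} : Set G) ≤ M) →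
      Cfsg.IsStronglyEmbedded M) :
    ∃ M : Subgroup G, Cfsg.IsStronglyEmbedded M ∧
      Subgroup.normalizer ((T : Subgroup G) : Set G) ≤ M ∧
      ∀ a ∈ (T : Subgroup G), orderOf a = 2 → Subgroup.centralizer ({a} : Set G) ≤ M := by
  classical
  have hpp : p.Prime := Fact.out
  have hp2 : p ≠ 2 := by
    have := hG.hp5
    omega
  have hTc := sylow_two_comm hG.hp hp2 T
  obtain ⟨A, hA⟩ : ∃ A : Subgroup G, A = omega1 (T : Subgroup G) := ⟨_, rfl⟩
  rw [← hA] at hRK hFUN
  have hmemA : ∀ {t : G}, t ∈ A ↔ t ∈ (T : Subgroup G) ∧ t ^ 2 = 1 := by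
    intro t
    rw [hA]
    exact mem_omega1 _ hTc
  -- `A` is elementary abelian
  have hAel : Cfsg.IsElementaryAbelian 2 A := by
    refine ⟨⟨⟨fun x y => ?_⟩⟩, fun a ha => (hmemA.1 ha).2⟩
    exact Subtype.ext (hTc x.1 (hmemA.1 x.2).1 y.1 (hmemA.1 y.2).1)
  have : Fact (Nat.Prime 2) := ⟨Nat.prime_two⟩
  have hcomp := Cfsg.Agent.S1285.result 2 A hAel (by norm_num; exact hRK) (theta p) hFUN p
    (fun a _ _ => hPG a)
  obtain ⟨-, X, hXinv, hXodd, hXθ⟩ := hcomp
  -- the closure `W`
  obtain ⟨W, hW⟩ : ∃ W : Subgroup G, W = Cfsg.signalizerClosure A (theta p) := ⟨_, rfl⟩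
  have hθW : ∀ a ∈ A, a ≠ 1 → theta p a ≤ W := by
    intro a ha ha1
    rw [hW]
    exact le_iSup (fun a : {a : G // a ∈ A ∧ a ≠ 1} => theta p (a : G)) ⟨a, ha, ha1⟩
  have hWX : W ≤ X := by
    rw [hW]
    refine iSup_le fun a => ?_
    rw [← hXθ a.1 a.2.1 a.2.2]
    exact inf_le_left
  have hWodd : ¬ 2 ∣ Nat.card ↥W := fun h =>
    hXodd (h.trans (Subgroup.card_dvd_of_le hWX))
  have h2G : 2 ∣ Nat.card G := hG.even.two_dvd
  have hWtop : W ≠ ⊤ := by
    intro h
    apply hWodd
    rw [h, Subgroup.card_top]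
    exact h2G
  -- `N(A)` normalizes `W`
  have hNAW : Subgroup.normalizer ((A : Subgroup G) : Set G) ≤ Subgroup.normalizer ((W : Subgroup G) : Set G) := by
    have key : ∀ g ∈ Subgroup.normalizer ((A : Subgroup G) : Set G),
        W.map (MulAut.conj g).toMonoidHom ≤ W := by
      intro g hg
      rw [hW, Cfsg.signalizerClosure, Subgroup.map_iSup]
      refine iSup_le fun a => ?_
      rw [← hEQV g a.1]
      have h1 : g * a.1 * g⁻¹ ∈ A := (Subgroup.mem_normalizer_iff.1 hg a.1).1 a.2.1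
      have h2 : g * a.1 * g⁻¹ ≠ 1 := by
        intro h
        apply a.2.2
        have : a.1 = g⁻¹ * (g * a.1 * g⁻¹) * g := by group
        rw [this, h]
        group
      exact (hθW _ h1 h2).trans (le_of_eq hW)
    intro g hg
    exact mem_normalizer_of_map_le (key g hg) (key g⁻¹ (inv_mem hg))
  have hNTA : Subgroup.normalizer ((T : Subgroup G) : Set G) ≤ Subgroup.normalizer ((A : Subgroup G) : Set G) := by
    rw [hA]
    exact normalizer_le_normalizer_omega1 _ hTc
  have := hG.simple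
  -- `A` is neither trivial nor everything
  have hAbot : A ≠ ⊥ := by
    intro h
    rw [h, Subgroup.card_bot] at hRK
    omega
  have hAtop : A ≠ ⊤ := by
    intro h
    apply hG.nonsolv
    have hcomm : ∀ x y : G, x * y = y * x := by
      intro x y
      have hx : x ∈ A := by rw [h]; exact Subgroup.mem_top x
      have hy : y ∈ A := by rw [h]; exact Subgroup.mem_top y
      exact hTc x (hmemA.1 hx).1 y (hmemA.1 hy).1
    exact Group.isSolvable_of_comm hcomm
  -- the subgroup `M0`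
  obtain ⟨M, hM⟩ : ∃ M : Subgroup G,
      M = if W = ⊥ then Subgroup.normalizer ((A : Subgroup G) : Set G)
        else Subgroup.normalizer ((W : Subgroup G) : Set G) := ⟨_, rfl⟩
  have hMtop : M ≠ ⊤ := by
    intro h
    by_cases hWb : W = ⊥
    · rw [hM, if_pos hWb] at h
      have hAn : A.Normal := Subgroup.normalizer_eq_top_iff.1 h
      rcases hAn.eq_bot_or_eq_top with h' | h'
      · exact hAbot h'
      · exact hAtop h'
    · rw [hM, if_neg hWb] at h
      have hWn : W.Normal := Subgroup.normalizer_eq_top_iff.1 h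
      rcases hWn.eq_bot_or_eq_top with h' | h'
      · exact hWb h'
      · exact hWtop h'
  have hNAM : Subgroup.normalizer ((A : Subgroup G) : Set G) ≤ M := by
    by_cases hWb : W = ⊥
    · rw [hM, if_pos hWb]
    · rw [hM, if_neg hWb]
      exact hNAW
  have hNTM : Subgroup.normalizer ((T : Subgroup G) : Set G) ≤ M := hNTA.trans hNAM
  have hθM : ∀ a ∈ A, a ≠ 1 → theta p a ≤ M := by
    intro a ha ha1
    by_cases hWb : W = ⊥
    · have := hθW a ha ha1
      rw [hWb] at this
      exact this.trans bot_le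
    · rw [hM, if_neg hWb]
      exact (hθW a ha ha1).trans Subgroup.le_normalizer
  have hCM : ∀ a ∈ (T : Subgroup G), orderOf a = 2 → Subgroup.centralizer ({a} : Set G) ≤ M := by
    intro a haT ha c hc
    obtain ⟨r, hr, n, hn, rfl⟩ := hSTAR a haT ha c hc
    have haA : a ∈ A := hmemA.2 ⟨haT, by rw [← ha]; exact pow_orderOf_eq_one a⟩
    have ha1 : a ≠ 1 := by
      rintro rfl
      rw [orderOf_one] at ha
      omega
    exact mul_mem (hθM a haA ha1 hr) (hNTM hn.2)
  exact ⟨M, hSE0 M hMtop hNTM hCM, hNTM, hCM⟩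

end Cfsg.Agent.Lib.Helper10.S1936
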