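/-
Helper10: S1936-[M0] exact skeleton statement `exists_stronglyEmbedded` (sheet notes/helper22_S1936_sheet.md, B5-B7),
assembled from the `_of` form and the landed modules RK, FUN, STAR (helper93), PG, EQV, SE0 (helper25).
-/
import Mathlib
import Cfsg.Agent.Lib.Helper10.S1936M0Of
import Cfsg.Agent.Lib.Helper93.S1936Star
import Cfsg.Agent.Lib.Helper25.S1936SE0

set_option autoImplicit false
universe u

namespace Cfsg.Agent.Lib.Helper10.S1936

open Cfsg.Agent.Lib.Helper22.S1936

variable {G : Type u} [Group G] [Finite G] {p : ℕ} [Fact p.Prime]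

/-- SIGM-[M0] (B5–B7): S1285 produces the strongly embedded subgroup (exact skeleton statement). -/
theorem exists_stronglyEmbedded (hG : MinCE p G) (T : Sylow 2 G) :
    ∃ M : Subgroup G, Cfsg.IsStronglyEmbedded M ∧
      Subgroup.normalizer ((T : Subgroup G) : Set G) ≤ M ∧
      ∀ a ∈ (T : Subgroup G), orderOf a = 2 → Subgroup.centralizer ({a} : Set G) ≤ M :=
  exists_stronglyEmbedded_of hG T (Cfsg.Agent.Lib.Helper93.S1936.card_omega1_ge hG T)
    (Cfsg.Agent.Lib.Helper93.S1936.theta_signalizer hG T)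
    (fun a => Cfsg.Agent.Lib.Helper25.S1936.theta_isPGroup a)
    (fun g a => Cfsg.Agent.Lib.Helper25.S1936.theta_conj g a)
    (fun a haT ha c hc => Cfsg.Agent.Lib.Helper93.S1936.centralizer_factor hG T haT ha c hc)
    (Cfsg.Agent.Lib.Helper25.S1936.stronglyEmbedded_of hG T)

end Cfsg.Agent.Lib.Helper10.S1936
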