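import Mathlib
import Cfsg.Prelude.Def_LocalEven
import Cfsg.Agent.Lib.Helper10.FreeStable2
import Cfsg.Agent.Lib.Helper10.FreeStable3

/-!
# S2004 from the weak Dickson theorem (helper10)

`s2004_core`: for odd... (no parity needed here beyond `WeakDickson p`): if `SL₂(p)` is involved in
no `N_G(P)`, `P ≠ 1` a `p`-subgroup, every section of `G` is `p`-stable in the normalizer form.
-/

set_option autoImplicit false
open Cfsg

namespace Cfsg.Agent.Lib.Helper10

universe u

theorem s2004_core {G : Type u} [Group G] [Finite G] {p : ℕ} [Fact p.Prime] (hD : WeakDickson p)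
    (h : ∀ P : Subgroup G, IsPGroup p ↥P → P ≠ ⊥ →
      ¬ Cfsg.Involves (Matrix.SpecialLinearGroup (Fin 2) (ZMod p))
        ↥(Subgroup.normalizer ((P : Subgroup G) : Set G))) :
    ∀ (K R : Subgroup G) [hR : (R.subgroupOf K).Normal],
      Cfsg.IsNormalizerPStable p (↥K ⧸ R.subgroupOf K) := by
  intro K R hR
  apply isNormalizerPStable_of_free hD
  intro P hP hP1 hinv
  obtain ⟨P₀, hP₀, hP₀1, hinv₀⟩ := involves_normalizer_of_section K R P hP hP1 hinv
  exact h P₀ hP₀ hP₀1 hinv₀

end Cfsg.Agent.Lib.Helper10
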